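import Cfsg.Agent.H62.PFive.World

/-!
An essential subgroup moving the centre of a group of order `p ^ 5` without abelian subgroups of
index `p` is elementary abelian of order `p ^ 2` or `p ^ 3`.
-/

set_option autoImplicit false
set_option linter.unusedSectionVars false
set_option linter.style.haveILetI false
set_option linter.deprecated false
set_option linter.unusedSimpArgs false

open scoped commutatorElement

namespace H62.PFive

universe u

variable {G : Type u} [Group G] [Finite G] {p : ℕ} [hp : Fact p.Prime] {w : World G p}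
  {E : Subgroup G}

/-- In an abelian essential subgroup a normal `p`-group of automorphisms is trivial. -/
theorem Ess.eq_one (hE : Ess w E) (hc : ∀ a b : E, a * b = b * a) {K : Subgroup (MulAut E)}
    (hK : K ≤ w.aut E) (hn : ∀ α ∈ w.aut E, ∀ k ∈ K, α * k * α⁻¹ ∈ K) (hKp : IsPGroup p K)
    {k : MulAut E} (hk : k ∈ K) : k = 1 := by
  obtain ⟨e, he⟩ := hE.radical K hK hn hKp k hk
  exact MulEquiv.ext fun x => by rw [he, hc e x, mul_inv_cancel_right]; rfl

theorem isPGroup_cj (hG : IsPGroup p G) (H : Subgroup G) : IsPGroup p (World.cj H).range :=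
  (hG.to_subgroup _).of_surjective _ (World.cj H).rangeRestrict_surjective

theorem exists_cj_ne_one (hG : IsPGroup p G) (hE : Ess w E) (htop : E ≠ ⊤) :
    ∃ g : Subgroup.normalizer (E : Set G), (g : G) ∉ E ∧ World.cj E g ≠ 1 := by
  haveI := hG.isNilpotent
  have hlt := Group.normalizerCondition_of_isNilpotent E (lt_top_iff_ne_top.2 htop)
  obtain ⟨g, hg, hgE⟩ := SetLike.exists_of_lt hlt
  refine ⟨⟨g, hg⟩, hgE, fun h => hgE (hE.cent (Subgroup.mem_centralizer_iff.2 fun x hx => ?_))⟩
  have h1 := congrArg (fun φ : MulAut E => ((φ ⟨x, hx⟩ : E) : G)) h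
  simp only [World.cj_apply, MulAut.one_apply] at h1
  exact (mul_inv_eq_iff_eq_mul.1 h1).symm

/-- No invariant chain with steps of order `p`. -/
theorem Ess.false_of_flag (hG : IsPGroup p G) (hE : Ess w E) (htop : E ≠ ⊤)
    (hc : ∀ a b : E, a * b = b * a) {L : ℕ → Subgroup E} {n : ℕ} (h0 : L 0 = ⊥) (hn : L n = ⊤)
    (hcard : ∀ i < n, L i ≤ L (i + 1) ∧ Nat.card (L (i + 1)) = p * Nat.card (L i))
    (hinv : ∀ α ∈ w.aut E, ∀ i ≤ n, ∀ g ∈ L i, α g ∈ L i) : False := by
  haveI hnorm : ∀ i, (L i).Normal := fun i =>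
    ⟨fun a ha g => by rwa [hc g a, mul_inv_cancel_right]⟩
  obtain ⟨m, hm⟩ := IsPGroup.iff_card.1 (hG.to_subgroup E)
  -- the stabiliser is trivial
  have hK : ∀ δ ∈ w.aut E, δ ∈ chainStab L n → δ = 1 := by
    intro δ hδ hδc
    refine hE.eq_one hc (K := w.aut E ⊓ chainStab L n) inf_le_left (fun α hα k hk => ⟨?_, ?_⟩)
      ((isPGroup_chainStab hm h0 hn).to_le inf_le_right) ⟨hδ, hδc⟩
    · exact (w.aut E).mul_mem ((w.aut E).mul_mem hα hk.1) ((w.aut E).inv_mem hα)
    · refine conj_mem_chainStab hk.2 fun i hi g => ⟨fun hg => hinv α hα i hi g hg, fun hg => ?_⟩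
      have := hinv α⁻¹ (inv_mem hα) i hi _ hg
      rwa [MulAut.inv_apply_self] at this
  -- so the automorphisms commute
  have hab : ∀ α ∈ w.aut E, ∀ β ∈ w.aut E, α * β = β * α := by
    intro α hα β hβ
    have hmem : α * β * (β * α)⁻¹ ∈ w.aut E := mul_mem (mul_mem hα hβ) (inv_mem (mul_mem hβ hα))
    refine mul_inv_eq_one.1 (hK _ hmem ⟨fun i hi g hg => hinv _ hmem i hi g hg, fun i hi g hg => ?_⟩)
    obtain ⟨g', hg', rfl⟩ : ∃ g' ∈ L (i + 1), (β * α) g' = g := by
      refine ⟨(β * α)⁻¹ g, hinv _ (inv_mem (mul_mem hβ hα)) (i + 1) hi g hg, ?_⟩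
      rw [MulAut.apply_inv_self]
    rw [MulAut.mul_apply, MulAut.inv_apply_self, MulAut.mul_apply, MulAut.mul_apply]
    obtain ⟨hle, hc'⟩ := hcard i hi
    obtain ⟨g₀, hg₀, hg₀i⟩ : ∃ g₀ ∈ L (i + 1), g₀ ∉ L i := by
      by_contra hcon
      push Not at hcon
      have := Nat.card_le_card_of_injective _ (Subgroup.inclusion_injective (show L (i + 1) ≤ L i from hcon))
      rw [hc'] at this
      have := hp.out.two_le
      have := Nat.card_pos (α := L i)
      nlinarith
    set q := QuotientGroup.mk' (L i)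
    have hq : ∀ x ∈ L (i + 1), ∃ k : ℕ, q x = q g₀ ^ k := fun x hx => by
      obtain ⟨k, hk⟩ := exists_pow_mem hle hc' hg₀ hg₀i hx
      exact ⟨k, by rw [← map_pow]; exact (QuotientGroup.eq.2 hk).symm⟩
    have hmap : ∀ γ ∈ w.aut E, ∀ x y : E, q x = q y → q (γ x) = q (γ y) := by
      intro γ hγ x y hxy
      refine QuotientGroup.eq.2 ?_
      rw [← map_inv, ← map_mul]
      exact hinv γ hγ i hi.le _ (QuotientGroup.eq.1 hxy)
    obtain ⟨a, ha⟩ := hq _ (hinv α hα (i + 1) hi g₀ hg₀)
    obtain ⟨b, hb⟩ := hq _ (hinv β hβ (i + 1) hi g₀ hg₀)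
    obtain ⟨k, hk⟩ := hq _ hg'
    have hαk : ∀ j : ℕ, ∀ x, q x = q g₀ ^ j → q (α x) = q g₀ ^ (a * j) := fun j x hx => by
      rw [hmap α hα x (g₀ ^ j) (by rw [hx, map_pow]), map_pow, map_pow, ha, ← pow_mul]
    have hβk : ∀ j : ℕ, ∀ x, q x = q g₀ ^ j → q (β x) = q g₀ ^ (b * j) := fun j x hx => by
      rw [hmap β hβ x (g₀ ^ j) (by rw [hx, map_pow]), map_pow, map_pow, hb, ← pow_mul]
    refine (QuotientGroup.eq_one_iff _).1 ?_
    show q (α (β g') * (β (α g'))⁻¹) = 1
    rw [map_mul, map_inv, hαk _ _ (hβk _ _ hk), hβk _ _ (hαk _ _ hk), ← mul_assoc, ← mul_assoc,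
      mul_comm a b, mul_inv_cancel]
  -- and an inner one is then trivial
  obtain ⟨g, -, hg⟩ := exists_cj_ne_one hG hE htop
  refine hg (hE.eq_one hc (K := Subgroup.zpowers (World.cj E g))
    (Subgroup.zpowers_le.2 (w.cj_mem E g)) (fun α hα k hk => ?_) ?_ (Subgroup.mem_zpowers _))
  · rw [hab α hα k ((Subgroup.zpowers_le.2 (w.cj_mem E g)) hk), mul_inv_cancel_right]
    exact hk
  · exact (isPGroup_cj hG E).to_le (Subgroup.zpowers_le.2 ⟨g, rfl⟩)

theorem eq_bot_or_card_le {K : Type*} [Group K] [Finite K] (hK : IsPGroup p K) {H : Subgroup K}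
    (hH : H ≠ ⊥) : p ∣ Nat.card H := by
  rcases (hK.to_subgroup H).card_eq_or_dvd with h | h
  · exact absurd (Subgroup.card_eq_one.1 h) hH
  · exact h

/-- The essential subgroup is elementary abelian of order `p ^ 2` or `p ^ 3`. -/
theorem Ess.cases (hcard : Nat.card G = p ^ 5)
    (hno : ∀ A : Subgroup G, Nat.card A = p ^ 4 → ¬ IsMulCommutative A) (hE : Ess w E) :
    (∀ a b : E, a * b = b * a) ∧ (∀ a : E, a ^ p = 1) ∧
      (Nat.card E = p ^ 2 ∨ Nat.card E = p ^ 3) := by
  have hG : IsPGroup p G := IsPGroup.of_card hcard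
  obtain ⟨α₀, hα₀, z, hz, hαz⟩ := hE.move
  have hp2 := hp.out.two_le
  obtain ⟨k, hk5, hk⟩ := (Nat.dvd_prime_pow hp.out).1 (hcard ▸ Subgroup.card_subgroup_dvd_card E)
  have hzc : z ∈ Subgroup.center E := Subgroup.mem_center_iff.2 fun e =>
    Subtype.ext (Subgroup.mem_center_iff.1 hz e)
  have hαzc : α₀ z ∈ Subgroup.center E := Subgroup.mem_center_iff.2 fun e => by
    obtain ⟨e, rfl⟩ := α₀.surjective e
    rw [← map_mul, ← map_mul, Subgroup.mem_center_iff.1 hzc e]
  have hz1 : z ≠ 1 := fun h => hαz (by rw [h, map_one]; exact one_mem _)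
  have htop : E ≠ ⊤ := by
    intro h
    refine hαz (Subgroup.mem_center_iff.2 fun g => ?_)
    have := Subgroup.mem_center_iff.1 hαzc ⟨g, h ▸ Subgroup.mem_top g⟩
    exact congrArg Subtype.val this
  have hk4 : k ≠ 5 := fun h => htop (Subgroup.eq_top_of_card_eq E (by rw [hk, hcard, h]))
  have hk2 : 2 ≤ k := by
    by_contra hlt
    have hle : Subgroup.zpowers (z : G) ≤ E := Subgroup.zpowers_le.2 z.2
    have heq : Subgroup.zpowers (z : G) = E := by
      refine Subgroup.eq_of_le_of_card_ge hle ?_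
      have hd := eq_bot_or_card_le hG (H := Subgroup.zpowers (z : G)) (fun h => hz1
        (Subtype.ext (Subgroup.mem_bot.1 (h ▸ Subgroup.mem_zpowers (z : G)))))
      rw [hk]
      calc p ^ k ≤ p ^ 1 := Nat.pow_le_pow_right hp.out.pos (by omega)
        _ = p := pow_one p
        _ ≤ _ := Nat.le_of_dvd Nat.card_pos hd
    refine htop (eq_top_iff.2 fun g _ => hE.cent (Subgroup.mem_centralizer_iff.2 fun x hx => ?_))
    have hx' : x ∈ Subgroup.center G := (Subgroup.zpowers_le.2 hz) (heq.symm ▸ hx)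
    exact (Subgroup.mem_center_iff.1 hx' g).symm
  -- the centre of a nonabelian `E` does not move
  have hc : ∀ a b : E, a * b = b * a := by
    by_contra hnc
    push Not at hnc
    obtain ⟨a, b, hab⟩ := hnc
    set Z := Subgroup.center E
    have hZtop : Z.index ≠ 1 := fun h => hab ((Subgroup.mem_center_iff.1
      ((Subgroup.index_eq_one.1 h).ge (Subgroup.mem_top a)) b).symm)
    have hEp : IsPGroup p E := hG.to_subgroup E
    have hidx : p ^ 2 ≤ Z.index := by
      obtain ⟨i, hi⟩ := hEp.index Z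
      rw [hi]
      refine Nat.pow_le_pow_right hp.out.pos ?_
      by_contra hlt
      rcases Nat.lt_or_ge i 1 with h | h
      · exact hZtop (by rw [hi, show i = 0 by omega, pow_zero])
      · have hcyc : IsCyclic (E ⧸ Z) := isCyclic_of_prime_card
          (show Nat.card (E ⧸ Z) = p by rw [← Subgroup.index_eq_card, hi, show i = 1 by omega, pow_one])
        exact hab (commutative_of_cyclic_center_quotient (QuotientGroup.mk' Z)
          (by rw [QuotientGroup.ker_mk']) a b)
    have hmul := Z.card_mul_index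
    rw [hk] at hmul
    -- the centre of `G` in `E`
    set Z' : Subgroup E := (Subgroup.center G).subgroupOf E
    have hZ'le : Z' ≤ Z := fun x hx => Subgroup.mem_center_iff.2 fun e =>
      Subtype.ext (Subgroup.mem_center_iff.1 (Subgroup.mem_subgroupOf.1 hx) e)
    have hzZ' : z ∈ Z' := Subgroup.mem_subgroupOf.2 hz
    have hne : ¬ Z ≤ Z' := fun h => hαz (Subgroup.mem_subgroupOf.1 (h hαzc))
    obtain ⟨i, hi⟩ := IsPGroup.iff_card.1 (hEp.to_subgroup Z)
    obtain ⟨j, hj⟩ := IsPGroup.iff_card.1 (hEp.to_subgroup Z')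
    have hj1 : 1 ≤ j := by
      by_contra h
      have hb : Z' = ⊥ := Subgroup.card_eq_one.1 (by rw [hj, show j = 0 by omega, pow_zero])
      exact hz1 (Subgroup.mem_bot.1 (hb ▸ hzZ'))
    have hji : j < i := by
      by_contra h
      refine hne (Subgroup.eq_of_le_of_card_ge hZ'le ?_).ge
      rw [hi, hj]
      exact Nat.pow_le_pow_right hp.out.pos (by omega)
    have hi2 : i + 2 ≤ k := by
      by_contra h
      have : p ^ k < p ^ (i + 2) := Nat.pow_lt_pow_right (by omega) (by omega)
      rw [pow_add] at this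
      have := Nat.mul_le_mul_left (p ^ i) hidx
      rw [hi] at hmul
      omega
    have hk4' : k = 4 := by omega
    have hi2' : i = 2 := by omega
    have hj1' : j = 1 := by omega
    -- `E` is normal and its derived subgroup has order `p`
    haveI hEn : E.Normal := by
      have hidx4 : E.index = p := by
        have := E.card_mul_index
        rw [hk, hk4', hcard, show p ^ 5 = p ^ 4 * p from pow_succ p 4] at this
        exact Nat.eq_of_mul_eq_mul_left (pow_pos hp.out.pos 4) this
      exact Subgroup.normal_of_index_eq_minFac_card (by rw [hidx4, hcard, Nat.Prime.pow_minFac hp.out (by omega)])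
    have hqc : ∀ x y : E, ⁅x, y⁆ ∈ Z := by
      intro x y
      refine (QuotientGroup.eq_one_iff _).1 ?_
      show QuotientGroup.mk' Z ⁅x, y⁆ = 1
      rw [map_commutatorElement, commutatorElement_eq_one_iff_mul_comm]
      have hq2 : Nat.card (E ⧸ Z) = p ^ 2 := by
        rw [← Subgroup.index_eq_card]
        rw [hi, hi2', hk4', show p ^ 4 = p ^ 2 * p ^ 2 from by ring] at hmul
        exact Nat.eq_of_mul_eq_mul_left (pow_pos hp.out.pos 2) hmul
      exact IsPGroup.commutative_of_card_eq_prime_sq hq2 _ _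
    -- a homomorphism with image containing the derived subgroup
    set T : Subgroup E := Subgroup.zpowers ⁅a, b⁆
    haveI hTn : T.Normal := by
      refine ⟨fun x hx g => ?_⟩
      have : x ∈ Z := (Subgroup.zpowers_le.2 (hqc a b)) hx
      rwa [Subgroup.mem_center_iff.1 this g, mul_inv_cancel_right]
    have hgen : Z ⊔ Subgroup.zpowers a ⊔ Subgroup.zpowers b = ⊤ := by
      have hlt1 : Z < Z ⊔ Subgroup.zpowers a := lt_of_le_of_ne le_sup_left fun h =>
        hab ((Subgroup.mem_center_iff.1 (h ▸ Subgroup.mem_sup_right (Subgroup.mem_zpowers a) : a ∈ Z) b).symm)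
      have hlt2 : Z ⊔ Subgroup.zpowers a < Z ⊔ Subgroup.zpowers a ⊔ Subgroup.zpowers b := by
        refine lt_of_le_of_ne le_sup_left fun h => ?_
        have hb : b ∈ Z ⊔ Subgroup.zpowers a := h ▸ Subgroup.mem_sup_right (Subgroup.mem_zpowers b)
        have hle : Z ⊔ Subgroup.zpowers a ≤ Subgroup.centralizer ({a} : Set E) := by
          refine sup_le (fun x hx => ?_) (Subgroup.zpowers_le.2 ?_)
          · exact Subgroup.mem_centralizer_singleton_iff.2 (Subgroup.mem_center_iff.1 hx a).symm
          · exact Subgroup.mem_centralizer_singleton_iff.2 rfl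
        exact hab (Subgroup.mem_centralizer_singleton_iff.1 (hle hb)).symm
      refine Subgroup.eq_top_of_card_eq _ (le_antisymm (Subgroup.card_le_card_group _) ?_)
      have h1 := H30.card_mul_le_of_lt hEp hlt1
      have h2 := H30.card_mul_le_of_lt hEp hlt2
      rw [hk, hk4']
      rw [hi, hi2'] at h1
      calc p ^ 4 = p * (p * p ^ 2) := by ring
        _ ≤ p * Nat.card ↥(Z ⊔ Subgroup.zpowers a) := Nat.mul_le_mul_left _ h1
        _ ≤ _ := h2
    have hder : ∀ x y : E, ⁅x, y⁆ ∈ T := by
      intro x y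
      refine (QuotientGroup.eq_one_iff _).1 ?_
      show QuotientGroup.mk' T ⁅x, y⁆ = 1
      rw [map_commutatorElement, commutatorElement_eq_one_iff_mul_comm]
      set q := QuotientGroup.mk' T
      have hc0 : ∀ u v : E, u ∈ Z → Commute (q u) (q v) := fun u v hu =>
        (show Commute u v from (Subgroup.mem_center_iff.1 hu v).symm).map q
      have hab' : Commute (q a) (q b) := by
        refine commutatorElement_eq_one_iff_mul_comm.1 ?_
        rw [← map_commutatorElement]
        exact (QuotientGroup.eq_one_iff _).2 (Subgroup.mem_zpowers _)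
      have hall : ∀ u : E, Commute (q u) (q a) ∧ Commute (q u) (q b) := by
        intro u
        have hu : u ∈ Z ⊔ Subgroup.zpowers a ⊔ Subgroup.zpowers b := hgen ▸ Subgroup.mem_top u
        have hle : Z ⊔ Subgroup.zpowers a ⊔ Subgroup.zpowers b ≤
            (Subgroup.centralizer ({q a, q b} : Set (E ⧸ T))).comap q := by
          refine sup_le (sup_le (fun v hv => ?_) (Subgroup.zpowers_le.2 ?_)) (Subgroup.zpowers_le.2 ?_) <;>
            refine Subgroup.mem_comap.2 (Subgroup.mem_centralizer_iff.2 ?_) <;>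
            rintro h (rfl | rfl)
          · exact (hc0 v a hv).eq.symm
          · exact (hc0 v b hv).eq.symm
          · rfl
          · exact hab'.eq.symm
          · exact hab'.eq
          · rfl
        have h := Subgroup.mem_centralizer_iff.1 (hle hu)
        exact ⟨(h _ (Or.inl rfl)).symm, (h _ (Or.inr rfl)).symm⟩
      have hy : y ∈ Z ⊔ Subgroup.zpowers a ⊔ Subgroup.zpowers b := hgen ▸ Subgroup.mem_top y
      have hle : Z ⊔ Subgroup.zpowers a ⊔ Subgroup.zpowers b ≤
          (Subgroup.centralizer ({q x} : Set (E ⧸ T))).comap q := by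
        refine sup_le (sup_le (fun v hv => ?_) (Subgroup.zpowers_le.2 ?_)) (Subgroup.zpowers_le.2 ?_) <;>
          refine Subgroup.mem_comap.2 (Subgroup.mem_centralizer_singleton_iff.2 ?_)
        · exact (hc0 v x hv).eq
        · exact (hall x).1.eq.symm
        · exact (hall x).2.eq.symm
      exact (Subgroup.mem_centralizer_singleton_iff.1 (hle hy)).symm
    set D : Subgroup E := commutator E
    have hDT : D ≤ T := by
      show ⁅(⊤ : Subgroup E), ⊤⁆ ≤ T
      exact Subgroup.commutator_le.2 fun x _ y _ => hder x y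
    have hDn : (D.map E.subtype).Normal := by infer_instance
    have hD1 : D.map E.subtype ≠ ⊥ := fun h => hab (commutatorElement_eq_one_iff_mul_comm.1
      (Subgroup.mem_bot.1 ((Subgroup.map_eq_bot_iff_of_injective _ E.subtype_injective).1 h ▸
        Subgroup.commutator_mem_commutator (Subgroup.mem_top a) (Subgroup.mem_top b))))
    obtain ⟨⟨d, hd⟩, hd1⟩ := Subgroup.ne_bot_iff_exists_ne_one.1 (H30.inf_center_ne_bot hG hDn hD1)
    obtain ⟨⟨d', hd', rfl⟩, hdc⟩ := hd
    have hd'1 : d' ≠ 1 := fun h => hd1 (Subtype.ext (by simp [h]))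
    -- the derived subgroup is the central part
    have hTcard : Nat.card T ∣ p := by
      rw [Nat.card_zpowers]
      refine orderOf_dvd_of_pow_eq_one ?_
      have hbp : b ^ p ∈ Z := by
        have hq2 : Nat.card (E ⧸ Z) = p ^ 2 := by
          rw [← Subgroup.index_eq_card]
          rw [hi, hi2', hk4', show p ^ 4 = p ^ 2 * p ^ 2 from by ring] at hmul
          exact Nat.eq_of_mul_eq_mul_left (pow_pos hp.out.pos 2) hmul
        by_contra hbn
        -- otherwise the quotient by the centre is cyclic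
        have hcyc : IsCyclic (E ⧸ Z) := by
          refine isCyclic_of_orderOf_eq_card (QuotientGroup.mk' Z b) ?_
          rw [hq2]
          refine orderOf_eq_prime_pow (n := 1) ?_ ?_
          · rw [pow_one, ← map_pow]
            exact fun h => hbn ((QuotientGroup.eq_one_iff _).1 h)
          · rw [show (1 + 1) = 2 from rfl, ← hq2]
            exact pow_card_eq_one'
        exact hab (commutative_of_cyclic_center_quotient (QuotientGroup.mk' Z)
          (by rw [QuotientGroup.ker_mk']) a b)
      have h := comm_pow' (s := a) (x := b) rfl (Subgroup.mem_center_iff.1 (hqc a b) a).symm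
        (Subgroup.mem_center_iff.1 (hqc a b) b).symm 1 p
      rw [one_mul, pow_one] at h
      rw [← h, commutatorElement_eq_one_iff_mul_comm]
      exact Subgroup.mem_center_iff.1 hbp a
    have hTd : Subgroup.zpowers d' = T := by
      refine Subgroup.eq_of_le_of_card_ge (Subgroup.zpowers_le.2 (hDT hd')) ?_
      refine (Nat.le_of_dvd hp.out.pos hTcard).trans (Nat.le_of_dvd Nat.card_pos ?_)
      exact eq_bot_or_card_le hEp fun h => hd'1 (Subgroup.mem_bot.1 (h ▸ Subgroup.mem_zpowers d'))
    have hTZ' : T ≤ Z' := hTd ▸ Subgroup.zpowers_le.2 (Subgroup.mem_subgroupOf.2 hdc)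
    have heq : T = Z' := by
      refine Subgroup.eq_of_le_of_card_ge hTZ' ?_
      rw [hj, hj1', pow_one]
      exact Nat.le_of_dvd Nat.card_pos (eq_bot_or_card_le hEp fun h => hd'1
        (Subgroup.mem_bot.1 (h ▸ hDT hd')))
    have hzD : z ∈ D := by
      have hzT : z ∈ T := heq.symm ▸ hzZ'
      rw [← hTd] at hzT
      exact (Subgroup.zpowers_le.2 hd') hzT
    have : α₀ z ∈ D :=
      (Subgroup.characteristic_iff_map_le.1 inferInstance α₀) ⟨z, hzD, rfl⟩
    exact hαz (Subgroup.mem_subgroupOf.1 (hTZ' (hDT this)))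
  -- no abelian subgroup of index `p`
  have hk' : k = 2 ∨ k = 3 := by
    have : k ≠ 4 := fun h => hno E (by rw [hk, h]) ⟨⟨hc⟩⟩
    omega
  refine ⟨hc, ?_, by rcases hk' with rfl | rfl <;> simp [hk]⟩
  -- exponent `p`
  by_contra hexp
  push Not at hexp
  obtain ⟨e, he⟩ := hexp
  letI : CommGroup E := { (inferInstance : Group E) with mul_comm := hc }
  set f : E →* E := powMonoidHom p
  have hEp : IsPGroup p E := hG.to_subgroup E
  have hR : f.range ≠ ⊥ := fun h => he (Subgroup.mem_bot.1 (h ▸ ⟨e, rfl⟩))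
  have hK : f.ker ≠ ⊥ := by
    obtain ⟨x, hx⟩ := exists_prime_orderOf_dvd_card' (G := E) p
      (hk ▸ dvd_pow_self p (by omega))
    exact fun h => by
      have hx1 : x ∈ f.ker := by
        show x ^ p = 1
        rw [← hx, pow_orderOf_eq_one]
      rw [h, Subgroup.mem_bot] at hx1
      rw [hx1, orderOf_one] at hx
      exact hp.out.one_lt.ne hx
  have hmul : Nat.card f.ker * Nat.card f.range = p ^ k := by
    rw [← hk, ← Subgroup.index_ker, Subgroup.card_mul_index]
  obtain ⟨i, hi⟩ := IsPGroup.iff_card.1 (hEp.to_subgroup f.ker)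
  obtain ⟨j, hj⟩ := IsPGroup.iff_card.1 (hEp.to_subgroup f.range)
  have hi0 : i ≠ 0 := fun h => hK (Subgroup.card_eq_one.1 (by rw [hi, h, pow_zero]))
  have hj0 : j ≠ 0 := fun h => hR (Subgroup.card_eq_one.1 (by rw [hj, h, pow_zero]))
  have hij : i + j = k := by
    rw [hi, hj, ← pow_add] at hmul
    exact Nat.pow_right_injective hp2 hmul
  have hinv : ∀ α ∈ w.aut E, (∀ g ∈ f.ker, α g ∈ f.ker) ∧ ∀ g ∈ f.range, α g ∈ f.range := by
    refine fun α _ => ⟨fun g hg => ?_, ?_⟩
    · have hg' : g ^ p = 1 := hg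
      show (α g) ^ p = 1
      rw [← map_pow, hg', map_one]
    · rintro _ ⟨g, rfl⟩
      exact ⟨α g, (map_pow α g p).symm⟩
  have flag2 : ∀ A : Subgroup E, Nat.card A = p → (∀ α ∈ w.aut E, ∀ g ∈ A, α g ∈ A) → k = 2 →
      False := by
    intro A hA hinvA h2
    refine hE.false_of_flag hG htop hc (n := 2) (L := fun t => if t = 0 then ⊥ else if t = 1 then A else ⊤)
      rfl rfl (fun t ht => ?_) (fun α hα t ht g hg => ?_)
    · interval_cases t
      · exact ⟨bot_le, by simp [hA, Subgroup.card_bot]⟩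
      · exact ⟨le_top, by simp [hA, Subgroup.card_top, hk, h2, sq]⟩
    · interval_cases t
      · simp only [↓reduceIte, Subgroup.mem_bot] at hg ⊢
        rw [hg, map_one]
      · exact hinvA α hα g hg
      · exact Subgroup.mem_top _
  have flag3 : ∀ A B : Subgroup E, A ≤ B → Nat.card A = p → Nat.card B = p ^ 2 →
      (∀ α ∈ w.aut E, ∀ g ∈ A, α g ∈ A) → (∀ α ∈ w.aut E, ∀ g ∈ B, α g ∈ B) → k = 3 → False := by
    intro A B hAB hA hB hinvA hinvB h3
    refine hE.false_of_flag hG htop hc (n := 3)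
      (L := fun t => if t = 0 then ⊥ else if t = 1 then A else if t = 2 then B else ⊤)
      rfl rfl (fun t ht => ?_) (fun α hα t ht g hg => ?_)
    · interval_cases t
      · exact ⟨bot_le, by simp [hA, Subgroup.card_bot]⟩
      · exact ⟨hAB, by simp [hA, hB, sq]⟩
      · exact ⟨le_top, by simp [hB, Subgroup.card_top, hk, h3]; ring⟩
    · interval_cases t
      · simp only [↓reduceIte, Subgroup.mem_bot] at hg ⊢
        rw [hg, map_one]
      · exact hinvA α hα g hg
      · exact hinvB α hα g hg
      · exact Subgroup.mem_top _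
  rcases hk' with h2 | h3
  · exact flag2 f.range (by rw [hj, show j = 1 by omega, pow_one]) (fun α hα => (hinv α hα).2) h2
  · rcases (show j = 1 ∨ j = 2 by omega) with h | h
    · have hRc : Nat.card f.range = p := by rw [hj, h, pow_one]
      refine flag3 f.range f.ker (fun g hg => ?_) hRc (by rw [hi, show i = 2 by omega])
        (fun α hα => (hinv α hα).2) (fun α hα => (hinv α hα).1) h3
      have := pow_card_eq_one' (G := f.range) (x := ⟨g, hg⟩)
      rw [hRc] at this
      exact congrArg Subtype.val this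
    · have hKc : Nat.card f.ker = p := by rw [hi, show i = 1 by omega, pow_one]
      refine flag3 f.ker f.range ?_ hKc (by rw [hj, h]) (fun α hα => (hinv α hα).1)
        (fun α hα => (hinv α hα).2) h3
      obtain ⟨⟨x, hx⟩, hox⟩ := exists_prime_orderOf_dvd_card' (G := f.range) p
        (hj ▸ dvd_pow_self p hj0)
      rw [Subgroup.orderOf_mk] at hox
      have hxK : x ∈ f.ker := by
        show x ^ p = 1
        rw [← hox, pow_orderOf_eq_one]
      have hzx : Subgroup.zpowers x = f.ker := Subgroup.eq_of_le_of_card_ge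
        (Subgroup.zpowers_le.2 hxK) (by rw [Nat.card_zpowers, hox, hKc])
      rw [← hzx]
      exact Subgroup.zpowers_le.2 hx

end H62.PFive
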