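import Mathlib
import Cfsg.Agent.H30.Basic

/-!
Small tools: stabilisers of chains, commutator powers, normal steps in `p`-groups.
-/

set_option autoImplicit false
set_option linter.unusedSectionVars false
set_option linter.style.haveILetI false

open scoped commutatorElement

namespace H62.PFive

variable {G : Type*} [Group G]

/-- The automorphisms keeping every term of `L` and acting trivially between consecutive ones. -/
def chainStab [Finite G] (L : ℕ → Subgroup G) (n : ℕ) : Subgroup (MulAut G) where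
  carrier := {α | (∀ i ≤ n, ∀ g ∈ L i, α g ∈ L i) ∧ ∀ i < n, ∀ g ∈ L (i + 1), α g * g⁻¹ ∈ L i}
  one_mem' := ⟨fun i _ g hg => hg, fun i _ g _ => by simp⟩
  mul_mem' := by
    rintro α β ⟨hα, hα'⟩ ⟨hβ, hβ'⟩
    refine ⟨fun i hi g hg => hα i hi _ (hβ i hi g hg), fun i hi g hg => ?_⟩
    have h := (L i).mul_mem (hα i hi.le _ (hβ' i hi g hg)) (hα' i hi g hg)
    simpa [mul_assoc] using h
  inv_mem' := by
    intro α hα
    haveI : Finite (MulAut G) := Finite.of_injective _ DFunLike.coe_injective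
    have key : ∀ m : ℕ, (∀ i ≤ n, ∀ g ∈ L i, (α ^ m) g ∈ L i) ∧
        ∀ i < n, ∀ g ∈ L (i + 1), (α ^ m) g * g⁻¹ ∈ L i := by
      intro m
      induction m with
      | zero => exact ⟨fun i _ g hg => hg, fun i _ g _ => by simp⟩
      | succ m ih =>
        refine ⟨fun i hi g hg => ?_, fun i hi g hg => ?_⟩
        · rw [pow_succ]; exact ih.1 i hi _ (hα.1 i hi g hg)
        · have h := (L i).mul_mem (ih.1 i hi.le _ (hα.2 i hi g hg)) (ih.2 i hi g hg)
          rw [pow_succ]
          simpa [mul_assoc] using h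
    have : α⁻¹ = α ^ (orderOf α - 1) := by
      rw [inv_eq_iff_mul_eq_one, ← pow_succ', Nat.sub_add_cancel (orderOf_pos α), pow_orderOf_eq_one]
    rw [this]
    exact key _

theorem conj_mem_chainStab [Finite G] {L : ℕ → Subgroup G} {n : ℕ} {α γ : MulAut G}
    (hα : α ∈ chainStab L n) (hγ : ∀ i ≤ n, ∀ g, g ∈ L i ↔ γ g ∈ L i) :
    γ * α * γ⁻¹ ∈ chainStab L n := by
  refine ⟨fun i hi g hg => ?_, fun i hi g hg => ?_⟩
  · refine (hγ i hi _).1 (hα.1 i hi _ ?_)
    rw [hγ i hi]
    show γ (γ⁻¹ g) ∈ L i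
    rwa [MulAut.apply_inv_self]
  · have h1 : γ⁻¹ g ∈ L (i + 1) := by
      rw [hγ (i + 1) hi, MulAut.apply_inv_self]
      exact hg
    have h := (hγ i hi.le _).1 (hα.2 i hi _ h1)
    simpa using h

theorem isPGroup_chainStab [Finite G] {p m : ℕ} (hG : Nat.card G = p ^ m) {L : ℕ → Subgroup G}
    {n : ℕ} (h0 : L 0 = ⊥) (hn : L n = ⊤) : IsPGroup p (chainStab L n) := by
  rintro ⟨α, hα⟩
  have key : ∀ i ≤ n, ∃ j : ℕ, ∀ g ∈ L i, (α ^ p ^ j) g = g := by
    intro i hi
    induction i with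
    | zero => exact ⟨0, fun g hg => by rw [h0, Subgroup.mem_bot] at hg; simp [hg]⟩
    | succ i ih =>
      obtain ⟨j, hj⟩ := ih (Nat.le_of_succ_le hi)
      refine ⟨j + m, fun g hg => ?_⟩
      set β := α ^ p ^ j
      have ha : β g * g⁻¹ ∈ L i := ((chainStab L n).pow_mem hα _).2 i hi g hg
      set a := β g * g⁻¹ with hadef
      have hk : ∀ k : ℕ, (β ^ k) g = a ^ k * g := by
        intro k
        induction k with
        | zero => simp
        | succ k ihk =>
          rw [pow_succ', MulAut.mul_apply, ihk, map_mul, map_pow, hj a ha, pow_succ, mul_assoc,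
            hadef, inv_mul_cancel_right]
      rw [pow_add, pow_mul, hk, ← hG, pow_card_eq_one', one_mul]
  obtain ⟨j, hj⟩ := key n le_rfl
  exact ⟨j, Subtype.ext (MulEquiv.ext fun g => hj g (hn ▸ Subgroup.mem_top g))⟩

/-- Powers past a commutator that is central for them. -/
theorem comm_pow {s x w : G} (h : s * x = w * x * s) (hs : Commute w s) (hx : Commute w x)
    (a b : ℕ) : s ^ a * x ^ b = w ^ (a * b) * x ^ b * s ^ a := by
  have h1 : ∀ b : ℕ, s * x ^ b = w ^ b * x ^ b * s := by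
    intro b
    induction b with
    | zero => simp
    | succ b ih =>
      calc s * x ^ (b + 1) = (s * x ^ b) * x := by rw [pow_succ, mul_assoc]
        _ = w ^ b * x ^ b * (s * x) := by rw [ih]; simp only [mul_assoc]
        _ = w ^ b * (x ^ b * w) * x * s := by rw [h]; simp only [mul_assoc]
        _ = w ^ b * (w * x ^ b) * x * s := by rw [(hx.pow_right b).eq]
        _ = w ^ (b + 1) * x ^ (b + 1) * s := by rw [pow_succ, pow_succ]; simp only [mul_assoc]
  induction a with
  | zero => simp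
  | succ a ih =>
    calc s ^ (a + 1) * x ^ b = s * (s ^ a * x ^ b) := by rw [pow_succ', mul_assoc]
      _ = (s * w ^ (a * b)) * x ^ b * s ^ a := by rw [ih]; simp only [mul_assoc]
      _ = w ^ (a * b) * (s * x ^ b) * s ^ a := by
          rw [← (hs.pow_left (a * b)).eq]; simp only [mul_assoc]
      _ = w ^ (a * b) * (w ^ b * x ^ b * s) * s ^ a := by rw [h1]
      _ = w ^ ((a + 1) * b) * x ^ b * s ^ (a + 1) := by
          rw [add_mul, one_mul, pow_add, pow_succ']; simp only [mul_assoc]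

theorem comm_pow' {s x w : G} (h : ⁅s, x⁆ = w) (hs : Commute w s) (hx : Commute w x) (a b : ℕ) :
    ⁅s ^ a, x ^ b⁆ = w ^ (a * b) := by
  have h0 : s * x = w * x * s := by rw [← h, commutatorElement_def]; group
  rw [commutatorElement_def, comm_pow h0 hs hx a b]
  group

variable {p : ℕ}

theorem pow_eq_pow_iff [hp : Fact p.Prime] {c : G} (hcp : c ^ p = 1) (hc : c ≠ 1) (a b : ℕ) :
    c ^ a = c ^ b ↔ (a : ZMod p) = b := by
  rw [pow_eq_pow_iff_modEq, orderOf_eq_prime hcp hc, ZMod.natCast_eq_natCast_iff]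

/-- A subgroup of index `p` in a larger subgroup has cyclic cosets. -/
theorem exists_pow_mem [Finite G] [hp : Fact p.Prime] {A B : Subgroup G} [A.Normal] (hAB : A ≤ B)
    (hcard : Nat.card B = p * Nat.card A) {g : G} (hg : g ∈ B) (hgA : g ∉ A) {x : G} (hx : x ∈ B) :
    ∃ k : ℕ, (g ^ k)⁻¹ * x ∈ A := by
  haveI : (A.subgroupOf B).Normal := Subgroup.normal_subgroupOf
  have hq : Nat.card (B ⧸ A.subgroupOf B) = p := by
    have h := Subgroup.card_eq_card_quotient_mul_card_subgroup (A.subgroupOf B)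
    rw [Nat.card_congr (Subgroup.subgroupOfEquivOfLe hAB).toEquiv, hcard] at h
    exact (Nat.eq_of_mul_eq_mul_right Nat.card_pos h).symm
  have hne : (QuotientGroup.mk (⟨g, hg⟩ : B) : B ⧸ A.subgroupOf B) ≠ 1 := fun h =>
    hgA (Subgroup.mem_subgroupOf.1 ((QuotientGroup.eq_one_iff _).1 h))
  obtain ⟨k, hk⟩ := mem_powers_iff_mem_zpowers.2 (mem_zpowers_of_prime_card hq hne
    (g' := (QuotientGroup.mk (⟨x, hx⟩ : B) : B ⧸ A.subgroupOf B)))
  refine ⟨k, ?_⟩
  have h := hk.symm
  simp only at h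
  rw [← QuotientGroup.mk_pow, eq_comm, QuotientGroup.eq, Subgroup.mem_subgroupOf] at h
  simpa using h

/-- In a `p`-group a normal step of index `p` is central. -/
theorem commutator_mem_of_step [Finite G] [hp : Fact p.Prime] (hG : IsPGroup p G) {A B : Subgroup G}
    [A.Normal] [B.Normal] (hAB : A ≤ B) (hcard : Nat.card B = p * Nat.card A) {b : G} (hb : b ∈ B)
    (g : G) : ⁅g, b⁆ ∈ A := by
  by_cases hbA : b ∈ A
  · rw [commutatorElement_def]
    exact A.mul_mem (Subgroup.Normal.conj_mem inferInstance b hbA g) (A.inv_mem hbA)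
  set q := QuotientGroup.mk' A
  haveI hBn : (B.map q).Normal := Subgroup.Normal.map inferInstance q (QuotientGroup.mk'_surjective A)
  have hQ : IsPGroup p (G ⧸ A) := hG.to_quotient A
  have hne : B.map q ≠ ⊥ := fun h => hbA ((QuotientGroup.eq_one_iff b).1
    (Subgroup.mem_bot.1 (h ▸ Subgroup.mem_map_of_mem q hb)))
  obtain ⟨⟨u, hu⟩, hu1'⟩ := Subgroup.ne_bot_iff_exists_ne_one.1
    (H30.inf_center_ne_bot hQ hBn hne)
  have hu1 : u ≠ 1 := fun h => hu1' (Subtype.ext h)
  obtain ⟨⟨v, hv, rfl⟩, hvc⟩ := hu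
  have hvA : v ∉ A := fun h => hu1 ((QuotientGroup.eq_one_iff v).2 h)
  obtain ⟨k, hk⟩ := exists_pow_mem hAB hcard hv hvA hb
  rw [← QuotientGroup.eq_one_iff, ← QuotientGroup.mk'_apply, map_commutatorElement,
    commutatorElement_eq_one_iff_mul_comm]
  have hqb : q b = q v ^ k := by
    rw [← map_pow]; exact (QuotientGroup.eq.2 hk).symm
  rw [hqb]
  exact Subgroup.mem_center_iff.1 ((Subgroup.center (G ⧸ A)).pow_mem hvc k) (q g)

end H62.PFive
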