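import Mathlib
import Cfsg.Prelude.Def_FusionSystem
import Cfsg.Agent.H60.EssentialWorld
import Cfsg.Agent.H85.Essential
import Cfsg.Agent.H85.Saturation
import Cfsg.Agent.H62.PFive.Tools

/-!
A saturated fusion system seen on the abstract `p`-group itself.
-/

set_option autoImplicit false
set_option linter.unusedSectionVars false
set_option linter.style.haveILetI false

open Cfsg Cfsg.FusionSystem

namespace H62.PFive

universe u

variable {G : Type u} [Group G]

/-- The maps of a saturated fusion system on `G`. -/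
structure World (G : Type u) [Group G] (p : ℕ) where
  Hom : ∀ H : Subgroup G, (H →* G) → Prop
  inj : ∀ {H : Subgroup G} {f : H →* G}, Hom H f → Function.Injective f
  conj : ∀ (H : Subgroup G) (g : G), Hom H ((MulAut.conj g).toMonoidHom.comp H.subtype)
  comp : ∀ {H K : Subgroup G} {f : H →* G} {f' : K →* G}, Hom H f → Hom K f' →
    ∀ h : ∀ x, f x ∈ K, Hom H (f'.comp (f.codRestrict K h))
  restr : ∀ {H K : Subgroup G} {f : K →* G}, Hom K f → ∀ h : H ≤ K,
    Hom H (f.comp (Subgroup.inclusion h))
  ext : ∀ {R : Subgroup G} {f : R →* G},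
    (∀ (H : Subgroup G) (f : H →* G), Hom H f → f.range = R →
      Nat.card (Subgroup.normalizer (H : Set G)) ≤ Nat.card (Subgroup.normalizer (R : Set G))) →
    Hom R f → f.range = R → ∀ K : Subgroup G, ∀ hRK : R ≤ K,
      (∀ k ∈ K, k ∈ Subgroup.normalizer (R : Set G) ∧
        ∃ h : G, ∀ (x : R) (hx : k * (x : G) * k⁻¹ ∈ R), f ⟨k * (x : G) * k⁻¹, hx⟩ = h * f x * h⁻¹) →
      ∃ f' : K →* G, Hom K f' ∧ ∀ x : R, f' (Subgroup.inclusion hRK x) = f x
  sylow : ∀ (H : Subgroup G),
    (∀ (H' : Subgroup G) (f : H' →* G), Hom H' f → f.range = H →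
      Nat.card (Subgroup.normalizer (H' : Set G)) ≤ Nat.card (Subgroup.normalizer (H : Set G))) →
    ∀ K : Subgroup (MulAut H), IsPGroup p K →
    (∀ α ∈ K, Hom H (H.subtype.comp (α : MulAut H).toMonoidHom)) →
    (∀ g : Subgroup.normalizer (H : Set G), H.normalizerMonoidHom g ∈ K) →
    ∀ α ∈ K, ∃ g : G, ∀ x : H, ((α x : H) : G) = g * (x : G) * g⁻¹

namespace World

variable {p : ℕ} (w : World G p)

/-- Fully normalized subgroups. -/
def FN (R : Subgroup G) : Prop :=
  ∀ (H : Subgroup G) (f : H →* G), w.Hom H f → f.range = R →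
    Nat.card (Subgroup.normalizer (H : Set G)) ≤ Nat.card (Subgroup.normalizer (R : Set G))

theorem fn_of_normal [Finite G] {R : Subgroup G} (hR : R.Normal) : w.FN R := fun H f _ _ => by
  rw [Subgroup.normalizer_eq_top_iff.2 hR, Subgroup.card_top]
  exact Subgroup.card_le_card_group _

variable [Finite G]

/-- The automorphism group of `H` in the world. -/
def aut (H : Subgroup G) : Subgroup (MulAut H) where
  carrier := {α | w.Hom H (H.subtype.comp α.toMonoidHom)}
  one_mem' := by
    have : H.subtype.comp (1 : MulAut H).toMonoidHom =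
        (MulAut.conj (1 : G)).toMonoidHom.comp H.subtype := by ext x; simp
    show w.Hom H _
    rw [this]
    exact w.conj H 1
  mul_mem' := fun {α β} hα hβ => w.comp hβ hα fun x => (β x).2
  inv_mem' := by
    intro α hα
    haveI : Finite (MulAut H) := Finite.of_injective _ DFunLike.coe_injective
    have key : ∀ m : ℕ, w.Hom H (H.subtype.comp (α ^ m).toMonoidHom) := by
      intro m
      induction m with
      | zero =>
        have : H.subtype.comp (α ^ 0).toMonoidHom =
            (MulAut.conj (1 : G)).toMonoidHom.comp H.subtype := by ext x; simp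
        rw [this]
        exact w.conj H 1
      | succ m ih => rw [pow_succ]; exact w.comp hα ih fun x => (α x).2
    show w.Hom H _
    rw [show α⁻¹ = α ^ (orderOf α - 1) by
      rw [inv_eq_iff_mul_eq_one, ← pow_succ', Nat.sub_add_cancel (orderOf_pos α), pow_orderOf_eq_one]]
    exact key _

/-- Conjugation by a normalising element. -/
abbrev cj (H : Subgroup G) : Subgroup.normalizer (H : Set G) →* MulAut H := H.normalizerMonoidHom

theorem cj_apply {H : Subgroup G} (g : Subgroup.normalizer (H : Set G)) (x : H) :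
    ((cj H g x : H) : G) = g * (x : G) * (g : G)⁻¹ := rfl

theorem cj_mem (H : Subgroup G) (g : Subgroup.normalizer (H : Set G)) : cj H g ∈ w.aut H := by
  have : H.subtype.comp (cj H g).toMonoidHom = (MulAut.conj (g : G)).toMonoidHom.comp H.subtype := by
    ext x; rfl
  show w.Hom H _
  rw [this]
  exact w.conj H g

/-- Sylow property: a `p`-group of automorphisms containing the inner ones consists of inner ones. -/
theorem exists_cj_eq {H : Subgroup G} (hH : w.FN H) {K : Subgroup (MulAut H)} (hK : IsPGroup p K)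
    (hKa : K ≤ w.aut H) (hKc : ∀ g, cj H g ∈ K) {α : MulAut H} (hα : α ∈ K) :
    ∃ g : Subgroup.normalizer (H : Set G), cj H g = α := by
  obtain ⟨g, hg⟩ := w.sylow H hH K hK hKa hKc α hα
  have hgn : g ∈ Subgroup.normalizer (H : Set G) := by
    haveI : Finite H := inferInstance
    refine H85.mem_normalizer_of_conj fun x hx => ?_
    rw [← hg ⟨x, hx⟩]
    exact (α ⟨x, hx⟩).2
  exact ⟨⟨g, hgn⟩, MulEquiv.ext fun x => Subtype.ext (hg x).symm⟩

/-- An automorphism normalising the inner ones extends to the normaliser. -/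
theorem extend_aut {R : Subgroup G} (hR : w.FN R) {α : MulAut R} (hα : α ∈ w.aut R)
    (hk : ∀ g, ∃ h, α * cj R g * α⁻¹ = cj R h) :
    ∃ β ∈ w.aut (Subgroup.normalizer (R : Set G)), ∀ x : R,
      ((β ⟨x, Subgroup.le_normalizer x.2⟩ : Subgroup.normalizer (R : Set G)) : G) = α x := by
  have hr : (R.subtype.comp α.toMonoidHom).range = R := by
    rw [MonoidHom.range_comp, MonoidHom.range_eq_top.2 α.surjective, ← MonoidHom.range_eq_map,
      Subgroup.range_subtype]
  obtain ⟨f, hf, hfx⟩ := w.ext hR hα hr (Subgroup.normalizer (R : Set G)) Subgroup.le_normalizer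
    fun k hk' => ⟨hk', by
      obtain ⟨h, hh⟩ := hk ⟨k, hk'⟩
      refine ⟨h, fun x hx => ?_⟩
      have h1 := congrArg (fun φ : MulAut R => ((φ (α x) : R) : G)) hh
      simp only [MulAut.mul_apply, MulAut.inv_apply_self] at h1
      show ((α ⟨k * (x : G) * k⁻¹, hx⟩ : R) : G) = _
      rw [cj_apply] at h1
      refine Eq.trans ?_ h1
      rfl⟩
  have hmem : ∀ k, f k ∈ Subgroup.normalizer (R : Set G) := by
    intro k
    refine H85.mem_normalizer_of_conj fun y hy => ?_
    obtain ⟨x, hx⟩ := α.surjective ⟨y, hy⟩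
    have h1 : f (k * Subgroup.inclusion Subgroup.le_normalizer x * k⁻¹) ∈ R := by
      have hc : (k : G) * x * (k : G)⁻¹ ∈ R := H85.conj_mem_of_mem_normalizer k.2 x.2
      rw [show k * Subgroup.inclusion Subgroup.le_normalizer x * k⁻¹ =
        Subgroup.inclusion Subgroup.le_normalizer ⟨_, hc⟩ from Subtype.ext rfl, hfx]
      exact (α _).2
    rw [map_mul, map_mul, map_inv, hfx] at h1
    simpa [hx] using h1
  set fN := f.codRestrict _ hmem
  have hinj : Function.Injective fN := fun a b h => w.inj hf (congrArg Subtype.val h)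
  let β : MulAut (Subgroup.normalizer (R : Set G)) :=
    MulEquiv.ofBijective fN ⟨hinj, Finite.injective_iff_surjective.1 hinj⟩
  refine ⟨β, ?_, fun x => hfx x⟩
  show w.Hom _ _
  have : (Subgroup.normalizer (R : Set G)).subtype.comp β.toMonoidHom = f := by ext k; rfl
  rw [this]
  exact hf

end World

/-- The properties of an essential subgroup used in the argument. -/
structure Ess [Finite G] {p : ℕ} (w : World G p) (E : Subgroup G) : Prop where
  cent : Subgroup.centralizer (E : Set G) ≤ E
  fn : w.FN E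
  radical : ∀ K : Subgroup (MulAut E), K ≤ w.aut E →
    (∀ α ∈ w.aut E, ∀ k ∈ K, α * k * α⁻¹ ∈ K) → IsPGroup p K →
    ∀ k ∈ K, ∃ e : E, ∀ x : E, k x = e * x * e⁻¹
  move : ∃ α ∈ w.aut E, ∃ z : E, (z : G) ∈ Subgroup.center G ∧
    ((α z : E) : G) ∉ Subgroup.center G

variable {Ω : Type u} [Group Ω] {S : Subgroup Ω}

open H60

/-- The map of the system that a map between subgroups of `S` gives. -/
noncomputable def upHom {H : Subgroup S} (f : H →* S) : up H →* Ω :=
  (S.subtype.comp f).comp (upEquiv H).symm.toMonoidHom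

theorem upHom_apply {H : Subgroup S} (f : H →* S) (x : H) :
    upHom f (upEquiv H x) = (f x : Ω) := by
  simp [upHom]

theorem range_upHom {H R : Subgroup S} {f : H →* S} (hf : f.range = R) :
    (upHom f).range = up R := by
  rw [upHom, MonoidHom.range_comp, MonoidHom.range_eq_top.2 (upEquiv H).symm.surjective,
    ← MonoidHom.range_eq_map, MonoidHom.range_comp, hf]

/-- The world of a saturated fusion system. -/
noncomputable def worldOf [Finite S] {p : ℕ} [Fact p.Prime] (hS : IsPGroup p S)
    {F : FusionSystem S} (hF : F.IsSaturated p) : World S p where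
  Hom H f := upHom f ∈ F.Hom (up H)
  inj {H f} hf a b hab := (upEquiv H).injective
    (F.injective_of_mem hf (by rw [upHom_apply, upHom_apply, hab]))
  conj H g := by
    refine H85.hom_congr (F.conj_mem (up_le H) g.2) fun x => ?_
    obtain ⟨x, rfl⟩ := (upEquiv H).surjective x
    rw [upHom_apply]
    show (g : Ω) * ((upEquiv H x : up H) : Ω) * (g : Ω)⁻¹ = _
    rw [upEquiv_coe]
    rfl
  comp {H K f f'} hf hf' h := by
    refine H85.hom_congr (F.comp_mem hf hf' fun x => mem_up.2 (h _)) fun x => ?_
    obtain ⟨x, rfl⟩ := (upEquiv H).surjective x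
    rw [upHom_apply, MonoidHom.comp_apply]
    have : (upHom f).codRestrict (up K) (fun x => mem_up.2 (h _)) (upEquiv H x) =
        upEquiv K (f.codRestrict K h x) := by
      apply Subtype.ext
      rw [upEquiv_coe]
      exact upHom_apply f x
    rw [this, upHom_apply]
    rfl
  restr {H K f} hf h := by
    refine H85.of_extend hf (Subgroup.map_mono h) fun x => ?_
    obtain ⟨x, rfl⟩ := (upEquiv H).surjective x
    rw [upHom_apply, show Subgroup.inclusion (Subgroup.map_mono h) (upEquiv H x) =
      upEquiv K (Subgroup.inclusion h x) from Subtype.ext (by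
        rw [Subgroup.coe_inclusion, upEquiv_coe, upEquiv_coe]; rfl), upHom_apply]
    rfl
  ext {R f} hR hf hr K hRK hk := by
    obtain ⟨ψ, hψ, hψx⟩ := (H85.receptive_of_fullyNormalized hS hF (fn_up hS hF hR)).2 (up R) _ hf
      (range_upHom hr)
    have hle : up K ≤ extender S (up R) (upHom f) := by
      rintro _ ⟨k, hk', rfl⟩
      obtain ⟨hkn, c, hc⟩ := hk k hk'
      refine H85.mem_extender.2 ⟨k.2, mem_normalizer_up.2 hkn, c, c.2, fun x hx => ?_⟩
      obtain ⟨x, rfl⟩ := (upEquiv R).surjective x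
      have hmem : k * (x : S) * k⁻¹ ∈ R := H85.conj_mem_of_mem_normalizer hkn x.2
      rw [show (⟨(S.subtype k) * ((upEquiv R x : up R) : Ω) * (S.subtype k)⁻¹, hx⟩ : up R) =
        upEquiv R ⟨k * (x : S) * k⁻¹, hmem⟩ from Subtype.ext (by
          show (k : Ω) * ((upEquiv R x : up R) : Ω) * (k : Ω)⁻¹ = _
          rw [upEquiv_coe, upEquiv_coe]; rfl), upHom_apply, upHom_apply, hc x hmem]
      rfl
    let f' : K →* S := ((ψ.comp (Subgroup.inclusion hle)).comp (upEquiv K).toMonoidHom).codRestrict S
      fun x => H85.map_mem hψ _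
    refine ⟨f', ?_, fun x => Subtype.ext ?_⟩
    · refine H85.of_extend hψ hle fun x => ?_
      obtain ⟨x, rfl⟩ := (upEquiv K).surjective x
      rw [upHom_apply]
      rfl
    · have e := hψx ((x : S) : Ω) (mem_up.2 x.2) (hle (mem_up.2 (hRK x.2)))
      refine Eq.trans ?_ (e.trans ((congrArg _ (Subtype.ext ?_)).trans (upHom_apply f x)))
      · show ψ ⟨((upEquiv K (Subgroup.inclusion hRK x) : up K) : Ω), _⟩ = _
        exact congrArg ψ (Subtype.ext (upEquiv_coe K _))
      · exact (upEquiv_coe R x).symm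
  sylow H hH K hK hKF hKc α hα := by
    have hfa := (H85.isFullyAutomized_iff hS).1
      (H85.fullyAutomized_of_fullyNormalized hS hF (fn_up hS hF hH))
    set c := MulAut.congr (upEquiv H)
    have hmem : ∀ β ∈ K, c β ∈ F.autGroup (up H) := fun β hβ =>
      (H85.mem_autGroup (up_le H)).2 (H85.hom_congr (hKF β hβ) fun x => by
        obtain ⟨x, rfl⟩ := (upEquiv H).surjective x
        rw [upHom_apply]
        show _ = ((c β (upEquiv H x) : up H) : Ω)
        simp [c, upEquiv_coe])
    have hge : autInducedBy S (up H) ≤ K.map c.toMonoidHom := by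
      intro β hβ
      obtain ⟨g, hg, hgx⟩ := H85.mem_autInducedBy.1 hβ
      have hn : (⟨g, hg⟩ : S) ∈ Subgroup.normalizer (H : Set S) :=
        mem_normalizer_up.1 (H85.mem_normalizer_of_induced hgx)
      refine ⟨_, hKc ⟨_, hn⟩, MulEquiv.ext fun x => Subtype.ext ?_⟩
      obtain ⟨x, rfl⟩ := (upEquiv H).surjective x
      rw [hgx, upEquiv_coe]
      simp [c, upEquiv_coe]
    have heq := hfa.2 (K.map c.toMonoidHom)
      (by rintro _ ⟨β, hβ, rfl⟩; exact hmem β hβ) (hK.map _) hge
    have hα' : c α ∈ autInducedBy S (up H) := heq ▸ Subgroup.mem_map_of_mem _ hα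
    obtain ⟨g, hg, hgx⟩ := H85.mem_autInducedBy.1 hα'
    refine ⟨⟨g, hg⟩, fun x => Subtype.ext ?_⟩
    have := hgx (upEquiv H x)
    simpa [c, upEquiv_coe] using this
where
  fn_up {p : ℕ} [Fact p.Prime] (hS : IsPGroup p S) {F : FusionSystem S} (hF : F.IsSaturated p)
      {R : Subgroup S}
      (hR : ∀ (H : Subgroup S) (f : H →* S), upHom f ∈ F.Hom (up H) → f.range = R →
        Nat.card (Subgroup.normalizer (H : Set S)) ≤ Nat.card (Subgroup.normalizer (R : Set S))) :
      F.IsFullyNormalized (up R) := by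
    refine ⟨up_le R, fun Q hQ => ?_⟩
    obtain ⟨ψ, hψ, hψr⟩ := H85.isConj_symm hQ
    have hQS : Q ≤ S := H85.source_le hψ
    have hupQ : up (Q.subgroupOf S) = Q := Subgroup.map_subgroupOf_eq_of_le hQS
    set e : Q.subgroupOf S ≃* Q := Subgroup.subgroupOfEquivOfLe hQS
    let f : Q.subgroupOf S →* S := (ψ.comp e.toMonoidHom).codRestrict S fun x => H85.map_mem hψ _
    have hf : upHom f ∈ F.Hom (up (Q.subgroupOf S)) := by
      refine H85.of_extend hψ hupQ.le fun x => ?_
      obtain ⟨x, rfl⟩ := (upEquiv _).surjective x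
      rw [upHom_apply]
      show ψ _ = ψ (e x)
      exact congrArg ψ (Subtype.ext (upEquiv_coe _ x))
    have hfr : f.range = R := by
      ext y
      constructor
      · rintro ⟨x, rfl⟩
        exact mem_up.1 (hψr ▸ ⟨e x, rfl⟩)
      · intro hy
        obtain ⟨q, hq⟩ := hψr.symm ▸ (mem_up (Ω := Ω)).2 hy
        refine ⟨e.symm q, Subtype.ext ?_⟩
        show ψ (e (e.symm q)) = _
        rw [MulEquiv.apply_symm_apply, hq]
    calc Nat.card (normalizerIn S Q) = Nat.card (normalizerIn S (up (Q.subgroupOf S))) := by rw [hupQ]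
      _ = _ := card_normalizerIn_up _
      _ ≤ _ := hR _ f hf hfr
      _ = _ := (card_normalizerIn_up R).symm

end H62.PFive
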