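import Cfsg.Agent.H62.PFive.Rel
import Cfsg.Agent.H62.PFive.World

/-!
Evaluation of automorphisms of subgroups on elements of the group, and the common configuration.
-/

set_option autoImplicit false
set_option linter.unusedSectionVars false
set_option linter.style.haveILetI false

open scoped commutatorElement

namespace H62.PFive

universe u

variable {G : Type u} [Group G] [Finite G] {p : ℕ} [hp : Fact p.Prime] {R : Subgroup G}

/-- The value of an automorphism of `R` at an element of `R`. -/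
noncomputable def app (β : MulAut R) (y : G) : G := by
  classical exact if h : y ∈ R then ((β ⟨y, h⟩ : R) : G) else 1

theorem app_eq (β : MulAut R) {y : G} (h : y ∈ R) : app β y = ((β ⟨y, h⟩ : R) : G) := by
  unfold app
  rw [dif_pos h]

theorem app_coe (β : MulAut R) (y : R) : app β (y : G) = ((β y : R) : G) := app_eq β y.2

theorem app_mem (β : MulAut R) {y : G} (h : y ∈ R) : app β y ∈ R := by
  rw [app_eq β h]; exact (β ⟨y, h⟩).2

theorem app_mul (β : MulAut R) {y z : G} (hy : y ∈ R) (hz : z ∈ R) :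
    app β (y * z) = app β y * app β z := by
  rw [app_eq β hy, app_eq β hz, app_eq β (R.mul_mem hy hz), ← Subgroup.coe_mul, ← map_mul]
  rfl

theorem app_inv (β : MulAut R) {y : G} (hy : y ∈ R) : app β y⁻¹ = (app β y)⁻¹ := by
  rw [app_eq β hy, app_eq β (R.inv_mem hy), ← Subgroup.coe_inv, ← map_inv]
  rfl

theorem app_pow (β : MulAut R) {y : G} (hy : y ∈ R) (n : ℕ) : app β (y ^ n) = app β y ^ n := by
  rw [app_eq β hy, app_eq β (R.pow_mem hy n), ← Subgroup.coe_pow, ← map_pow]
  rfl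

theorem app_comm (β : MulAut R) {y z : G} (hy : y ∈ R) (hz : z ∈ R) :
    app β ⁅y, z⁆ = ⁅app β y, app β z⁆ := by
  simp only [commutatorElement_def]
  rw [app_mul β (R.mul_mem (R.mul_mem hy hz) (R.inv_mem hy)) (R.inv_mem hz),
    app_mul β (R.mul_mem hy hz) (R.inv_mem hy), app_mul β hy hz, app_inv β hy, app_inv β hz]

theorem app_comp (β γ : MulAut R) {y : G} (hy : y ∈ R) : app (β * γ) y = app β (app γ y) := by
  rw [app_eq (β * γ) hy, app_eq γ hy, app_coe]
  rfl

theorem app_inj (β : MulAut R) {y z : G} (hy : y ∈ R) (hz : z ∈ R) (h : app β y = app β z) :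
    y = z := by
  rw [app_eq β hy, app_eq β hz] at h
  exact congrArg Subtype.val (β.injective (Subtype.ext h))

theorem app_one (β : MulAut R) : app β (1 : G) = 1 := by
  rw [app_eq β R.one_mem, show (⟨1, R.one_mem⟩ : R) = 1 from rfl, map_one]
  rfl

/-- An invariant subgroup is stable in both directions. -/
theorem mem_iff_apply_mem {A : Type*} [Group A] [Finite A] (β : MulAut A) {L : Subgroup A}
    (h : ∀ g ∈ L, β g ∈ L) (g : A) : g ∈ L ↔ β g ∈ L := by
  refine ⟨h g, fun hg => ?_⟩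
  have he : L.map β.toMonoidHom = L := Subgroup.eq_of_le_of_card_ge
    (by rintro _ ⟨y, hy, rfl⟩; exact h y hy) (by rw [Subgroup.card_map_of_injective β.injective])
  rw [← he] at hg
  obtain ⟨y, hy, hyg⟩ := hg
  exact β.injective hyg ▸ hy

theorem pow_inv_mul_pow_mem {N : Subgroup G} {s : G} (hs : s ^ p ∈ N) {a b : ℕ}
    (h : (a : ZMod p) = b) : (s ^ a)⁻¹ * s ^ b ∈ N := by
  have hm : a % p = b % p := (ZMod.natCast_eq_natCast_iff' a b p).1 h
  rw [← Nat.mod_add_div a p, ← Nat.mod_add_div b p, hm, pow_add, pow_add, pow_mul, pow_mul,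
    mul_inv_rev, mul_assoc, inv_mul_cancel_left]
  exact N.mul_mem (N.inv_mem (N.pow_mem hs _)) (N.pow_mem hs _)

/-- The configuration: an abelian essential subgroup `E = H⟨x⟩` with `H` central in its normaliser,
and a torus acting on `c` and `x`. -/
structure Conf (w : World G p) (E H D : Subgroup G) (x c : G) : Prop where
  hle : H ≤ E
  normH : H.Normal
  xE : x ∈ E
  xH : x ∉ H
  xp : x ^ p = 1
  cH : c ∈ H
  c1 : c ≠ 1
  cp : c ^ p = 1
  dle : D ≤ H
  idx : Nat.card E = p * Nat.card H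
  cardH : Nat.card H ≤ p ^ 2
  cent : Subgroup.centralizer (E : Set G) ≤ E
  fn : w.FN E
  fnN : w.FN (Subgroup.normalizer (E : Set G))
  cardN : Nat.card (Subgroup.normalizer (E : Set G)) = p * Nat.card E
  cardM : Nat.card (Subgroup.normalizer (Subgroup.normalizer (E : Set G) : Set G)) =
    p * Nat.card (Subgroup.normalizer (E : Set G))
  central : ∀ n ∈ Subgroup.normalizer (E : Set G), ∀ h ∈ H, n * h = h * n
  shift : ∀ n ∈ Subgroup.normalizer (E : Set G), ⁅n, x⁆ ∈ Subgroup.zpowers c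
  torus : ∀ l l' : ℕ, ((l * l' : ℕ) : ZMod p) = 1 →
    ∃ β ∈ w.aut (Subgroup.normalizer (E : Set G)), app β c = c ^ l ∧ app β x = x ^ l' ∧
      (∀ d ∈ D, app β d = d) ∧ ∀ h ∈ H, app β h ∈ H

/-- The action of the torus one step higher. -/
structure StepAct (E H D : Subgroup G) (x c s : G)
    (γ : MulAut (Subgroup.normalizer (Subgroup.normalizer (E : Set G) : Set G))) (l l' : ℕ) :
    Prop where
  onC : app γ c = c ^ l
  onX : app γ x = x ^ l'
  onD : ∀ d ∈ D, app γ d = d
  onH : ∀ h ∈ H, app γ h ∈ H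
  onN : ∀ n ∈ Subgroup.normalizer (E : Set G), app γ n ∈ Subgroup.normalizer (E : Set G)
  onW : (⁅s, x⁆ ^ l ^ 2)⁻¹ * app γ ⁅s, x⁆ ∈ H
  onS : (s ^ l ^ 3)⁻¹ * app γ s ∈ Subgroup.normalizer (E : Set G)

/-- What is known one step above the normaliser. -/
structure StepData (w : World G p) (E H D : Subgroup G) (x c s : G) : Prop where
  memN : ⁅s, x⁆ ∈ Subgroup.normalizer (E : Set G)
  notE : ⁅s, x⁆ ∉ E
  powW : ⁅s, x⁆ ^ p ∈ H
  powS : s ^ p ∈ Subgroup.normalizer (E : Set G)
  commWX : ⁅⁅s, x⁆, x⁆ ≠ 1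
  fixC : ∀ m ∈ Subgroup.normalizer (Subgroup.normalizer (E : Set G) : Set G), m * c = c * m
  stepH : ∀ m ∈ Subgroup.normalizer (Subgroup.normalizer (E : Set G) : Set G), ∀ h ∈ H,
    ⁅m, h⁆ ∈ Subgroup.zpowers c
  stepW : ∀ m ∈ Subgroup.normalizer (Subgroup.normalizer (E : Set G) : Set G), ⁅m, ⁅s, x⁆⁆ ∈ H
  decomp : ∀ n ∈ Subgroup.normalizer (E : Set G), ∃ i j : ℕ, (x ^ i * ⁅s, x⁆ ^ j)⁻¹ * n ∈ H
  act : ∀ l l' : ℕ, ((l * l' : ℕ) : ZMod p) = 1 →
    ∃ γ ∈ w.aut (Subgroup.normalizer (Subgroup.normalizer (E : Set G) : Set G)),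
      StepAct E H D x c s γ l l'

end H62.PFive
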