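import Cfsg.Agent.H62.PFive.World
import Cfsg.Agent.H75.SmallIndex.Basics
import Cfsg.Agent.H85.Focal
import Cfsg.Agent.H5.FusionYoshida

/-!
From a core-free saturated fusion system to an essential subgroup moving the centre, and Yoshida's
theorem in the language of worlds.
-/

set_option autoImplicit false
set_option linter.unusedSectionVars false
set_option linter.style.haveILetI false

open Cfsg Cfsg.FusionSystem H60

namespace H62.PFive

universe u

variable {Ω : Type u} [Group Ω] {S : Subgroup Ω} [Finite S] {p : ℕ} [Fact p.Prime]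

/-- The data Yoshida's theorem gives on a group. -/
def HasNorm (G : Type u) [Group G] (p : ℕ) : Prop :=
  ∃ (M : Subgroup G) (hMn : M.Normal) (ν : M →* Multiplicative (ZMod p)) (z y : G),
    IsCoatom M ∧ z ∉ M ∧ ∃ hy : y ∈ M, (∏ i ∈ Finset.range p,
      ν ⟨(z ^ i)⁻¹ * y * z ^ i, by simpa using hMn.conj_mem y hy (z ^ i)⁻¹⟩) ≠ 1

theorem exists_ess (hS : IsPGroup p S) {F : FusionSystem S} (hF : F.IsSaturated p)
    (hcore : F.core = ⊥) (hS1 : S ≠ ⊥) :
    ∃ E : Subgroup S, Ess (worldOf hS hF) E := by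
  classical
  set Z : Subgroup Ω := up (Subgroup.center S) with hZ
  have hZ1 : Z ≠ ⊥ := by
    intro h
    haveI : Nontrivial S := (Subgroup.nontrivial_iff_ne_bot S).2 hS1
    haveI := hS.center_nontrivial
    exact (Subgroup.nontrivial_iff_ne_bot _).1 inferInstance
      ((Subgroup.map_eq_bot_iff_of_injective _ S.subtype_injective).1 h)
  have hZE : ∀ E, F.IsEssential p E → Z ≤ E := by
    rintro E hE _ ⟨z, hz, rfl⟩
    exact H87.essential_centric hE z.2 fun e he =>
      (congrArg Subtype.val (Subgroup.mem_center_iff.1 hz ⟨e, hE.1.1 he⟩))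
  obtain ⟨E, hE, α, hα, x, hx, hxα⟩ : ∃ E, F.IsEssential p E ∧ ∃ α ∈ F.autGroup E, ∃ x : E,
      (x : Ω) ∈ Z ∧ ((α x : E) : Ω) ∉ Z := by
    by_contra hcon
    push Not at hcon
    refine H75.SmallIndex.false_of_invariant hS hF hcore (up_le _) hZ1 (fun β _ x hx => ?_)
      fun E hE => ⟨hZE E hE, fun α hα x hx => hcon E hE α hα x hx⟩
    have hx' : x ∈ Subgroup.center S := mem_up.1 hx
    exact mem_up.2 ((Subgroup.characteristic_iff_map_le.1 inferInstance β) ⟨x, hx', rfl⟩)
  haveI := H85.finite_of_le hE.1.1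
  set E0 := E.subgroupOf S with hE0
  have hupE : up E0 = E := Subgroup.map_subgroupOf_eq_of_le hE.1.1
  set r : E0 ≃* E := Subgroup.subgroupOfEquivOfLe hE.1.1
  -- transport of automorphisms
  have hdown : ∀ α : MulAut E, α ∈ F.autGroup E →
      MulAut.congr r.symm α ∈ (worldOf hS hF).aut E0 := by
    intro α hα
    show upHom _ ∈ F.Hom (up E0)
    have hx : ∀ y : up E0, ((up E0).subtype y) ∈ E := fun y => hupE ▸ y.2
    refine H85.hom_congr (F.comp_mem (H85.id_mem F (up_le E0))
      ((H85.mem_autGroup hE.1.1).1 hα) hx) fun y => ?_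
    obtain ⟨y, rfl⟩ := (upEquiv E0).surjective y
    rw [upHom_apply]
    show (((α : MulAut E) ⟨((upEquiv E0 y : up E0) : Ω), hx (upEquiv E0 y)⟩ : E) : Ω) = _
    rw [show (⟨((upEquiv E0 y : up E0) : Ω), hx (upEquiv E0 y)⟩ : E) = r y from
      Subtype.ext (upEquiv_coe _ y)]
    rfl
  have hupaut : ∀ β : MulAut E0, β ∈ (worldOf hS hF).aut E0 → MulAut.congr r β ∈ F.autGroup E := by
    intro β hβ
    refine (H85.mem_autGroup hE.1.1).2 ?_
    have hβ' : upHom (E0.subtype.comp β.toMonoidHom) ∈ F.Hom (up E0) := hβ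
    refine H85.of_extend hβ' hupE.ge fun y => ?_
    obtain ⟨y, rfl⟩ := r.surjective y
    rw [show Subgroup.inclusion hupE.ge (r y) = upEquiv E0 y from Subtype.ext (upEquiv_coe _ y).symm,
      upHom_apply]
    simp [r]
    rfl
  refine ⟨E0, ⟨fun g hg => ?_, ?_, fun K hK hKn hKp k hk => ?_,
    ⟨_, hdown α hα, r.symm x, ?_, ?_⟩⟩⟩
  · refine Subgroup.mem_subgroupOf.2 (H87.essential_centric hE g.2 fun e he => ?_)
    exact congrArg Subtype.val (Subgroup.mem_centralizer_iff.1 hg ⟨e, hE.1.1 he⟩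
      (Subgroup.mem_subgroupOf.2 he))
  · intro H f hf hr
    have hr' := range_upHom hr
    rw [hupE] at hr'
    have := hE.2.1.2 _ (H85.isConj_symm ⟨_, hf, hr'⟩)
    rwa [← hupE, card_normalizerIn_up, card_normalizerIn_up] at this
  · have hrad := (H85.isRadical_of_isEssential hS hE).2
    set A := F.autGroup E
    let K' : Subgroup A := (K.map (MulAut.congr r).toMonoidHom).subgroupOf A
    have hKA : K.map (MulAut.congr r).toMonoidHom ≤ A := by
      rintro _ ⟨k, hk, rfl⟩
      exact hupaut k (hK hk)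
    have hK'n : K'.Normal := by
      refine ⟨fun a ha b => ?_⟩
      obtain ⟨k, hk, hka⟩ := ha
      refine ⟨MulAut.congr r.symm (b : MulAut E) * k * (MulAut.congr r.symm (b : MulAut E))⁻¹,
        hKn _ (hdown _ b.2) k hk, ?_⟩
      rw [map_mul, map_mul, map_inv, hka]
      have : MulAut.congr r (MulAut.congr r.symm (b : MulAut E)) = b := by
        ext y; simp
      rw [show (MulAut.congr r).toMonoidHom (MulAut.congr r.symm (b : MulAut E)) = b from this]
      rfl
    have hK'p : IsPGroup p K' :=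
      (hKp.map _).of_equiv (Subgroup.subgroupOfEquivOfLe hKA).symm
    have hmem : (⟨_, hKA ⟨k, hk, rfl⟩⟩ : A) ∈ Cfsg.pCore p A :=
      le_sSup (show K' ∈ {N : Subgroup A | N.Normal ∧ IsPGroup p N} from ⟨hK'n, hK'p⟩)
        (show _ ∈ K' from ⟨k, hk, rfl⟩)
    obtain ⟨e, he⟩ : MulAut.congr r k ∈ Cfsg.Inn E := hrad ▸ Subgroup.mem_map_of_mem A.subtype hmem
    refine ⟨r.symm e, fun y => ?_⟩
    have h1 := congrArg (fun φ : MulAut E => r.symm (φ (r y))) he
    simp at h1
    rw [← h1]
  · rw [← mem_up (Ω := Ω)]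
    exact hx
  · intro h
    refine hxα ?_
    have h2 : ((((MulAut.congr r.symm α) (r.symm x) : E0) : S) : Ω) = ((α x : E) : Ω) := by
      simp [r, Subgroup.subgroupOfEquivOfLe]
    rw [← h2]
    exact (mem_up (Ω := Ω)).2 h

theorem hasNorm_of_invariant (hS : IsPGroup p S) {F : FusionSystem S} (hF : F.IsSaturated p)
    (hhyp : F.hyperfocalSubgroup p = S) (χ : S →* Multiplicative (ZMod p)) (hχ : χ ≠ 1)
    (hinv : ∀ β ∈ (worldOf hS hF).aut ⊤, ∀ x, χ ((β x : (⊤ : Subgroup S)) : S) = χ (x : S)) :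
    HasNorm S p := by
  have hSS : normalizerIn S S = S :=
    le_antisymm (H85.normalizerIn_le S) (H85.le_normalizerIn le_rfl)
  set N := H85.normalizerSystem F S le_rfl with hNdef
  have hN : F.IsNormalizerSystem S N := H85.normalizerSystem_spec F S le_rfl
  have hfn : F.IsFullyNormalized S := H85.fullyNormalized_top F
  have hsat := H85.isSaturated_normalizerSystem hS hF hfn N hN
  have hsub : N.IsSubsystemOf F := fun P φ hφ => by
    rw [hN P] at hφ
    exact hφ.1
  have htop : F.Hom S ⊆ N.Hom S := by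
    intro φ hφ
    rw [hN S]
    have hSQ : (S ⊔ S : Subgroup Ω) ≤ S := sup_le le_rfl le_rfl
    refine ⟨hφ, hSS.symm.le, fun x => hSS.symm.le (H85.map_mem hφ x),
      φ.comp (Subgroup.inclusion hSQ), H85.restrict hφ hSQ, fun x => rfl, ?_⟩
    apply Subgroup.eq_of_le_of_card_ge
    · rintro _ ⟨x, -, rfl⟩
      exact H85.map_mem hφ _
    · rw [Subgroup.card_map_of_injective (show Function.Injective
        (φ.comp (Subgroup.inclusion hSQ)) from
        (F.injective_of_mem hφ).comp (Subgroup.inclusion_injective hSQ)),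
        Nat.card_congr (Subgroup.subgroupOfEquivOfLe le_sup_right).toEquiv]
  have hfocF : S ≤ F.focalSubgroup := by
    rw [H85.focalSubgroup_eq hS hF, hhyp]
    exact le_sup_left
  have hfocN : N.focalSubgroup ≤ χ.ker.map S.subtype := by
    rw [Cfsg.FusionSystem.focalSubgroup, Subgroup.closure_le]
    rintro _ ⟨P, φ, x, hφ, rfl⟩
    obtain ⟨hφF, hPS, -, ψ, hψ, hext, hmap⟩ := (hN P) ▸ hφ
    have hup : up (⊤ : Subgroup S) = S := by
      rw [up, ← MonoidHom.range_eq_map, Subgroup.range_subtype]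
    have hxS : (x : Ω) ∈ S := H85.source_le hφF x.2
    let f : (⊤ : Subgroup S) →* S :=
      ((ψ.comp (Subgroup.inclusion (le_sup_right : S ≤ P ⊔ S))).comp
        (Subgroup.topEquiv : (⊤ : Subgroup S) ≃* S).toMonoidHom).codRestrict S
        fun y => H85.map_mem hψ _
    have hf : upHom f ∈ F.Hom (up (⊤ : Subgroup S)) := by
      refine H85.of_extend hψ (hup.le.trans le_sup_right) fun y => ?_
      obtain ⟨y, rfl⟩ := (upEquiv _).surjective y
      rw [upHom_apply]
      exact congrArg ψ (Subtype.ext (upEquiv_coe _ y).symm)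
    have hinj : Function.Injective f := fun a b hab =>
      Subgroup.topEquiv.injective (Subgroup.inclusion_injective le_sup_right
        (F.injective_of_mem hψ (congrArg Subtype.val hab)))
    let g : (⊤ : Subgroup S) →* (⊤ : Subgroup S) := f.codRestrict ⊤ fun y => Subgroup.mem_top _
    have hg : Function.Injective g := fun a b hab => hinj (congrArg Subtype.val hab)
    let β : MulAut (⊤ : Subgroup S) :=
      MulEquiv.ofBijective g ⟨hg, Finite.injective_iff_surjective.1 hg⟩
    have hβ : β ∈ (worldOf hS hF).aut ⊤ := by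
      show upHom _ ∈ F.Hom (up _)
      have : (⊤ : Subgroup S).subtype.comp β.toMonoidHom = f := by ext; rfl
      rw [this]
      exact hf
    refine ⟨⟨(x : Ω), hxS⟩⁻¹ * f ⟨⟨x, hxS⟩, Subgroup.mem_top _⟩, ?_, ?_⟩
    · have h1 := hinv β hβ ⟨⟨x, hxS⟩, Subgroup.mem_top _⟩
      show χ _ = 1
      rw [map_mul, map_inv, inv_mul_eq_one]
      exact h1.symm
    · show (x : Ω)⁻¹ * ψ _ = _
      exact congrArg (fun y => (x : Ω)⁻¹ * y) ((congrArg ψ (Subtype.ext rfl)).trans (hext x))
  obtain ⟨M, hMn, ν, z, y, hM, hz, hy, hne⟩ := H5.exists_norm_normalizer hS hF hSS N hsat hsub htop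
    fun heq => hχ (MonoidHom.ext fun s => by
      obtain ⟨t, ht, hts⟩ := hfocN (heq.symm ▸ hfocF s.2)
      obtain rfl : t = s := Subtype.ext hts
      exact ht)
  exact ⟨M, hMn, ν, z, y, hM, hz, hy, hne⟩

end H62.PFive
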