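import Cfsg.Agent.H62.PFive.Conf
import Cfsg.Agent.H62.PFive.Cases

/-!
A character invariant under all automorphisms, by averaging over the outer ones.
-/

set_option autoImplicit false
set_option linter.unusedSectionVars false
set_option linter.style.haveILetI false

namespace H62.PFive

universe u

variable {G : Type u} [Group G] [Finite G] {p : ℕ} [hp : Fact p.Prime] {w : World G p}

theorem exists_invariant_character (hG : IsPGroup p G) {M₀ : Subgroup G} [M₀.Normal]
    (hidx : M₀.index = p) {d : G} (hd : d ∉ M₀)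
    (hfix : ∀ β ∈ w.aut ⊤, app β d * d⁻¹ ∈ M₀) :
    ∃ χ : G →* Multiplicative (ZMod p), χ ≠ 1 ∧
      ∀ β ∈ w.aut ⊤, ∀ x, χ ((β x : (⊤ : Subgroup G)) : G) = χ (x : G) := by
  classical
  haveI : Finite (MulAut (⊤ : Subgroup G)) := Finite.of_injective _ DFunLike.coe_injective
  have hcard : Nat.card (G ⧸ M₀) = p := by rw [← Subgroup.index_eq_card]; exact hidx
  let e : (G ⧸ M₀) ≃* Multiplicative (ZMod p) := mulEquivOfPrimeCardEq hcard (by simp)
  set χ₀ : G →* Multiplicative (ZMod p) := e.toMonoidHom.comp (QuotientGroup.mk' M₀) with hχ₀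
  have hχ₀d : χ₀ d ≠ 1 := fun h => hd ((QuotientGroup.eq_one_iff d).1
    (e.injective (h.trans (map_one e).symm)))
  set A := w.aut (⊤ : Subgroup G)
  set I : Subgroup A := (World.cj (⊤ : Subgroup G)).range.subgroupOf A
  have hI : (World.cj (⊤ : Subgroup G)).range ≤ A := by
    rintro _ ⟨g, rfl⟩
    exact w.cj_mem _ g
  have hIp : IsPGroup p I :=
    (isPGroup_cj hG ⊤).of_equiv (Subgroup.subgroupOfEquivOfLe hI).symm
  obtain ⟨P, hP⟩ := hIp.exists_le_sylow
  have hPI : (P : Subgroup A) = I := by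
    refine le_antisymm (fun a ha => ?_) hP
    obtain ⟨g, hg⟩ := w.exists_cj_eq (w.fn_of_normal inferInstance) (P.2.map A.subtype)
      (Subgroup.map_subtype_le _) (fun g => ⟨⟨_, w.cj_mem _ g⟩, hP ⟨g, rfl⟩, rfl⟩)
      (Subgroup.mem_map_of_mem A.subtype ha)
    exact ⟨g, hg⟩
  have hndvd : ¬ p ∣ I.index := hPI ▸ P.not_dvd_index
  set f : A → (G →* Multiplicative (ZMod p)) := fun β =>
    χ₀.comp ((⊤ : Subgroup G).subtype.comp ((β⁻¹ : A) : MulAut (⊤ : Subgroup G)).toMonoidHom
      |>.comp Subgroup.topEquiv.symm.toMonoidHom) with hf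
  have hfa : ∀ (β : A) (x : G), f β x =
      χ₀ ((((β⁻¹ : A) : MulAut (⊤ : Subgroup G)) ⟨x, Subgroup.mem_top x⟩ : (⊤ : Subgroup G)) : G) :=
    fun β x => rfl
  have hwd : ∀ a b : A, QuotientGroup.leftRel I a b → f a = f b := by
    intro a b hab
    rw [QuotientGroup.leftRel_apply] at hab
    obtain ⟨g, hg⟩ := hab
    refine MonoidHom.ext fun x => ?_
    rw [hfa, hfa]
    have h1 : ((b⁻¹ : A) : MulAut (⊤ : Subgroup G)) = (World.cj ⊤ g)⁻¹ * ((a⁻¹ : A) : MulAut _) := by
      rw [hg]
      simp [mul_assoc]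
    rw [h1, MulAut.mul_apply, ← map_inv, World.cj_apply, map_mul, map_mul, map_inv,
      mul_inv_cancel_comm]
  let F : A ⧸ I → (G →* Multiplicative (ZMod p)) := fun t => Quotient.liftOn' t f hwd
  haveI : Fintype (A ⧸ I) := Fintype.ofFinite _
  refine ⟨∏ t, F t, fun h => ?_, fun β hβ x => ?_⟩
  · have h1 : ∀ t, F t d = χ₀ d := by
      intro t
      refine Quotient.inductionOn' t fun a => ?_
      show f a d = χ₀ d
      have h2 := hfix _ ((a⁻¹ : A)).2
      rw [app_eq _ (Subgroup.mem_top d)] at h2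
      rw [hfa]
      refine congrArg e (QuotientGroup.eq.2 ?_)
      exact Subgroup.Normal.mem_comm inferInstance (by simpa using M₀.inv_mem h2)
    have h3 := DFunLike.congr_fun h d
    rw [MonoidHom.finsetProd_apply, Finset.prod_congr rfl (fun t _ => h1 t), Finset.prod_const,
      Finset.card_univ, ← Nat.card_eq_fintype_card, MonoidHom.one_apply] at h3
    refine hndvd ?_
    rw [Subgroup.index_eq_card]
    have hord : orderOf (χ₀ d) = p := by
      refine orderOf_eq_prime ?_ hχ₀d
      have h4 := pow_card_eq_one' (G := Multiplicative (ZMod p)) (x := χ₀ d)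
      rwa [show Nat.card (Multiplicative (ZMod p)) = p by simp] at h4
    rw [← hord]
    exact orderOf_dvd_of_pow_eq_one h3
  · rw [MonoidHom.finsetProd_apply, MonoidHom.finsetProd_apply]
    refine Fintype.prod_equiv (MulAction.toPerm (⟨β, hβ⟩⁻¹ : A)) _ _ fun t => ?_
    refine Quotient.inductionOn' t fun a => ?_
    show f a _ = f ((⟨β, hβ⟩⁻¹ : A) * a) _
    rw [hfa, hfa, mul_inv_rev, inv_inv]
    rfl

end H62.PFive
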