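import Cfsg.Agent.H62.PFive.PearlA

/-!
The exceptional group of order `3 ^ 5`: no norm map, and an invariant character.
-/

set_option autoImplicit false
set_option linter.unusedSectionVars false
set_option linter.style.haveILetI false

open scoped commutatorElement

namespace H62.PFive

universe u

variable {G : Type u} [Group G] [Finite G]

theorem Pearl.false [Fact (Nat.Prime 3)] {w : World G 3} (h5 : Nat.card G = 3 ^ 5)
    (hno : ∀ A : Subgroup G, Nat.card A = 3 ^ 4 → ¬ IsMulCommutative A)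
    {M W₃ W : Subgroup G} {x r s v z : G} {k : ℕ} (P : Pearl 3 M W₃ W x r s v z k)
    (hhyp : ∀ χ : G →* Multiplicative (ZMod 3), χ ≠ 1 →
      (∀ β ∈ w.aut ⊤, ∀ x, χ ((β x : (⊤ : Subgroup G)) : G) = χ (x : G)) → HasNorm G 3) :
    False := by
  have hG : IsPGroup 3 G := IsPGroup.of_card h5
  haveI := P.normM
  haveI := P.normW₃
  haveI := P.normW
  set Z := Subgroup.zpowers z with hZ
  haveI hZn : Z.Normal := by
    have h : (Subgroup.center G).Normal := inferInstance
    rwa [P.cen] at h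
  have hzc : ∀ g : G, Commute g z := fun g =>
    Subgroup.mem_center_iff.1 (P.cen ▸ Subgroup.mem_zpowers z) g
  have hZc : ∀ (g : G), ∀ u ∈ Z, Commute g u := fun g u hu =>
    Subgroup.mem_center_iff.1 (P.cen.symm ▸ hu) g
  have hZ3 : Nat.card Z = 3 := by rw [Nat.card_zpowers, orderOf_eq_prime P.zp P.z1]
  have hvW₃ : v ∈ W₃ := P.leW P.vW
  have hzW₃ : z ∈ W₃ := P.leW P.zW
  have hsv : Commute s v := P.abW₃ s P.sW₃ v hvW₃
  have hrv : Commute r v := P.rW v P.vW
  have hWrep : ∀ u ∈ W, ∃ j : ℕ, (v ^ j)⁻¹ * u ∈ Z := fun u hu =>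
    exists_pow_mem (p := 3) (Subgroup.zpowers_le.2 P.zW) (by rw [P.cardW, hZ3]; rfl) P.vW P.vZ hu
  have hW₃rep : ∀ u ∈ W₃, ∃ j : ℕ, (s ^ j)⁻¹ * u ∈ W := fun u hu =>
    exists_pow_mem (p := 3) P.leW (by rw [P.cardW₃, P.cardW]; rfl) P.sW₃ P.sW hu
  -- conjugation by `x`
  have hcz : x * z * x⁻¹ = z := by rw [(hzc x).eq, mul_inv_cancel_right]
  have hcv : x * v * x⁻¹ = z⁻¹ * v := by rw [← P.hz, commutatorElement_def]; group
  have hcs : x * s * x⁻¹ = v⁻¹ * s := by rw [← P.hv, commutatorElement_def]; group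
  have hcr : x * r * x⁻¹ = s * r := by rw [← P.hs, commutatorElement_def]; group
  have hf : MulAut.conj x * MulAut.conj x * MulAut.conj x = 1 := by
    rw [← map_mul, ← map_mul, ← map_one (MulAut.conj (G := G)), ← P.xp]
    simp only [pow_succ, pow_zero, one_mul]
  have hf3 : ∀ g, x * (x * (x * g * x⁻¹) * x⁻¹) * x⁻¹ = g := fun g => by
    have h := DFunLike.congr_fun hf g
    simpa only [MulAut.mul_apply, MulAut.conj_apply, MulAut.one_apply] using h
  have hzv : Commute z v⁻¹ := (hzc v).symm.inv_right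
  obtain ⟨F, hF⟩ : ∃ F : G →* G, ∀ g, F g = x * g * x⁻¹ :=
    ⟨(MulAut.conj x).toMonoidHom, fun g => rfl⟩
  have hFz : F z = z := (hF z).trans hcz
  have hFv : F v = z⁻¹ * v := (hF v).trans hcv
  have hFs : F s = v⁻¹ * s := (hF s).trans hcs
  have hFr : F r = s * r := (hF r).trans hcr
  have hF3 : ∀ g, F (F (F g)) = g := fun g => by rw [hF, hF, hF]; exact hf3 g
  have hv3 : v ^ 3 = 1 := by
    have h := hF3 s
    simp only [hFs, hFv, hFz, map_mul, map_inv, mul_inv_rev, inv_inv, ← mul_assoc, mul_eq_right] at h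
    have e : (z * v⁻¹) ^ 3 = 1 := by
      rw [← h]
      simp only [pow_succ, pow_zero, one_mul, ← mul_assoc]
      rw [hzv.eq]
    rw [hzv.mul_pow, P.zp, one_mul, inv_pow, inv_eq_one] at e
    exact e
  have hs3 : s ^ 3 = z⁻¹ := by
    have h := hF3 r
    simp only [hFs, hFv, hFr, map_mul, map_inv, mul_inv_rev, inv_inv, ← mul_assoc,
      mul_eq_right] at h
    have hA : Commute v⁻¹ s := hsv.symm.inv_left
    have e : z * (v⁻¹ * s) ^ 3 = 1 := by
      rw [← h, ← hzv.eq]
      simp only [pow_succ, pow_zero, one_mul, mul_assoc]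
      simp only [hA.symm.left_comm]
    rw [hA.mul_pow, inv_pow, hv3, inv_one, one_mul] at e
    exact eq_inv_of_mul_eq_one_right e
  have hv1 : v ≠ 1 := fun h => P.vZ (h ▸ one_mem _)
  have hx1 : x ≠ 1 := fun h => P.xW₃ (h ▸ one_mem _)
  set q := QuotientGroup.mk' Z with hq
  have hq1 : ∀ y, q y = 1 ↔ y ∈ Z := fun y => QuotientGroup.eq_one_iff y
  have hqW : ∀ g, ∀ u ∈ W, Commute (q g) (q u) := fun g u hu =>
    commutatorElement_eq_one_iff_mul_comm.1
      (by rw [← map_commutatorElement]; exact (hq1 _).2 (P.stepW g u hu))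
  have hqv3 : q v ^ 3 = 1 := by rw [← map_pow, hv3, map_one]
  have hqv1 : q v ≠ 1 := fun h => P.vZ ((hq1 v).1 h)
  have hbr₁ : ⁅q s, q x⁆ = q v := by rw [← map_commutatorElement, P.hv]
  have hs3W : s ^ 3 ∈ W := hs3 ▸ W.inv_mem P.zW
  have hMidx : M.index = 3 := by
    have h := M.card_mul_index
    rw [P.cardM, h5] at h
    omega
  -- the cube of `r`
  have hr3 : r ^ 3 ∈ W := by
    have hM : r ^ 3 ∈ M := hMidx ▸ Subgroup.pow_index_mem M r
    have hW₃ : r ^ 3 ∈ W₃ := P.memW₃ _ hM (hrv.pow_left 3)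
    obtain ⟨a, ha⟩ := hW₃rep _ hW₃
    obtain ⟨u, hu⟩ : ∃ u, (s ^ a)⁻¹ * r ^ 3 = u := ⟨_, rfl⟩
    rw [hu] at ha
    have hru : r ^ 3 = s ^ a * u := by rw [← hu, mul_inv_cancel_left]
    have hrs : r * s = z ^ k * s * r := by rw [← P.hk, commutatorElement_def]; group
    have h1 : x * r ^ 3 * x⁻¹ = z⁻¹ * r ^ 3 := by
      rw [← conj_pow, hcr, mul_pow_three hrs ((hzc s).symm.pow_left k) ((hzc r).symm.pow_left k),
        ← pow_mul, mul_comm k, pow_mul, P.zp, one_pow, one_mul, hs3]
    have h2 : ⁅q s ^ a, q x⁆ = 1 := by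
      have h3 : q x * q (r ^ 3) * (q x)⁻¹ = q (r ^ 3) := by
        rw [← map_inv, ← map_mul, ← map_mul, h1, map_mul, map_inv,
          (hq1 z).2 (Subgroup.mem_zpowers z), inv_one, one_mul]
      have h4 : Commute (q x) (q (r ^ 3)) := mul_inv_eq_iff_eq_mul.1 h3
      have h5 := h4.mul_right (hqW x u ha).inv_right
      rw [hru, map_mul, mul_inv_cancel_right, map_pow] at h5
      exact commutatorElement_eq_one_iff_mul_comm.2 h5.eq.symm
    rw [← pow_one (q x), comm_pow' hbr₁ (hqW s v P.vW).symm (hqW x v P.vW).symm, mul_one] at h2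
    have ha0 := (pow_eq_pow_iff hqv3 hqv1 a 0).1 (by rw [pow_zero]; exact h2)
    rw [hru]
    refine W.mul_mem ?_ ha
    have := pow_inv_mul_pow_mem hs3W ha0.symm
    rwa [pow_zero, inv_one, one_mul] at this
  -- the quotient by `W`
  set qW := QuotientGroup.mk' W with hqW'
  have hqWcen : ∀ g, ∀ u ∈ W₃, Commute (qW g) (qW u) := fun g u hu =>
    commutatorElement_eq_one_iff_mul_comm.1
      (by rw [← map_commutatorElement]; exact (QuotientGroup.eq_one_iff _).2 (P.stepW₃ g u hu))
  have hbr₂ : ⁅qW x, qW r⁆ = qW s := by rw [← map_commutatorElement, P.hs]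
  have hqs3 : qW s ^ 3 = 1 := by rw [← map_pow]; exact (QuotientGroup.eq_one_iff _).2 hs3W
  have hqs1 : qW s ≠ 1 := fun h => P.sW ((QuotientGroup.eq_one_iff _).1 h)
  have hrep : ∀ g : G, ∃ (a b : ℕ) (u : G), u ∈ W₃ ∧ g = r ^ a * (x ^ b * u) := by
    intro g
    obtain ⟨a, ha⟩ := exists_pow_mem (p := 3) (A := M) (B := ⊤) le_top
      (by rw [Subgroup.card_top, h5, P.cardM]; rfl) (Subgroup.mem_top r) P.rM (Subgroup.mem_top g)
    obtain ⟨b, hb⟩ := exists_pow_mem (p := 3) (A := W₃) P.leM (by rw [P.cardM, P.cardW₃]; rfl) P.xM P.xW₃ ha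
    exact ⟨a, b, _, hb, by rw [mul_inv_cancel_left, mul_inv_cancel_left]⟩
  have hcube : ∀ g : G, g ^ 3 ∈ W := by
    intro g
    obtain ⟨a, b, u, hu, rfl⟩ := hrep g
    refine (QuotientGroup.eq_one_iff _).1 (?_ : qW ((r ^ a * (x ^ b * u)) ^ 3) = 1)
    have hu3 : qW u ^ 3 = 1 := by
      obtain ⟨i, hi⟩ := hW₃rep u hu
      rw [show qW u = qW s ^ i by rw [← map_pow]; exact (QuotientGroup.eq.2 hi).symm, ← pow_mul,
        mul_comm, pow_mul, hqs3, one_pow]
    rw [map_pow, map_mul, map_mul, map_pow, map_pow, ← mul_assoc,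
      Commute.mul_pow ?_ 3, hu3, mul_one]
    swap
    · rw [← map_pow, ← map_pow, ← map_mul]
      exact hqWcen _ u hu
    have hw : ∀ g, Commute (qW s ^ (b * a)) (qW g) := fun g =>
      (hqWcen g s P.sW₃).symm.pow_left _
    rw [mul_pow_three (z := qW s ^ (b * a))
      (by rw [comm_pow (by rw [← hbr₂, commutatorElement_def]; group)
        (hqWcen x s P.sW₃).symm (hqWcen r s P.sW₃).symm b a])
      (by rw [← map_pow qW r]; exact hw _) (by rw [← map_pow qW x]; exact hw _),
      pow_right_comm (qW s) (b * a) 3, hqs3, pow_right_comm (qW r) a 3, pow_right_comm (qW x) b 3,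
      ← map_pow qW r 3, (QuotientGroup.eq_one_iff _).2 hr3 |> fun e => (e : qW (r ^ 3) = 1),
      ← map_pow qW x 3, P.xp, map_one]
    simp
  have hqxv : ∀ b : ℕ, Commute (x ^ b) v → x ^ b = 1 := by
    intro b hb
    have h := comm_pow' P.hz (hzc v).symm (hzc x).symm 1 b
    rw [pow_one, one_mul, commutatorElement_eq_one_iff_mul_comm.2 hb.eq.symm] at h
    rw [(pow_eq_pow_iff P.xp hx1 b 0).2 ((pow_eq_pow_iff P.zp P.z1 b 0).1 (by rw [pow_zero, h])),
      pow_zero]
  have hCv : ∀ g, Commute g v → ∃ (a : ℕ) (u : G), u ∈ W₃ ∧ g = r ^ a * u := by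
    intro g hg
    obtain ⟨a, b, u, hu, rfl⟩ := hrep g
    have h1 : Commute (x ^ b) v := by
      have h2 := ((hrv.pow_left a).inv_left.mul_left hg).mul_left
        (P.abW₃ u hu v hvW₃).inv_left
      rwa [inv_mul_cancel_left, mul_inv_cancel_right] at h2
    exact ⟨a, u, hu, by rw [hqxv b h1, one_mul]⟩
  have hcomm_of_pow : ∀ (g : G) (μ : ℕ), (μ : ZMod 3) ≠ 0 → Commute g (v ^ μ) → Commute g v := by
    intro g μ hμ h
    obtain ⟨μ', hμ'⟩ := exists_inv_exp hμ
    have h1 := h.pow_right μ'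
    rwa [← pow_mul, (pow_eq_pow_iff hv3 hv1 _ 1).2 (by rw [hμ', Nat.cast_one]), pow_one] at h1
  -- no norm map
  have hnorm : ¬ HasNorm G 3 := by
    rintro ⟨M₀, hMn₀, ν, t, y, hM₀, ht, hy, hne⟩
    haveI := hMn₀
    have hidx := index_of_coatom hG hM₀
    have hder : ∀ g h : G, ⁅g, h⁆ ∈ M₀ := by
      intro g h
      haveI := isCyclic_of_prime_card (show Nat.card (G ⧸ M₀) = 3 by
        rw [← Subgroup.index_eq_card]; exact hidx)
      letI := IsCyclic.commGroup (α := G ⧸ M₀)
      rw [← QuotientGroup.eq_one_iff, ← QuotientGroup.mk'_apply, map_commutatorElement,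
        commutatorElement_eq_one_iff_mul_comm]
      exact mul_comm _ _
    have hsM : s ∈ M₀ := P.hs ▸ hder x r
    have hvM : v ∈ M₀ := P.hv ▸ hder s x
    set D := (commutator M₀).map M₀.subtype with hD
    have hmemD : ∀ a ∈ M₀, ∀ b ∈ M₀, ⁅a, b⁆ ∈ D := fun a ha b hb =>
      ⟨⁅⟨a, ha⟩, ⟨b, hb⟩⁆,
        Subgroup.commutator_mem_commutator (Subgroup.mem_top _) (Subgroup.mem_top _),
        map_commutatorElement M₀.subtype _ _⟩
    have hDn : D.Normal := by infer_instance
    have hzD : Z ≤ D := by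
      have hne : D ≠ ⊥ := by
        intro h
        have hc : Nat.card M₀ = 3 ^ 4 := by
          have := M₀.card_mul_index
          rw [hidx, h5] at this
          omega
        refine hno M₀ hc ⟨⟨fun a b => Subtype.ext ?_⟩⟩
        exact commutatorElement_eq_one_iff_mul_comm.1
          (Subgroup.mem_bot.1 (h ▸ hmemD a a.2 b b.2))
      obtain ⟨⟨u, hu⟩, hu1⟩ := Subgroup.ne_bot_iff_exists_ne_one.1
        (H30.inf_center_ne_bot hG hDn hne)
      obtain ⟨hud, huc⟩ := Subgroup.mem_inf.1 hu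
      rw [hZ, ← zpowers_eq_of_mem (p := 3) P.zp (fun h => hu1 (Subtype.ext h)) (P.cen ▸ huc)]
      exact Subgroup.zpowers_le.2 hud
    refine hne ?_
    rw [prod_three ν hy]
    suffices hP : (y * t⁻¹) ^ 3 * t ^ 3 ∈ D by
      obtain ⟨m, hm, hm'⟩ := hP
      exact (congrArg ν (Subtype.ext hm')).symm.trans (char_eq_one_of_mem_commutator ν hm)
    by_cases hall : ∀ m ∈ M₀, Commute m v
    · -- the cubes outside lie in the centre
      have hout : ∀ g, g ∉ M₀ → g ^ 3 ∈ Z := by
        intro g hg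
        obtain ⟨i, hi⟩ := hWrep _ (hcube g)
        have hgv : ¬ Commute g v := by
          intro h
          have hsup : M₀ < M₀ ⊔ Subgroup.zpowers g :=
            lt_of_le_of_ne le_sup_left fun e => hg (e.symm ▸
              (le_sup_right : _ ≤ M₀ ⊔ Subgroup.zpowers g) (Subgroup.mem_zpowers g))
          have hle : M₀ ⊔ Subgroup.zpowers g ≤ Subgroup.centralizer ({v} : Set G) :=
            sup_le (fun m hm => Subgroup.mem_centralizer_singleton_iff.2 (hall m hm).eq)
              (Subgroup.zpowers_le.2 (Subgroup.mem_centralizer_singleton_iff.2 h.eq))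
          rw [hM₀.2 _ hsup] at hle
          have := Subgroup.mem_centralizer_singleton_iff.1 (hle (Subgroup.mem_top x))
          exact P.z1 (by rw [← P.hz]; exact commutatorElement_eq_one_iff_mul_comm.2 this.symm)
        have hi0 : (i : ZMod 3) = 0 := by
          by_contra hi0
          refine hgv (hcomm_of_pow g i hi0 ?_)
          have h1 := ((Commute.refl g).pow_right 3).mul_right (hZc g _ hi).inv_right
          rwa [mul_inv_rev, inv_inv, mul_inv_cancel_left] at h1
        rwa [(pow_eq_pow_iff hv3 hv1 i 0).2 (by rw [hi0, Nat.cast_zero]), pow_zero, inv_one,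
          one_mul] at hi
      refine hzD (Z.mul_mem (hout _ fun h => ht ?_) (hout t ht))
      have := M₀.mul_mem (M₀.inv_mem h) hy
      rwa [mul_inv_rev, inv_inv, inv_mul_cancel_right] at this
    · push Not at hall
      obtain ⟨m, hm, hmv⟩ := hall
      obtain ⟨a, b, u, hu, rfl⟩ := hrep m
      have hb0 : (b : ZMod 3) ≠ 0 := by
        intro hb0
        refine hmv ?_
        rw [(pow_eq_pow_iff P.xp hx1 b 0).2 (by rw [hb0, Nat.cast_zero]), pow_zero, one_mul]
        exact (hrv.pow_left a).mul_left (P.abW₃ u hu v hvW₃)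
      set e := ⁅r ^ a * (x ^ b * u), s⁆ with he
      have heD : e ∈ D := hmemD _ hm _ hsM
      have hqe : q e = (q v ^ b)⁻¹ := by
        have k1 : Commute (q r ^ a) (q s) := by
          refine Commute.pow_left ?_ a
          refine commutatorElement_eq_one_iff_mul_comm.1 ?_
          rw [← map_commutatorElement, P.hk, hq1]
          exact pow_mem (Subgroup.mem_zpowers z) k
        have k2 : Commute (q u) (q s) := (P.abW₃ u hu s P.sW₃).map q
        rw [he, map_commutatorElement, map_mul, map_mul, map_pow, map_pow,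
          show ⁅q r ^ a * (q x ^ b * q u), q s⁆ = q r ^ a * (q x ^ b * ⁅q u, q s⁆ * (q x ^ b)⁻¹ *
            ⁅q x ^ b, q s⁆) * (q r ^ a)⁻¹ * ⁅q r ^ a, q s⁆ by
            simp only [commutatorElement_def]; group,
          commutatorElement_eq_one_iff_mul_comm.2 k1.eq, mul_one,
          commutatorElement_eq_one_iff_mul_comm.2 k2.eq, mul_one, mul_inv_cancel, one_mul,
          ← commutatorElement_inv]
        have k3 := comm_pow' hbr₁ (hqW s v P.vW).symm (hqW x v P.vW).symm 1 b
        rw [pow_one, one_mul] at k3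
        have k4 : Commute (q r ^ a) (q v ^ b)⁻¹ := ((hrv.map q).pow_pow a b).inv_right
        rw [k3, k4.eq, mul_inv_cancel_right]
      have hvD : v ^ b ∈ D := by
        have h1 : v ^ b * e ∈ Z := by
          rw [← hq1, map_mul, map_pow, hqe, mul_inv_cancel]
        have := D.mul_mem (hzD h1) (D.inv_mem heD)
        rwa [mul_inv_cancel_right] at this
      have hvb : v ^ b ≠ 1 := fun h =>
        hb0 (by simpa using (pow_eq_pow_iff hv3 hv1 b 0).1 (by rw [pow_zero, h]))
      have hvD' : v ∈ D := mem_of_pow_mem hv3 hvb hvD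
      have hWD : W ≤ D := fun g hg => by
        obtain ⟨i, hi⟩ := hWrep g hg
        simpa using D.mul_mem (D.pow_mem hvD' i) (hzD hi)
      exact hWD (W.mul_mem (hcube _) (hcube t))
  -- the invariant character
  obtain ⟨χ, hχ, hinv⟩ := exists_invariant_character (w := w) hG hMidx P.rM fun β _ => by
    set f := topAut β with hf'
    rw [← topAut_apply, ← hf']
    have hfZ : ∀ g ∈ Z, f g ∈ Z := by
      intro g hg
      rw [hZ, ← P.cen, Subgroup.mem_center_iff]
      intro h
      obtain ⟨h, rfl⟩ := f.surjective h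
      rw [← map_mul, ← map_mul, (hZc h g hg).eq]
    have hPW : ∀ g, (∀ h, ⁅g, h⁆ ∈ Z) → g ∈ W := by
      intro g hg
      obtain ⟨a, b, u, hu, rfl⟩ := hrep g
      have hc : ∀ h, Commute (qW (r ^ a * (x ^ b))) (qW h) := by
        intro h
        have h1 : Commute (qW (r ^ a * (x ^ b * u))) (qW h) :=
          commutatorElement_eq_one_iff_mul_comm.1 (by
            rw [← map_commutatorElement]
            exact (QuotientGroup.eq_one_iff _).2
              ((Subgroup.zpowers_le.2 P.zW) (hg h)))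
        have h2 := h1.mul_left (hqWcen h u hu).symm.inv_left
        rwa [← mul_assoc, map_mul, mul_inv_cancel_right] at h2
      have k : ∀ n m : ℕ, ⁅qW x ^ n, qW r ^ m⁆ = qW s ^ (n * m) :=
        comm_pow' hbr₂ (hqWcen x s P.sW₃).symm (hqWcen r s P.sW₃).symm
      have ha : (a : ZMod 3) = 0 := by
        have h1 := hc x
        rw [map_mul, map_pow, map_pow] at h1
        have h2 := h1.mul_left ((Commute.refl (qW x)).pow_left b).inv_left
        rw [mul_inv_cancel_right] at h2
        have h3 := k 1 a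
        rw [pow_one, one_mul, commutatorElement_eq_one_iff_mul_comm.2 h2.symm.eq] at h3
        simpa using (pow_eq_pow_iff hqs3 hqs1 a 0).1 (by rw [pow_zero, h3])
      have hb : (b : ZMod 3) = 0 := by
        have h1 := hc r
        rw [map_mul, map_pow, map_pow] at h1
        have h2 := ((Commute.refl (qW r)).pow_left a).inv_left.mul_left h1
        rw [inv_mul_cancel_left] at h2
        have h3 := k b 1
        rw [pow_one, mul_one, commutatorElement_eq_one_iff_mul_comm.2 h2.eq] at h3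
        simpa using (pow_eq_pow_iff hqs3 hqs1 b 0).1 (by rw [pow_zero, h3])
      have hra : r ^ a ∈ W := by
        have := pow_inv_mul_pow_mem hr3 (show ((0 : ℕ) : ZMod 3) = a by rw [ha, Nat.cast_zero])
        rwa [pow_zero, inv_one, one_mul] at this
      have hxb : x ^ b = 1 := by
        rw [(pow_eq_pow_iff P.xp hx1 b 0).2 (by rw [hb, Nat.cast_zero]), pow_zero]
      rw [hxb, one_mul] at hg ⊢
      refine W.mul_mem hra ?_
      obtain ⟨i, hi⟩ := hW₃rep u hu
      have hqu : q u = q s ^ i * q ((s ^ i)⁻¹ * u) := by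
        rw [← map_pow, ← map_mul, mul_inv_cancel_left]
      have h1 : Commute (q s ^ i) (q x) := by
        have h2 : Commute (q (r ^ a * u)) (q x) := commutatorElement_eq_one_iff_mul_comm.1
          (by rw [← map_commutatorElement]; exact (hq1 _).2 (hg x))
        have h3 := ((hqW x _ hra).symm.inv_left.mul_left h2).mul_left (hqW x _ hi).symm.inv_left
        rwa [map_mul, inv_mul_cancel_left, hqu, mul_inv_cancel_right] at h3
      have h4 := comm_pow' hbr₁ (hqW s v P.vW).symm (hqW x v P.vW).symm i 1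
      rw [pow_one, mul_one, commutatorElement_eq_one_iff_mul_comm.2 h1.eq] at h4
      have hsi := pow_inv_mul_pow_mem hs3W
        ((pow_eq_pow_iff hqv3 hqv1 i 0).1 (by rw [pow_zero, h4])).symm
      rw [pow_zero, inv_one, one_mul] at hsi
      simpa using W.mul_mem hsi hi
    obtain ⟨μ, hμ⟩ := hWrep (f v) (hPW _ fun h => by
      obtain ⟨h, rfl⟩ := f.surjective h
      rw [← map_commutatorElement, ← commutatorElement_inv]
      exact hfZ _ (Z.inv_mem (P.stepW h v P.vW)))
    obtain ⟨ζ, hζ⟩ : ∃ ζ, (v ^ μ)⁻¹ * f v = ζ := ⟨_, rfl⟩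
    rw [hζ] at hμ
    have hfv : f v = v ^ μ * ζ := by rw [← hζ, mul_inv_cancel_left]
    have hμ0 : (μ : ZMod 3) ≠ 0 := by
      intro h0
      rw [(pow_eq_pow_iff hv3 hv1 μ 0).2 (by rw [h0, Nat.cast_zero]), pow_zero, one_mul] at hfv
      exact P.vZ ((mem_iff_apply_mem f hfZ v).2 (hfv ▸ hμ))
    have hfC : ∀ g, Commute g v → Commute (f g) v := by
      intro g hg
      refine hcomm_of_pow _ μ hμ0 ?_
      have h1 : Commute (f g) (v ^ μ * ζ) := hfv ▸ hg.map f.toMonoidHom
      have := h1.mul_right (hZc (f g) _ hμ).inv_right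
      rwa [mul_inv_cancel_right] at this
    obtain ⟨b, u, hu, hfr⟩ := hCv _ (hfC r hrv)
    obtain ⟨e, a, u', hu', hfx⟩ := hrep (f x)
    -- on `s`
    have hfsW₃ : qW (f s) = qW s ^ (a * b) := by
      rw [← P.hs, map_commutatorElement, map_commutatorElement, hfx, hfr, map_mul, map_mul, map_mul,
        map_pow, map_pow, map_pow, P.hs]
      have k1 : ∀ g, Commute (qW u') (qW g) := fun g => (hqWcen g u' hu').symm
      have k2 : ∀ g, Commute (qW g) (qW u) := fun g => hqWcen g u hu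
      rw [show ⁅qW r ^ e * (qW x ^ a * qW u'), qW r ^ b * qW u⁆ =
          qW r ^ e * (qW x ^ a * ⁅qW u', qW r ^ b * qW u⁆ * (qW x ^ a)⁻¹ *
            (⁅qW x ^ a, qW r ^ b⁆ * (qW r ^ b * ⁅qW x ^ a, qW u⁆ * (qW r ^ b)⁻¹))) * (qW r ^ e)⁻¹ *
          (⁅qW r ^ e, qW r ^ b⁆ * (qW r ^ b * ⁅qW r ^ e, qW u⁆ * (qW r ^ b)⁻¹)) by
          simp only [commutatorElement_def]; group,
        commutatorElement_eq_one_iff_mul_comm.2
          (show Commute (qW u') (qW r ^ b * qW u) by
            rw [← map_pow, ← map_mul]; exact k1 _).eq,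
        commutatorElement_eq_one_iff_mul_comm.2
          (show Commute (qW x ^ a) (qW u) by rw [← map_pow]; exact k2 _).eq,
        commutatorElement_eq_one_iff_mul_comm.2
          (show Commute (qW r ^ e) (qW u) by rw [← map_pow]; exact k2 _).eq,
        commutatorElement_eq_one_iff_mul_comm.2 ((Commute.refl (qW r)).pow_pow e b).eq,
        comm_pow' hbr₂ (hqWcen x s P.sW₃).symm (hqWcen r s P.sW₃).symm]
      simp only [mul_one, mul_inv_cancel, one_mul]
      have k3 : Commute (qW r ^ e) (qW s ^ (a * b)) := (hqWcen r s P.sW₃).pow_pow e _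
      rw [k3.eq, mul_inv_cancel_right]
    obtain ⟨w₁, hw₁⟩ : ∃ w₁, (s ^ (a * b))⁻¹ * f s = w₁ := ⟨_, rfl⟩
    have hw₁W : w₁ ∈ W := hw₁ ▸ QuotientGroup.eq.1
      (show qW (s ^ (a * b)) = qW (f s) by rw [map_pow, hfsW₃])
    have hfs : f s = s ^ (a * b) * w₁ := by rw [← hw₁, mul_inv_cancel_left]
    -- on `v`
    have hμab : (μ : ZMod 3) = ((a * b * a : ℕ) : ZMod 3) := by
      refine (pow_eq_pow_iff hqv3 hqv1 _ _).1 ?_
      have h1 : q (f v) = q v ^ μ := by
        rw [hfv, map_mul, map_pow, (hq1 _).2 hμ, mul_one]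
      rw [← h1, ← P.hv, map_commutatorElement, map_commutatorElement, hfs, hfx, map_mul, map_mul,
        map_mul, map_pow, map_pow, map_pow, P.hv]
      have k1 : ∀ g, Commute (q w₁) (q g) := fun g => (hqW g w₁ hw₁W).symm
      have k2 : Commute (q s) (q r) := commutatorElement_eq_one_iff_mul_comm.1 (by
        rw [← map_commutatorElement, ← commutatorElement_inv, P.hk, map_inv,
          (hq1 _).2 (pow_mem (Subgroup.mem_zpowers z) k), inv_one]) 
      have k3 : Commute (q s) (q u') := ((P.abW₃ u' hu' s P.sW₃).symm).map q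
      rw [show ⁅q s ^ (a * b) * q w₁, q r ^ e * (q x ^ a * q u')⁆ =
          q s ^ (a * b) * ⁅q w₁, q r ^ e * (q x ^ a * q u')⁆ * (q s ^ (a * b))⁻¹ *
          (⁅q s ^ (a * b), q r ^ e⁆ * (q r ^ e * (⁅q s ^ (a * b), q x ^ a⁆ *
            (q x ^ a * ⁅q s ^ (a * b), q u'⁆ * (q x ^ a)⁻¹)) * (q r ^ e)⁻¹)) by
          simp only [commutatorElement_def]; group,
        commutatorElement_eq_one_iff_mul_comm.2
          (show Commute (q w₁) (q r ^ e * (q x ^ a * q u')) by
            rw [← map_pow, ← map_pow, ← map_mul, ← map_mul]; exact k1 _).eq,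
        commutatorElement_eq_one_iff_mul_comm.2 (k2.pow_pow (a * b) e).eq,
        commutatorElement_eq_one_iff_mul_comm.2 (k3.pow_left (a * b)).eq,
        comm_pow' hbr₁ (hqW s v P.vW).symm (hqW x v P.vW).symm]
      simp only [mul_one, mul_inv_cancel, one_mul]
      have k4 : Commute (q r ^ e) (q v ^ (a * b * a)) := (hqW r v P.vW).pow_pow e _
      rw [k4.eq, mul_inv_cancel_right]
    -- on `z`
    have hfz : f z = z ^ (μ * a) := by
      rw [← P.hz, map_commutatorElement, hfv, hfx, P.hz]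
      have k1 : Commute ζ (r ^ e * (x ^ a * u')) := (hZc _ ζ hμ).symm
      have k2 : Commute (v ^ μ) (r ^ e) := hrv.symm.pow_pow μ e
      have k3 : Commute (v ^ μ) u' := (P.abW₃ v hvW₃ u' hu').pow_left μ
      rw [show ⁅v ^ μ * ζ, r ^ e * (x ^ a * u')⁆ =
          v ^ μ * ⁅ζ, r ^ e * (x ^ a * u')⁆ * (v ^ μ)⁻¹ * (⁅v ^ μ, r ^ e⁆ *
          (r ^ e * (⁅v ^ μ, x ^ a⁆ * (x ^ a * ⁅v ^ μ, u'⁆ * (x ^ a)⁻¹)) * (r ^ e)⁻¹)) by
          simp only [commutatorElement_def]; group,
        commutatorElement_eq_one_iff_mul_comm.2 k1.eq,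
        commutatorElement_eq_one_iff_mul_comm.2 k2.eq,
        commutatorElement_eq_one_iff_mul_comm.2 k3.eq,
        comm_pow' P.hz (hzc v).symm (hzc x).symm]
      simp only [mul_one, mul_inv_cancel, one_mul]
      rw [((hzc (r ^ e)).pow_right (μ * a)).eq, mul_inv_cancel_right]
    -- on the relation
    have hrel : f ⁅r, s⁆ = z ^ (k * (b * (a * b))) := by
      rw [map_commutatorElement, hfr, hfs]
      have k1 : Commute u (s ^ (a * b) * w₁) :=
        P.abW₃ u hu _ (W₃.mul_mem (W₃.pow_mem P.sW₃ _) (P.leW hw₁W))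
      have k2 : Commute (r ^ b) w₁ := (P.rW w₁ hw₁W).pow_left b
      rw [show ⁅r ^ b * u, s ^ (a * b) * w₁⁆ = r ^ b * ⁅u, s ^ (a * b) * w₁⁆ * (r ^ b)⁻¹ *
          (⁅r ^ b, s ^ (a * b)⁆ * (s ^ (a * b) * ⁅r ^ b, w₁⁆ * (s ^ (a * b))⁻¹)) by
          simp only [commutatorElement_def]; group,
        commutatorElement_eq_one_iff_mul_comm.2 k1.eq,
        commutatorElement_eq_one_iff_mul_comm.2 k2.eq,
        comm_pow' P.hk ((hzc r).symm.pow_left k) ((hzc s).symm.pow_left k)]
      simp only [mul_one, mul_inv_cancel, one_mul]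
      rw [← pow_mul]
    rw [P.hk, map_pow, hfz, ← pow_mul] at hrel
    have h1 := (pow_eq_pow_iff P.zp P.z1 _ _).1 hrel
    push_cast at h1 hμab
    rw [hμab] at h1 hμ0
    have ha : (a : ZMod 3) ≠ 0 := fun h => hμ0 (by rw [h]; ring)
    have hb : (b : ZMod 3) ≠ 0 := fun h => hμ0 (by rw [h]; ring)
    have haa : (a : ZMod 3) * a = 1 := zmod_three_facts.2.2 _ ha
    have hb1 : (b : ZMod 3) = ((1 : ℕ) : ZMod 3) := by
      rw [Nat.cast_one]
      refine mul_left_cancel₀ (mul_ne_zero (mul_ne_zero P.kne ha) hb) ?_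
      linear_combination -h1 + (k : ZMod 3) * a * b * haa
    rw [hfr]
    have hrb : (r ^ 1)⁻¹ * r ^ b ∈ M :=
      (P.leW.trans P.leM) (pow_inv_mul_pow_mem hr3 hb1.symm)
    have h2 := P.normM.conj_mem _ (M.mul_mem hrb (P.leM hu)) r
    rwa [pow_one, ← mul_assoc r, mul_inv_cancel_left] at h2
  exact hnorm (hhyp χ hχ hinv)

end H62.PFive
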