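import Cfsg.Agent.H62.PFive.Setup
import Cfsg.Agent.H62.PFive.FromFusion

/-!
No norm map when all cubes lie in a small central subgroup.
-/

set_option autoImplicit false
set_option linter.unusedSectionVars false
set_option linter.style.haveILetI false

open scoped commutatorElement

namespace H62.PFive

universe u

variable {G : Type u} [Group G] [Finite G]

/-- The product of the three conjugates. -/
theorem prod_three {M : Subgroup G} [hMn : M.Normal] (ν : M →* Multiplicative (ZMod 3)) {z y : G}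
    (hy : y ∈ M) :
    (∏ i ∈ Finset.range 3, ν ⟨(z ^ i)⁻¹ * y * z ^ i, by simpa using hMn.conj_mem y hy (z ^ i)⁻¹⟩) =
      ν ⟨(y * z⁻¹) ^ 3 * z ^ 3, by
        have h : ∀ i : ℕ, (z ^ i)⁻¹ * y * z ^ i ∈ M := fun i => by
          simpa using hMn.conj_mem y hy (z ^ i)⁻¹
        have h1 := M.mul_mem (M.mul_mem (h 0) (h 1)) (h 2)
        convert h1 using 1
        simp only [pow_succ, pow_zero]; group⟩ := by
  rw [Finset.prod_range_succ, Finset.prod_range_succ, Finset.prod_range_one, ← map_mul, ← map_mul]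
  refine congrArg ν (Subtype.ext ?_)
  simp only [Subgroup.coe_mul]
  simp only [pow_succ, pow_zero]
  group

/-- A character of `M` kills its commutators. -/
theorem char_eq_one_of_mem_commutator {p : ℕ} {M : Subgroup G} (ν : M →* Multiplicative (ZMod p))
    {g : M} (h : g ∈ commutator M) : ν g = 1 :=
  (Abelianization.commutator_subset_ker ν) h

theorem not_hasNorm_of_cubes (h5 : Nat.card G = 3 ^ 5)
    (hno : ∀ A : Subgroup G, Nat.card A = 3 ^ 4 → ¬ IsMulCommutative A) {c : G} (hc3 : c ^ 3 = 1)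
    (hcen : Subgroup.center G ≤ Subgroup.zpowers c)
    (hcube : ∀ g : G, g ^ 3 ∈ Subgroup.zpowers c) : ¬ HasNorm G 3 := by
  rintro ⟨M, hMn, ν, z, y, hM, -, hy, hne⟩
  haveI := hMn
  haveI : Fact (Nat.Prime 3) := ⟨by norm_num⟩
  have hG : IsPGroup 3 G := IsPGroup.of_card h5
  have hMc : Nat.card M = 3 ^ 4 := by
    have h := M.card_mul_index
    rw [index_of_coatom hG hM, h5] at h
    omega
  haveI : ((commutator M).map M.subtype).Normal := by infer_instance
  have hD : (commutator M).map M.subtype ≠ ⊥ := by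
    intro h
    refine hno M hMc ⟨⟨fun a b => commutatorElement_eq_one_iff_mul_comm.1 (Subgroup.mem_bot.1 ?_)⟩⟩
    rw [← (Subgroup.map_eq_bot_iff_of_injective _ M.subtype_injective).1 h]
    exact Subgroup.commutator_mem_commutator (Subgroup.mem_top a) (Subgroup.mem_top b)
  obtain ⟨⟨u, hu⟩, hu1⟩ := Subgroup.ne_bot_iff_exists_ne_one.1
    (H30.inf_center_ne_bot hG inferInstance hD)
  obtain ⟨hud, huc⟩ := Subgroup.mem_inf.1 hu
  have hu' : u ≠ 1 := fun h => hu1 (Subtype.ext h)
  have hle : Subgroup.zpowers c ≤ (commutator M).map M.subtype := by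
    rw [← zpowers_eq_of_mem (p := 3) hc3 hu' (hcen huc)]
    exact Subgroup.zpowers_le.2 hud
  refine hne ?_
  rw [prod_three ν hy]
  obtain ⟨m, hm, hm'⟩ := hle ((Subgroup.zpowers c).mul_mem (hcube (y * z⁻¹)) (hcube z))
  exact (congrArg ν (Subtype.ext hm')).symm.trans (char_eq_one_of_mem_commutator ν hm)

end H62.PFive
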