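import Cfsg.Agent.H62.PFive.TopSetup
import Cfsg.Agent.H62.PFive.NoNorm
import Cfsg.Agent.H62.PFive.Invariant

/-!
The case of a non-normal essential subgroup of order `p ^ 3`.
-/

set_option autoImplicit false
set_option linter.unusedSectionVars false
set_option linter.style.haveILetI false

open scoped commutatorElement

namespace H62.PFive

theorem zmod_three_facts : ((2 * 2 : ℕ) : ZMod 3) = 1 ∧ (3 : ZMod 3) = 0 ∧
    ∀ t : ZMod 3, t ≠ 0 → t * t = 1 := by decide

universe u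

variable {G : Type u} [Group G] [Finite G] {p : ℕ} [hp : Fact p.Prime] {w : World G p}
  {E : Subgroup G}

/-- An inverse exponent modulo `p`. -/
theorem exists_inv_exp {l : ℕ} (hl : (l : ZMod p) ≠ 0) :
    ∃ l' : ℕ, ((l * l' : ℕ) : ZMod p) = 1 :=
  ⟨((l : ZMod p)⁻¹).val, by
    rw [Nat.cast_mul, ZMod.natCast_val, ZMod.cast_id', id_eq, mul_inv_cancel₀ hl]⟩

theorem natCast_ne_zero_of_lt {n : ℕ} (h0 : 0 < n) (h : n < p) : (n : ZMod p) ≠ 0 := fun h1 =>
  absurd (Nat.le_of_dvd h0 ((ZMod.natCast_eq_zero_iff n p).1 h1)) (not_le.2 h)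

/-- An exponent whose fifth power is not one. -/
theorem exists_fifth_ne_one (hp2 : p ≠ 2) : ∃ l : ℕ, (l : ZMod p) ≠ 0 ∧ (l : ZMod p) ^ 5 ≠ 1 := by
  have h2 : ((2 : ℕ) : ZMod p) ≠ 0 :=
    natCast_ne_zero_of_lt two_pos (lt_of_le_of_ne hp.out.two_le (Ne.symm hp2))
  by_cases h31 : p = 31
  · subst h31
    exact ⟨3, by decide +revert, by decide +revert⟩
  · refine ⟨2, h2, fun h => h31 ?_⟩
    have h' : ((31 : ℕ) : ZMod p) = 0 := by
      rw [Nat.cast_ofNat] at h
      rw [Nat.cast_ofNat]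
      linear_combination h
    exact (Nat.prime_dvd_prime_iff_eq hp.out (by norm_num)).1 ((ZMod.natCast_eq_zero_iff 31 p).1 h')

/-- The contradiction in the case `|E| = p ^ 3`, `E` not normal. -/
theorem Conf.top_false (h5 : Nat.card G = p ^ 5) (hp2 : p ≠ 2)
    (hno : ∀ A : Subgroup G, Nat.card A = p ^ 4 → ¬ IsMulCommutative A) {H D : Subgroup G}
    {x c d : G} (C : Conf w E H D x c) (hH2 : Nat.card H = p ^ 2) (hd : d ∈ D)
    (hdc : d ∉ Subgroup.zpowers c) (hdp : d ^ p = 1)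
    (hMtop : Subgroup.normalizer (Subgroup.normalizer (E : Set G) : Set G) = ⊤)
    (hhyp : ∀ χ : G →* Multiplicative (ZMod p), χ ≠ 1 →
      (∀ β ∈ w.aut ⊤, ∀ x, χ ((β x : (⊤ : Subgroup G)) : G) = χ (x : G)) → HasNorm G p) :
    False := by
  have hG : IsPGroup p G := IsPGroup.of_card h5
  haveI := C.normH
  set N := Subgroup.normalizer (E : Set G) with hN
  haveI hNn : N.Normal := Subgroup.normalizer_eq_top_iff.1 hMtop
  have hEN : E ≤ N := Subgroup.le_normalizer
  have hHN : H ≤ N := C.hle.trans hEN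
  have hM : ∀ g : G, g ∈ Subgroup.normalizer (N : Set G) := fun g => hMtop ▸ Subgroup.mem_top g
  have hxN : x ∈ N := hEN C.xE
  have hdH : d ∈ H := C.dle hd
  have hd1 : d ≠ 1 := fun h => hdc (h ▸ one_mem _)
  obtain ⟨s, hs⟩ : ∃ s, s ∉ N := by
    by_contra h
    push Not at h
    have h1 := C.cardM
    rw [hMtop, ← hN, show N = ⊤ from eq_top_iff.2 fun g _ => h g, Subgroup.card_top] at h1
    have := hp.out.two_le
    have := Nat.card_pos (α := G)
    nlinarith
  have SD := C.step hG (hM s) hs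
  set v := ⁅s, x⁆ with hv
  have hvN : v ∈ N := SD.memN
  have hcc : ∀ g : G, g * c = c * g := fun g => SD.fixC g (hM g)
  set Zc := Subgroup.zpowers c with hZc
  haveI hZcn : Zc.Normal := ⟨fun y hy g => by
    obtain ⟨k, rfl⟩ := Subgroup.mem_zpowers_iff.1 hy
    rw [((show Commute g c from hcc g).zpow_right k).eq, mul_inv_cancel_right]
    exact hy⟩
  have hcH : Zc ≤ H := Subgroup.zpowers_le.2 C.cH
  have hZcc : Nat.card Zc = p := by rw [Nat.card_zpowers, orderOf_eq_prime C.cp C.c1]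
  have hgen : ∀ g : G, ∃ k : ℕ, (s ^ k)⁻¹ * g ∈ N := fun g =>
    exists_pow_mem' (A := N) (B := Subgroup.normalizer (N : Set G)) Subgroup.le_normalizer le_rfl
      C.cardM (hM s) hs (hM g)
  set q₁ := QuotientGroup.mk' Zc with hq₁
  have hq1 : ∀ y, q₁ y = 1 ↔ y ∈ Zc := fun y => QuotientGroup.eq_one_iff y
  have hqcen : ∀ g, ∀ h ∈ H, Commute (q₁ g) (q₁ h) := fun g h hh =>
    commutatorElement_eq_one_iff_mul_comm.1
      (by rw [← map_commutatorElement]; exact (hq1 _).2 (SD.stepH g (hM g) h hh))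
  have hHd : ∀ h ∈ H, ∃ k : ℕ, (d ^ k)⁻¹ * h ∈ Zc := fun h hh =>
    exists_pow_mem hcH (by rw [hH2, hZcc, sq]) hdH hdc hh
  -- the torus on `⁅s, d⁆` and `⁅s, v⁆`
  obtain ⟨j, hj⟩ := mem_powers_iff_mem_zpowers.2 (SD.stepH s (hM s) d hdH)
  change c ^ j = ⁅s, d⁆ at hj
  obtain ⟨m, hm⟩ := hHd _ (SD.stepW s (hM s))
  have hqm : ⁅q₁ s, q₁ v⁆ = q₁ d ^ m := by
    rw [← map_commutatorElement, ← map_pow]
    exact (QuotientGroup.eq.2 hm).symm
  have hqdp : q₁ d ^ p = 1 := by rw [← map_pow, hdp, map_one]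
  have hqd1 : q₁ d ≠ 1 := fun h => hdc ((hq1 d).1 h)
  have hv0 : ⁅v, x⁆ ∈ Zc := C.shift v hvN
  have hqvx : Commute (q₁ v) (q₁ x) := commutatorElement_eq_one_iff_mul_comm.1
    (by rw [← map_commutatorElement]; exact (hq1 _).2 hv0)
  have hqvN : ∀ n ∈ N, Commute (q₁ v) (q₁ n) := by
    intro n hn
    obtain ⟨i, i', hi⟩ := SD.decomp n hn
    have h1 : q₁ n = q₁ x ^ i * q₁ v ^ i' * q₁ ((x ^ i * v ^ i')⁻¹ * n) := by
      rw [← map_pow, ← map_pow, ← map_mul, ← map_mul, mul_inv_cancel_left]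
    rw [h1]
    exact ((hqvx.pow_right i).mul_right ((Commute.refl (q₁ v)).pow_right i')).mul_right
      (hqcen v _ hi)
  have htor : ∀ l : ℕ, (l : ZMod p) ≠ 0 →
      ((l : ZMod p) ^ 3 * j = l * j) ∧ (l : ZMod p) ^ 5 * m = m := by
    intro l hl
    obtain ⟨l', hll⟩ := exists_inv_exp hl
    obtain ⟨γ, -, A⟩ := SD.act l l' hll
    obtain ⟨n, hn⟩ : ∃ n, (s ^ l ^ 3)⁻¹ * app γ s = n := ⟨_, rfl⟩
    have hns : app γ s = s ^ l ^ 3 * n := by rw [← hn, mul_inv_cancel_left]
    have hnN : n ∈ N := hn ▸ A.onS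
    constructor
    · have h1 : app γ ⁅s, d⁆ = (c ^ l) ^ j := by rw [← hj, app_pow γ (hM c), A.onC]
      rw [app_comm γ (hM s) (hM d), A.onD d hd, hns,
        show ⁅s ^ l ^ 3 * n, d⁆ = s ^ l ^ 3 * ⁅n, d⁆ * (s ^ l ^ 3)⁻¹ * ⁅s ^ l ^ 3, d⁆ by
          simp only [commutatorElement_def]; group,
        commutatorElement_eq_one_iff_mul_comm.2 (C.central n hnN d hdH), mul_one, mul_inv_cancel,
        one_mul] at h1
      have h2 := comm_pow' hj.symm ((show Commute s c from hcc s).symm.pow_left j)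
        ((show Commute d c from hcc d).symm.pow_left j) (l ^ 3) 1
      rw [pow_one, mul_one, h1, ← pow_mul, ← pow_mul] at h2
      have h3 := (pow_eq_pow_iff C.cp C.c1 _ _).1 h2
      push_cast at h3
      linear_combination -h3
    · have h1 : q₁ (app γ ⁅s, v⁆) = q₁ d ^ m := by
        obtain ⟨i, hi⟩ := mem_powers_iff_mem_zpowers.2 hm
        change c ^ i = (d ^ m)⁻¹ * ⁅s, v⁆ at hi
        rw [show ⁅s, v⁆ = d ^ m * c ^ i by rw [hi, mul_inv_cancel_left],
          app_mul γ (hM _) (hM _), app_pow γ (hM d), app_pow γ (hM c), A.onD d hd, A.onC, map_mul,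
          map_pow, (hq1 ((c ^ l) ^ i)).2 (pow_mem (pow_mem (Subgroup.mem_zpowers c) l) i), mul_one]
      obtain ⟨h, hh⟩ : ∃ h, (v ^ l ^ 2)⁻¹ * app γ v = h := ⟨_, rfl⟩
      have hvh : app γ v = v ^ l ^ 2 * h := by rw [← hh, mul_inv_cancel_left]
      have hhH : h ∈ H := hh ▸ A.onW
      rw [app_comm γ (hM s) (hM v), map_commutatorElement, hns, hvh, map_mul, map_mul, map_pow,
        map_pow] at h1
      have hc1 : Commute (q₁ s ^ l ^ 3 * q₁ n) (q₁ h) := (hqcen (s ^ l ^ 3 * n) h hhH |> fun e => by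
        rwa [map_mul, map_pow] at e)
      have hc2 : Commute (q₁ n) (q₁ v ^ l ^ 2) := (hqvN n hnN).symm.pow_right _
      rw [show ⁅q₁ s ^ l ^ 3 * q₁ n, q₁ v ^ l ^ 2 * q₁ h⁆ =
          ⁅q₁ s ^ l ^ 3 * q₁ n, q₁ v ^ l ^ 2⁆ * (q₁ v ^ l ^ 2 *
            ⁅q₁ s ^ l ^ 3 * q₁ n, q₁ h⁆ * (q₁ v ^ l ^ 2)⁻¹) by
          simp only [commutatorElement_def]; group,
        commutatorElement_eq_one_iff_mul_comm.2 hc1.eq, mul_one, mul_inv_cancel, mul_one,
        show ⁅q₁ s ^ l ^ 3 * q₁ n, q₁ v ^ l ^ 2⁆ = q₁ s ^ l ^ 3 * ⁅q₁ n, q₁ v ^ l ^ 2⁆ *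
          (q₁ s ^ l ^ 3)⁻¹ * ⁅q₁ s ^ l ^ 3, q₁ v ^ l ^ 2⁆ by
          simp only [commutatorElement_def]; group,
        commutatorElement_eq_one_iff_mul_comm.2 hc2.eq, mul_one, mul_inv_cancel, one_mul,
        comm_pow' hqm ((hqcen s d hdH).symm.pow_left m) ((hqcen v d hdH).symm.pow_left m),
        ← pow_mul] at h1
      have h3 := (pow_eq_pow_iff hqdp hqd1 _ _).1 h1
      push_cast at h3
      linear_combination h3
  have hm0 : (m : ZMod p) = 0 := by
    obtain ⟨l, hl, hl5⟩ := exists_fifth_ne_one (p := p) hp2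
    have h := (htor l hl).2
    by_contra hm0
    exact hl5 (mul_right_cancel₀ hm0 (by rw [h, one_mul]))
  have hqsv : Commute (q₁ s) (q₁ v) := commutatorElement_eq_one_iff_mul_comm.1 (by
    rw [hqm, show q₁ d ^ m = q₁ d ^ 0 from
      (pow_eq_pow_iff hqdp hqd1 _ _).2 (by rw [hm0, Nat.cast_zero]), pow_zero])
  have hqv : ∀ g, Commute (q₁ g) (q₁ v) := by
    intro g
    obtain ⟨k, hk⟩ := hgen g
    have h1 : q₁ g = q₁ s ^ k * q₁ ((s ^ k)⁻¹ * g) := by
      rw [← map_pow, ← map_mul, mul_inv_cancel_left]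
    rw [h1]
    exact (hqsv.pow_left k).mul_left (hqvN _ hk).symm
  have hvcomm : ∀ g : G, ⁅g, v⁆ ∈ Zc := fun g => (hq1 _).1 (by
    rw [map_commutatorElement, commutatorElement_eq_one_iff_mul_comm]
    exact hqv g)
  have hc0 : ⁅v, x⁆ ≠ 1 := SD.commWX
  have hvH : v ∉ H := fun h => SD.notE (C.hle h)
  by_cases hj0 : (j : ZMod p) = 0
  · -- `H` is central and the centraliser of `v` is abelian of order `p ^ 4`
    have hsd : Commute s d := by
      refine commutatorElement_eq_one_iff_mul_comm.1 (?_ : ⁅s, d⁆ = 1)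
      rw [← hj, show c ^ j = c ^ 0 from
        (pow_eq_pow_iff C.cp C.c1 _ _).2 (by rw [hj0, Nat.cast_zero]), pow_zero]
    have hdg : ∀ g, Commute g d := by
      intro g
      obtain ⟨k, hk⟩ := hgen g
      have := (hsd.pow_left k).mul_left (show Commute _ d from C.central _ hk d hdH)
      rwa [mul_inv_cancel_left] at this
    have hHc : ∀ g, ∀ h ∈ H, Commute g h := by
      intro g h hh
      obtain ⟨k, hk⟩ := hHd h hh
      obtain ⟨i, hi⟩ := Subgroup.mem_zpowers_iff.1 hk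
      have := ((hdg g).pow_right k).mul_right ((show Commute g c from hcc g).zpow_right i)
      rwa [hi, mul_inv_cancel_left] at this
    let χ : G →* G :=
      { toFun := fun g => ⁅g, v⁆
        map_one' := commutatorElement_one_left v
        map_mul' := fun g h => by
          rw [show ⁅g * h, v⁆ = g * ⁅h, v⁆ * g⁻¹ * ⁅g, v⁆ by
            simp only [commutatorElement_def]; group,
            (hHc g _ (hcH (hvcomm h))).eq, mul_inv_cancel_right,
            (hHc ⁅g, v⁆ _ (hcH (hvcomm h))).eq] }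
    have hxK : x ∉ χ.ker := fun h => hc0 (by
      rw [← commutatorElement_inv, show ⁅x, v⁆ = 1 from h, inv_one])
    have hr : Nat.card χ.range ≤ p := hZcc ▸ Nat.le_of_dvd Nat.card_pos
      (Subgroup.card_dvd_of_le (by rintro _ ⟨g, rfl⟩; exact hvcomm g))
    have hK : Nat.card χ.ker = p ^ 4 := by
      have h1 := χ.ker.card_mul_index
      rw [Subgroup.index_ker, h5] at h1
      obtain ⟨k, hk5, hk⟩ := (Nat.dvd_prime_pow hp.out).1 (h5 ▸ Subgroup.card_subgroup_dvd_card χ.ker)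
      have h2 : k ≠ 5 := fun h => hxK
        (Subgroup.eq_top_of_card_eq χ.ker (by rw [hk, h, h5]) ▸ Subgroup.mem_top x)
      have h3 : p ^ 5 ≤ p ^ k * p := by rw [← h1, hk]; exact Nat.mul_le_mul_left _ hr
      rw [← pow_succ] at h3
      have := (Nat.pow_le_pow_iff_right hp.out.one_lt).1 h3
      rw [hk, show k = 4 by omega]
    set W := H ⊔ Subgroup.zpowers v
    have hW : p ^ 3 ≤ Nat.card W := by
      obtain ⟨k, hk5, hk⟩ := (Nat.dvd_prime_pow hp.out).1 (h5 ▸ Subgroup.card_subgroup_dvd_card W)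
      rw [hk]
      refine Nat.pow_le_pow_right hp.out.pos ?_
      by_contra h
      refine hvH ?_
      rw [Subgroup.eq_of_le_of_card_ge (le_sup_left : H ≤ W)
        (by rw [hk, hH2]; exact Nat.pow_le_pow_right hp.out.pos (by omega))]
      exact (le_sup_right : _ ≤ W) (Subgroup.mem_zpowers v)
    have hvK : v ∈ χ.ker := commutatorElement_self v
    have hWK : W ≤ χ.ker := sup_le
      (fun h hh => commutatorElement_eq_one_iff_mul_comm.2 (hHc v h hh).symm.eq)
      (Subgroup.zpowers_le.2 hvK)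
    refine false_of_central_big hno hK hWK hW fun a ha b hb => ?_
    have hle : W ≤ Subgroup.centralizer ({a} : Set G) := sup_le
      (fun h hh => Subgroup.mem_centralizer_singleton_iff.2 (hHc a h hh).eq.symm)
      (Subgroup.zpowers_le.2 (Subgroup.mem_centralizer_singleton_iff.2
        (commutatorElement_eq_one_iff_mul_comm.1 ha).symm))
    exact (Subgroup.mem_centralizer_singleton_iff.1 (hle hb)).symm
  -- `p = 3`
  obtain rfl : p = 3 := by
    by_contra hp3
    have h := (htor 2 (natCast_ne_zero_of_lt two_pos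
      (lt_of_le_of_ne hp.out.two_le (Ne.symm hp2)))).1
    push_cast at h
    have h2 : ((3 : ℕ) : ZMod p) * ((2 : ℕ) : ZMod p) * j = 0 := by
      push_cast
      linear_combination h
    rcases mul_eq_zero.1 h2 with h3 | h3
    · rcases mul_eq_zero.1 h3 with h4 | h4
      · exact hp3 ((Nat.prime_dvd_prime_iff_eq hp.out Nat.prime_three).1
          ((ZMod.natCast_eq_zero_iff 3 p).1 h4))
      · exact hp2 ((Nat.prime_dvd_prime_iff_eq hp.out Nat.prime_two).1
          ((ZMod.natCast_eq_zero_iff 2 p).1 h4))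
    · exact hj0 h3
  have hcpow : ∀ a b : ℕ, c ^ a = c ^ b → (a : ZMod 3) = b := fun a b =>
    (pow_eq_pow_iff C.cp C.c1 a b).1
  have hjd : ∀ k : ℕ, ⁅s, d ^ k⁆ = c ^ (j * k) := fun k => by
    have h2 := comm_pow' hj.symm ((show Commute s c from hcc s).symm.pow_left j)
      ((show Commute d c from hcc d).symm.pow_left j) 1 k
    rw [pow_one, one_mul, ← pow_mul] at h2
    exact h2
  -- the centre
  have hcen : Subgroup.center G ≤ Zc := by
    intro z hz
    have hzc := Subgroup.mem_center_iff.1 hz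
    have hzE : z ∈ E := C.cent (Subgroup.mem_centralizer_iff.2 fun e _ => hzc e)
    obtain ⟨k, hk⟩ := exists_pow_mem C.hle C.idx C.xE C.xH hzE
    set qH := QuotientGroup.mk' H
    have hqz : qH z = qH x ^ k := by
      rw [← map_pow]; exact (QuotientGroup.eq.2 hk).symm
    have hcs : Commute (qH v) (qH s) := (commutatorElement_eq_one_iff_mul_comm.1 (by
      rw [← map_commutatorElement]
      exact (QuotientGroup.eq_one_iff _).2 (SD.stepW s (hM s)))).symm
    have hcx : Commute (qH v) (qH x) := commutatorElement_eq_one_iff_mul_comm.1 (by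
      rw [← map_commutatorElement]
      exact (QuotientGroup.eq_one_iff _).2 (hcH hv0))
    have h2 := comm_pow' (show ⁅qH s, qH x⁆ = qH v by rw [← map_commutatorElement]) hcs hcx 1 k
    rw [pow_one, one_mul, ← hqz, ← map_commutatorElement,
      commutatorElement_eq_one_iff_mul_comm.2 (hzc s), map_one] at h2
    have hk0 : (k : ZMod 3) = (0 : ℕ) := (pow_eq_pow_iff
      (by rw [← QuotientGroup.mk_pow]; exact (QuotientGroup.eq_one_iff _).2 SD.powW)
      (fun h => hvH ((QuotientGroup.eq_one_iff _).1 h)) k 0).1 (by rw [pow_zero]; exact h2.symm)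
    have hx0 : x ^ k = 1 := by
      rw [(pow_eq_pow_iff C.xp (fun h => C.xH (h ▸ one_mem _)) k 0).2 hk0, pow_zero]
    rw [hx0, inv_one, one_mul] at hk
    obtain ⟨k', hk'⟩ := hHd z hk
    obtain ⟨i, hi⟩ := Subgroup.mem_zpowers_iff.1 hk'
    have h3 : Commute s (d ^ k') := by
      have := (show Commute s z from hzc s).mul_right ((show Commute s c from hcc s).zpow_right i).inv_right
      rwa [hi, mul_inv_rev, inv_inv, mul_inv_cancel_left] at this
    have h4 := hcpow (j * k') 0 (by rw [pow_zero, ← hjd k']; exact commutatorElement_eq_one_iff_mul_comm.2 h3.eq)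
    rw [Nat.cast_mul, Nat.cast_zero, mul_eq_zero, or_iff_right hj0] at h4
    rw [show d ^ k' = d ^ 0 from (pow_eq_pow_iff hdp hd1 k' 0).2 (by simpa using h4),
      pow_zero, inv_one, one_mul] at hk'
    exact hk'
  -- the group modulo the centre
  set a := q₁ s with hadef
  set b := q₁ x with hbdef
  set v' := q₁ v with hv'def
  set d' := q₁ d with hd'def
  have hva : ∀ g, Commute v' (q₁ g) := fun g => (hqv g).symm
  have hda : ∀ g, Commute d' (q₁ g) := fun g => (hqcen g d hdH).symm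
  have hab : ⁅a, b⁆ = v' := by rw [hadef, hbdef, hv'def, ← map_commutatorElement]
  have hb3 : b ^ 3 = 1 := by rw [hbdef, ← map_pow, C.xp, map_one]
  have hv'1 : v' ≠ 1 := fun h => hvH (hcH ((hq1 v).1 h))
  have hv'3 : v' ^ 3 = 1 := by
    have h2 := comm_pow' hab (hva s) (hva x) 1 3
    rw [pow_one, one_mul, hb3, commutatorElement_one_right] at h2
    exact h2.symm
  have hrepN : ∀ n ∈ N, ∃ i j' k : ℕ, q₁ n = b ^ i * (v' ^ j' * d' ^ k) := by
    intro n hn
    obtain ⟨i, j', hij⟩ := SD.decomp n hn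
    obtain ⟨k, hk⟩ := hHd _ hij
    refine ⟨i, j', k, ?_⟩
    rw [hbdef, hv'def, hd'def, ← map_pow, ← map_pow, ← map_pow, ← map_mul, ← map_mul]
    refine (QuotientGroup.eq.2 ?_).symm
    rw [← mul_assoc (x ^ i), mul_inv_rev, mul_assoc]
    exact hk
  have hzcomm : ∀ (i j' k : ℕ), Commute (b ^ i) (v' ^ j' * d' ^ k) := fun i j' k =>
    (((hva x).symm.pow_pow i j').mul_right ((hda x).symm.pow_pow i k))
  have hcubeN : ∀ n ∈ N, q₁ n ^ 3 = 1 := by
    intro n hn
    obtain ⟨i, j', k, h⟩ := hrepN n hn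
    rw [h, (hzcomm i j' k).mul_pow, ((hda v).symm.pow_pow j' k).mul_pow, ← pow_mul, ← pow_mul,
      ← pow_mul, mul_comm i, mul_comm j', mul_comm k, pow_mul, pow_mul, pow_mul, hb3, hv'3, hqdp]
    simp
  have hswap : ∀ (k : ℕ) (n : G), n ∈ N → ∃ z : G ⧸ Zc, Commute z (a ^ k) ∧ Commute z (q₁ n) ∧
      z ^ 3 = 1 ∧ q₁ n * a ^ k = z * a ^ k * q₁ n := by
    intro k n hn
    obtain ⟨i, j', k', h⟩ := hrepN n hn
    refine ⟨(v' ^ (k * i))⁻¹, ((hva s).pow_pow _ k).inv_left, ((hva n).pow_left _).inv_left, ?_, ?_⟩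
    · rw [inv_pow, ← pow_mul, mul_comm, pow_mul, hv'3, one_pow, inv_one]
    · have h1 := comm_pow (s := a) (x := b) (w := v')
        (by rw [← hab, commutatorElement_def]; group) (hva s) (hva x) k i
      have h2 : Commute (v' ^ j' * d' ^ k') (a ^ k) :=
        ((hva s).pow_pow j' k).mul_left ((hda s).pow_pow k' k)
      rw [h, mul_assoc (b ^ i), h2.eq, ← mul_assoc (b ^ i), mul_assoc (v' ^ (k * i))⁻¹ (a ^ k),
        ← mul_assoc (a ^ k) (b ^ i), h1]
      group
  have ha3 : a ^ 3 = 1 := by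
    obtain ⟨i, j', k, h⟩ := hrepN _ SD.powS
    rw [map_pow] at h
    have hi : (i : ZMod 3) = (0 : ℕ) := by
      refine (pow_eq_pow_iff hv'3 hv'1 i 0).1 ?_
      have h1 : Commute a (b ^ i * (v' ^ j' * d' ^ k)) := h ▸ (Commute.refl a).pow_right 3
      have h2 : Commute a (b ^ i) := by
        have := h1.mul_right (((hva s).symm.pow_right j').mul_right
          ((hda s).symm.pow_right k)).inv_right
        rwa [mul_inv_cancel_right] at this
      have h3 := comm_pow' hab (hva s) (hva x) 1 i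
      rw [pow_one, one_mul, commutatorElement_eq_one_iff_mul_comm.2 h2.eq] at h3
      rw [pow_zero, ← h3]
    rw [show b ^ i = 1 by
      rw [(pow_eq_pow_iff hb3 (fun h => C.xH (hcH ((hq1 x).1 h))) i 0).2 hi, pow_zero],
      one_mul] at h
    obtain ⟨γ, -, A⟩ := SD.act 2 2 zmod_three_facts.1
    obtain ⟨n, hn⟩ : ∃ n, (s ^ 2 ^ 3)⁻¹ * app γ s = n := ⟨_, rfl⟩
    have hns : app γ s = s ^ 2 ^ 3 * n := by rw [← hn, mul_inv_cancel_left]
    have hnN : n ∈ N := hn ▸ A.onS
    obtain ⟨z, hz1, hz2, hz3, hz4⟩ := hswap (2 ^ 3) n hnN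
    have e1 : q₁ (app γ (s ^ 3)) = (a ^ 3) ^ 2 ^ 3 := by
      rw [app_pow γ (hM s), hns, map_pow, map_mul, map_pow, ← hadef, mul_pow_three hz4 hz1 hz2,
        hz3, hcubeN n hnN, one_mul, mul_one, ← pow_mul, ← pow_mul, mul_comm]
    have hmem : (v ^ j' * d ^ k)⁻¹ * s ^ 3 ∈ Zc := by
      refine QuotientGroup.eq.1 ?_
      show q₁ (v ^ j' * d ^ k) = q₁ (s ^ 3)
      rw [map_mul, map_pow, map_pow, map_pow, ← hadef, h]
    obtain ⟨r, hr⟩ := mem_powers_iff_mem_zpowers.2 hmem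
    change c ^ r = _ at hr
    obtain ⟨e, he⟩ := hHd _ A.onW
    have hgv : q₁ (app γ v) = v' ^ 2 ^ 2 * d' ^ e := by
      rw [hv'def, hd'def, ← map_pow, ← map_pow, ← map_mul]
      refine (QuotientGroup.eq.2 ?_).symm
      rw [mul_inv_rev, mul_assoc]
      exact he
    rw [show s ^ 3 = v ^ j' * d ^ k * c ^ r by rw [hr, mul_inv_cancel_left], app_mul γ (hM _) (hM _),
      app_mul γ (hM _) (hM _), app_pow γ (hM v), app_pow γ (hM d), app_pow γ (hM c), A.onD d hd,
      A.onC, map_mul, map_mul, map_pow, map_pow, ← hd'def, hgv,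
      (hq1 ((c ^ 2) ^ r)).2 (pow_mem (pow_mem (Subgroup.mem_zpowers c) 2) r), mul_one, h,
      ((hda v).symm.pow_pow (2 ^ 2) e).mul_pow, ((hda v).symm.pow_pow j' k).mul_pow, ← pow_mul,
      ← pow_mul, ← pow_mul, ← pow_mul, mul_assoc, ← pow_add] at e1
    have hsep : ∀ i₁ i₂ k₁ k₂ : ℕ, v' ^ i₁ * d' ^ k₁ = v' ^ i₂ * d' ^ k₂ →
        (i₁ : ZMod 3) = i₂ ∧ (k₁ : ZMod 3) = k₂ := by
      intro i₁ i₂ k₁ k₂ heq
      have hi : (i₁ : ZMod 3) = i₂ := by
        have h5 : QuotientGroup.mk' H (v ^ i₁ * d ^ k₁) = QuotientGroup.mk' H (v ^ i₂ * d ^ k₂) :=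
          QuotientGroup.eq.2 (hcH (QuotientGroup.eq.1
            (show q₁ (v ^ i₁ * d ^ k₁) = q₁ (v ^ i₂ * d ^ k₂) by
              rw [map_mul, map_mul, map_pow, map_pow, map_pow, map_pow]; exact heq)))
        rw [map_mul, map_mul, map_pow, map_pow, map_pow, map_pow,
          show QuotientGroup.mk' H d = 1 from (QuotientGroup.eq_one_iff d).2 hdH, one_pow, one_pow,
          mul_one, mul_one] at h5
        exact (pow_eq_pow_iff (by rw [← QuotientGroup.mk_pow]; exact (QuotientGroup.eq_one_iff _).2 SD.powW)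
          (fun h => hvH ((QuotientGroup.eq_one_iff _).1 h)) _ _).1 h5
      rw [(pow_eq_pow_iff hv'3 hv'1 _ _).2 hi] at heq
      exact ⟨hi, (pow_eq_pow_iff hqdp hqd1 _ _).1 (mul_left_cancel heq)⟩
    obtain ⟨e2, e3⟩ := hsep _ _ _ _ e1
    push_cast at e2 e3
    have h30 : (3 : ZMod 3) = 0 := zmod_three_facts.2.1
    have hj'0 : (j' : ZMod 3) = 0 := by linear_combination -e2 - (j' : ZMod 3) * h30
    have hk0 : (k : ZMod 3) = 0 := by
      linear_combination -e3 + (e : ZMod 3) * hj'0 - 2 * (k : ZMod 3) * h30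
    rw [h, show v' ^ j' = v' ^ 0 from (pow_eq_pow_iff hv'3 hv'1 _ _).2 (by rw [hj'0, Nat.cast_zero]),
      show d' ^ k = d' ^ 0 from (pow_eq_pow_iff hqdp hqd1 _ _).2 (by rw [hk0, Nat.cast_zero])]
    simp
  have hcube : ∀ g : G, g ^ 3 ∈ Zc := by
    intro g
    obtain ⟨k, hk⟩ := hgen g
    obtain ⟨z, hz1, hz2, hz3, hz4⟩ := hswap k _ hk
    rw [← hq1, map_pow, show q₁ g = a ^ k * q₁ ((s ^ k)⁻¹ * g) by
      rw [hadef, ← map_pow, ← map_mul, mul_inv_cancel_left],
      mul_pow_three hz4 hz1 hz2, hz3, hcubeN _ hk, one_mul, mul_one, ← pow_mul, mul_comm, pow_mul,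
      ha3, one_pow]
  -- the quotient by `⟨v, c⟩`
  set V := Subgroup.zpowers v'
  haveI hVn : V.Normal := ⟨fun y hy g => by
    obtain ⟨g, rfl⟩ := QuotientGroup.mk'_surjective Zc g
    obtain ⟨k, rfl⟩ := Subgroup.mem_zpowers_iff.1 hy
    rw [((hva g).symm.zpow_right k).eq, mul_inv_cancel_right]
    exact hy⟩
  set r := (QuotientGroup.mk' V).comp q₁ with hrdef
  have hr : ∀ g, r g = QuotientGroup.mk' V (q₁ g) := fun g => rfl
  have hrv : r v = 1 := (QuotientGroup.eq_one_iff _).2 (Subgroup.mem_zpowers _)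
  have hrsx : Commute (r s) (r x) := commutatorElement_eq_one_iff_mul_comm.1 (by
    rw [← map_commutatorElement]; exact hrv)
  have hrd : ∀ g, Commute (r g) (r d) := fun g =>
    (hda g).symm.map (QuotientGroup.mk' V)
  have hrep : ∀ g, ∃ k i e : ℕ, r g = r s ^ k * (r x ^ i * r d ^ e) := by
    intro g
    obtain ⟨k, hk⟩ := hgen g
    obtain ⟨i, j', e, h⟩ := hrepN _ hk
    refine ⟨k, i, e, ?_⟩
    calc r g = r (s ^ k) * r ((s ^ k)⁻¹ * g) := by rw [← map_mul, mul_inv_cancel_left]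
      _ = r s ^ k * QuotientGroup.mk' V (b ^ i * (v' ^ j' * d' ^ e)) := by
          rw [map_pow, hr ((s ^ k)⁻¹ * g), h]
      _ = _ := by
          rw [map_mul, map_mul, map_pow, map_pow, map_pow, ← hr x, ← hr d,
            show QuotientGroup.mk' V v' = 1 from hrv, one_pow, one_mul]
  have hab2 : ∀ g h, r g * r h = r h * r g := by
    intro g h
    obtain ⟨k, i, e, h1⟩ := hrep g
    obtain ⟨k', i', e', h2⟩ := hrep h
    have c1 : Commute (r s) (r h) := by
      rw [h2]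
      exact ((Commute.refl _).pow_right _).mul_right ((hrsx.pow_right _).mul_right ((hrd s).pow_right _))
    have c2 : Commute (r x) (r h) := by
      rw [h2]
      exact (hrsx.symm.pow_right _).mul_right
        (((Commute.refl _).pow_right _).mul_right ((hrd x).pow_right _))
    have c3 : Commute (r d) (r h) := (hrd h).symm
    rw [h1]
    exact (c1.pow_left k).mul_left ((c2.pow_left i).mul_left (c3.pow_left e))
  have hder : ∀ g h : G, ∃ i : ℕ, q₁ ⁅g, h⁆ = v' ^ i := by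
    intro g h
    have h1 : r ⁅g, h⁆ = 1 := by
      rw [map_commutatorElement, commutatorElement_eq_one_iff_mul_comm]
      exact hab2 g h
    obtain ⟨i, hi⟩ := mem_powers_iff_mem_zpowers.2 ((QuotientGroup.eq_one_iff _).1 h1)
    exact ⟨i, hi.symm⟩
  -- the element centralising `v`
  obtain ⟨a₀, ha₀⟩ := mem_powers_iff_mem_zpowers.2 (hvcomm s)
  change c ^ a₀ = ⁅s, v⁆ at ha₀
  set c₀ := ⁅v, x⁆ with hc₀def
  obtain ⟨r₀, hr₀⟩ := mem_powers_iff_mem_zpowers.2 hv0
  change c ^ r₀ = c₀ at hr₀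
  have hc₀c : ∀ g, Commute c₀ g := fun g => hr₀ ▸ ((show Commute g c from hcc g).symm.pow_left r₀)
  have hc₀3 : c₀ ^ 3 = 1 := by rw [← hr₀, ← pow_mul, mul_comm, pow_mul, C.cp, one_pow]
  obtain ⟨n₀, hn₀⟩ : ∃ n₀ : ℕ, c₀ ^ n₀ = c ^ a₀ := by
    refine mem_powers_iff_mem_zpowers.2 ?_
    rw [zpowers_eq_of_mem C.cp hc0 hv0]
    exact pow_mem (Subgroup.mem_zpowers c) a₀
  set y := s * x ^ n₀ with hy
  have hyN : y ∉ N := fun h => hs (by
    have := N.mul_mem h (N.inv_mem (N.pow_mem hxN n₀))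
    rwa [mul_inv_cancel_right] at this)
  have hxv : ∀ i : ℕ, v * x ^ i = c₀ ^ i * x ^ i * v := fun i => by
    have := comm_pow (s := v) (x := x) (w := c₀) (by rw [hc₀def, commutatorElement_def]; group)
      (hc₀c v) (hc₀c x) 1 i
    simpa using this
  have hyv : Commute y v := by
    have h1 : s * v = c ^ a₀ * v * s := by rw [ha₀, commutatorElement_def]; group
    have h3 : x ^ n₀ * v = (c₀ ^ n₀)⁻¹ * (v * x ^ n₀) := by
      rw [hxv n₀, mul_assoc (c₀ ^ n₀), inv_mul_cancel_left]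
    show y * v = v * y
    rw [hy, mul_assoc s, h3, hn₀, ← mul_assoc s,
      ((show Commute s c from hcc s).pow_right a₀).inv_right.eq, mul_assoc, ← mul_assoc s, h1,
      ← mul_assoc, ← mul_assoc, inv_mul_cancel_left, mul_assoc]
  have hyd : ⁅y, d⁆ = c ^ j := by
    have hxd : Commute (x ^ n₀) d := (show Commute x d from C.central x hxN d hdH).pow_left n₀
    rw [hy, show ⁅s * x ^ n₀, d⁆ = s * ⁅x ^ n₀, d⁆ * s⁻¹ * ⁅s, d⁆ by
      simp only [commutatorElement_def]; group,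
      commutatorElement_eq_one_iff_mul_comm.2 hxd.eq, mul_one, mul_inv_cancel, one_mul, hj]
  have hyx : ⁅q₁ y, b⁆ = v' := by
    rw [hy, map_mul, map_pow, ← hbdef, ← hadef, show ⁅a * b ^ n₀, b⁆ = a * ⁅b ^ n₀, b⁆ * a⁻¹ * ⁅a, b⁆
      by simp only [commutatorElement_def]; group,
      commutatorElement_eq_one_iff_mul_comm.2 ((Commute.refl b).pow_left n₀).eq, mul_one,
      mul_inv_cancel, one_mul, hab]
  have hcoord : ∀ g : G, ∃ (k i : ℕ) (u : G), g = y ^ k * (x ^ i * u) ∧ u ∈ N ∧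
      (∀ h, Commute (q₁ u) (q₁ h)) ∧ Commute u v ∧ Commute u d := by
    intro g
    obtain ⟨k, hk⟩ := exists_pow_mem' (A := N) (B := Subgroup.normalizer (N : Set G))
      Subgroup.le_normalizer le_rfl C.cardM (hM y) hyN (hM g)
    obtain ⟨i, j', hij⟩ := SD.decomp _ hk
    obtain ⟨h₀, hh₀⟩ : ∃ h₀, (x ^ i * v ^ j')⁻¹ * ((y ^ k)⁻¹ * g) = h₀ := ⟨_, rfl⟩
    rw [hh₀] at hij
    refine ⟨k, i, v ^ j' * h₀, ?_, N.mul_mem (N.pow_mem hvN _) (hHN hij), fun h => ?_, ?_, ?_⟩
    · rw [← hh₀]; group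
    · rw [map_mul, map_pow]
      exact ((hva h).pow_left j').mul_left (hqcen h h₀ hij).symm
    · exact ((Commute.refl v).pow_left j').mul_left (show Commute h₀ v from (C.central v hvN h₀ hij).symm)
    · exact ((show Commute v d from C.central v hvN d hdH).pow_left j').mul_left
        (show Commute h₀ d from (C.central d (hHN hdH) h₀ hij).symm)
  have hCv : ∀ g : G, Commute g v → ∃ (k : ℕ) (u : G), g = y ^ k * u ∧
      (∀ h, Commute (q₁ u) (q₁ h)) ∧ Commute u v ∧ Commute u d := by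
    intro g hg
    obtain ⟨k, i, u, rfl, -, hu1, hu2, hu3⟩ := hcoord g
    refine ⟨k, u, ?_, hu1, hu2, hu3⟩
    have h1 : Commute (x ^ i) v := by
      have h2 := ((hyv.pow_left k).inv_left.mul_left hg).mul_left hu2.inv_left
      rwa [inv_mul_cancel_left, mul_inv_cancel_right] at h2
    have h3 : c₀ ^ i = 1 := by
      have h4 := hxv i
      rw [← h1.eq, mul_assoc, eq_comm, mul_eq_right] at h4
      exact h4
    have hx0 : x ^ i = 1 := by
      rw [(pow_eq_pow_iff C.xp (fun h => C.xH (h ▸ one_mem _)) i 0).2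
        ((pow_eq_pow_iff hc₀3 hc0 i 0).1 (by rw [h3, pow_zero])), pow_zero]
    rw [hx0, one_mul]
  -- the invariant character
  have hfix : ∀ β ∈ w.aut ⊤, r (app β d) = r d := by
    intro β _
    set f := topAut β with hf
    rw [← topAut_apply, ← hf]
    have hfZ : ∀ z ∈ Zc, f z ∈ Zc := by
      intro z hz
      refine hcen (Subgroup.mem_center_iff.2 fun g => ?_)
      obtain ⟨g, rfl⟩ := f.surjective g
      obtain ⟨k, rfl⟩ := Subgroup.mem_zpowers_iff.1 hz
      rw [← map_mul, ← map_mul, ((show Commute g c from hcc g).zpow_right k).eq]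
    obtain ⟨μ, hμ⟩ := hder (f s) (f x)
    rw [← map_commutatorElement, ← hv] at hμ
    have hμ0 : (μ : ZMod 3) ≠ 0 := by
      intro h0
      have hfv : f v ∈ Zc := (hq1 _).1 (by
        rw [hμ, (pow_eq_pow_iff hv'3 hv'1 μ 0).2 (by rw [h0, Nat.cast_zero]), pow_zero])
      refine hvH (hcH ?_)
      have h1 := (mem_iff_apply_mem f hfZ v).2 hfv
      exact h1
    obtain ⟨ρ, hρ⟩ := mem_powers_iff_mem_zpowers.2
      (QuotientGroup.eq.1 (show q₁ (v ^ μ) = q₁ (f v) by rw [map_pow, hμ]))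
    change c ^ ρ = _ at hρ
    have hfv : f v = v ^ μ * c ^ ρ := by rw [hρ, mul_inv_cancel_left]
    have hcommv : ∀ g, Commute g (f v) → Commute g v := by
      intro g hg
      rw [hfv] at hg
      have h1 : Commute g (v ^ μ) := by
        have := hg.mul_right ((show Commute g c from hcc g).pow_right ρ).inv_right
        rwa [mul_inv_cancel_right] at this
      have hμc : (((μ : ZMod 3)⁻¹).val * μ : ℕ) = (1 : ZMod 3) := by
        rw [Nat.cast_mul, ZMod.natCast_val, ZMod.cast_id', id_eq, inv_mul_cancel₀ hμ0]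
      obtain ⟨t, ht⟩ : ∃ t : ℤ, c ^ t = v⁻¹ * v ^ (((μ : ZMod 3)⁻¹).val * μ) := by
        refine Subgroup.mem_zpowers_iff.1 ((hq1 _).1 ?_)
        rw [map_mul, map_inv, map_pow, ← hv'def,
          (pow_eq_pow_iff hv'3 hv'1 _ 1).2 (by rw [Nat.cast_one]; exact hμc), pow_one, inv_mul_cancel]
      have h2 : v ^ (((μ : ZMod 3)⁻¹).val * μ) = v * c ^ t := by rw [ht, mul_inv_cancel_left]
      have h3 := (h1.pow_right (((μ : ZMod 3)⁻¹).val))
      rw [← pow_mul, mul_comm μ, h2] at h3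
      have := h3.mul_right ((show Commute g c from hcc g).zpow_right t).inv_right
      rwa [mul_inv_cancel_right] at this
    have hfyv : Commute (f y) v := hcommv _ (hyv.map f.toMonoidHom)
    obtain ⟨a', u, hfy, hu1, hu2, hu3⟩ := hCv _ hfyv
    obtain ⟨e, b', u', hfx, -, hu1', hu2', -⟩ := hcoord (f x)
    -- the exponent on `v`
    have hμab : (μ : ZMod 3) = ((a' * b' : ℕ) : ZMod 3) := by
      refine (pow_eq_pow_iff hv'3 hv'1 _ _).1 ?_
      have h1 : q₁ (f ⁅y, x⁆) = q₁ (f v) := by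
        have h2 : v⁻¹ * ⁅y, x⁆ ∈ Zc := by
          refine QuotientGroup.eq.1 ?_
          show q₁ v = q₁ ⁅y, x⁆
          exact hyx.symm.trans (map_commutatorElement q₁ y x).symm
        refine (QuotientGroup.eq.2 ?_).symm
        rw [← map_inv, ← map_mul]
        exact hfZ _ h2
      rw [hμ, map_commutatorElement, map_commutatorElement, hfy, hfx, map_mul, map_mul, map_mul,
        map_pow, map_pow, map_pow, ← hbdef] at h1
      rw [← h1]
      set Y := q₁ y
      have k1 : Commute (Y ^ a' * q₁ u) (Y ^ e) :=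
        ((Commute.refl Y).pow_pow a' e).mul_left (by rw [← map_pow]; exact hu1 _)
      have k2 : Commute (Y ^ a' * q₁ u) (q₁ u') := by
        rw [← map_pow, ← map_mul]; exact (hu1' _).symm
      have k3 : Commute (q₁ u) (b ^ b') := by rw [hbdef, ← map_pow]; exact hu1 _
      rw [show ⁅Y ^ a' * q₁ u, Y ^ e * (b ^ b' * q₁ u')⁆ = ⁅Y ^ a' * q₁ u, Y ^ e⁆ *
          (Y ^ e * (⁅Y ^ a' * q₁ u, b ^ b'⁆ *
            (b ^ b' * ⁅Y ^ a' * q₁ u, q₁ u'⁆ * (b ^ b')⁻¹)) * (Y ^ e)⁻¹) by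
          simp only [commutatorElement_def]; group,
        commutatorElement_eq_one_iff_mul_comm.2 k1.eq, one_mul,
        commutatorElement_eq_one_iff_mul_comm.2 k2.eq, mul_one, mul_inv_cancel, mul_one,
        show ⁅Y ^ a' * q₁ u, b ^ b'⁆ = Y ^ a' * ⁅q₁ u, b ^ b'⁆ * (Y ^ a')⁻¹ * ⁅Y ^ a', b ^ b'⁆ by
          simp only [commutatorElement_def]; group,
        commutatorElement_eq_one_iff_mul_comm.2 k3.eq, mul_one, mul_inv_cancel, one_mul,
        comm_pow' hyx (hva y) (hva x)]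
      have k4 : Commute (v' ^ (a' * b')) (Y ^ e) := (hva y).pow_pow _ _
      rw [← k4.eq, mul_inv_cancel_right]
    rw [Nat.cast_mul] at hμab
    -- the exponent on `c`
    obtain ⟨r₁, hr₁⟩ : ∃ r₁ : ℕ, c₀ ^ r₁ = c := by
      refine mem_powers_iff_mem_zpowers.2 ?_
      rw [zpowers_eq_of_mem C.cp hc0 hv0]
      exact Subgroup.mem_zpowers c
    have hfc₀ : f c₀ = c₀ ^ (μ * b') := by
      rw [hc₀def, map_commutatorElement, hfv, hfx, ← hc₀def]
      have k1 : Commute (c ^ ρ) (y ^ e * (x ^ b' * u')) := (show Commute _ c from hcc _).symm.pow_left ρ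
      have k2 : Commute (v ^ μ) (y ^ e) := hyv.symm.pow_pow μ e
      have k3 : Commute (v ^ μ) u' := hu2'.symm.pow_left μ
      rw [show ⁅v ^ μ * c ^ ρ, y ^ e * (x ^ b' * u')⁆ =
          v ^ μ * ⁅c ^ ρ, y ^ e * (x ^ b' * u')⁆ * (v ^ μ)⁻¹ * (⁅v ^ μ, y ^ e⁆ *
          (y ^ e * (⁅v ^ μ, x ^ b'⁆ * (x ^ b' * ⁅v ^ μ, u'⁆ * (x ^ b')⁻¹)) * (y ^ e)⁻¹)) by
          simp only [commutatorElement_def]; group,
        commutatorElement_eq_one_iff_mul_comm.2 k1.eq, mul_one, mul_inv_cancel, one_mul,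
        commutatorElement_eq_one_iff_mul_comm.2 k2.eq, one_mul,
        commutatorElement_eq_one_iff_mul_comm.2 k3.eq, mul_one, mul_inv_cancel, mul_one,
        comm_pow' hc₀def.symm (hc₀c v) (hc₀c x), ← ((hc₀c (y ^ e)).pow_left _).eq,
        mul_inv_cancel_right]
    have hfc : f c = c ^ (μ * b') := by rw [← hr₁, map_pow, hfc₀, ← pow_mul, ← pow_mul, mul_comm]
    -- the exponent on `d`
    obtain ⟨k₁, k₂, u'', hfd, hu''N, hu1'', -, -⟩ := hcoord (f d)
    have hPd : ∀ h, Commute (q₁ (f d)) (q₁ h) := by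
      intro h
      obtain ⟨h, rfl⟩ := f.surjective h
      refine commutatorElement_eq_one_iff_mul_comm.1 ?_
      rw [← map_commutatorElement, hq1, ← map_commutatorElement]
      exact hfZ _ ((hq1 _).1 (by
        rw [map_commutatorElement, commutatorElement_eq_one_iff_mul_comm]
        exact hda h))
    obtain ⟨j', δ, hqd⟩ : ∃ j' δ : ℕ, q₁ (f d) = v' ^ j' * d' ^ δ := by
      obtain ⟨k, hk⟩ := hgen (f d)
      obtain ⟨i, j', δ, h⟩ := hrepN _ hk
      refine ⟨j', δ, ?_⟩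
      have h1 : q₁ (f d) = a ^ k * (b ^ i * (v' ^ j' * d' ^ δ)) := by
        rw [← h, hadef, ← map_pow, ← map_mul, mul_inv_cancel_left]
      have hc5 : ∀ g, Commute (v' ^ j' * d' ^ δ) (q₁ g) := fun g =>
        ((hva g).pow_left j').mul_left ((hda g).pow_left δ)
      have h2 : Commute (a ^ k * b ^ i) b := by
        have := (hPd x).mul_left (hc5 x).inv_left
        rwa [h1, ← mul_assoc, mul_inv_cancel_right] at this
      have hk0 : (k : ZMod 3) = (0 : ℕ) := by
        refine (pow_eq_pow_iff hv'3 hv'1 k 0).1 ?_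
        have h3 : Commute (a ^ k) b := by
          have := h2.mul_left ((Commute.refl b).pow_left i).inv_left
          rwa [mul_inv_cancel_right] at this
        have h4 := comm_pow' hab (hva s) (hva x) k 1
        rw [pow_one, mul_one, commutatorElement_eq_one_iff_mul_comm.2 h3.eq] at h4
        rw [pow_zero, ← h4]
      have ha0 : a ^ k = 1 := by
        by_cases ha1 : a = 1
        · rw [ha1, one_pow]
        · rw [(pow_eq_pow_iff ha3 ha1 k 0).2 hk0, pow_zero]
      rw [ha0, one_mul] at h1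
      have hi0 : (i : ZMod 3) = (0 : ℕ) := by
        refine (pow_eq_pow_iff hv'3 hv'1 i 0).1 ?_
        have h3 : Commute (b ^ i) a := by
          have := (hPd s).mul_left (hc5 s).inv_left
          rwa [h1, mul_inv_cancel_right] at this
        have h4 := comm_pow' hab (hva s) (hva x) 1 i
        rw [pow_one, one_mul, commutatorElement_eq_one_iff_mul_comm.2 h3.symm.eq] at h4
        rw [pow_zero, ← h4]
      rw [h1, show b ^ i = 1 by
        rw [(pow_eq_pow_iff hb3 (fun h => C.xH (hcH ((hq1 x).1 h))) i 0).2 hi0, pow_zero], one_mul]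
    have hrfd : r (f d) = r d ^ δ := by
      rw [hr, hqd, map_mul, map_pow, map_pow, show QuotientGroup.mk' V v' = 1 from hrv, one_pow,
        one_mul, ← hr d]
    obtain ⟨τ, hτ⟩ := Subgroup.mem_zpowers_iff.1
      (QuotientGroup.eq.1 (show q₁ (v ^ j' * d ^ δ) = q₁ (f d) by rw [map_mul, map_pow, map_pow, hqd]))
    have hfd' : f d = v ^ j' * d ^ δ * c ^ τ := by rw [hτ, mul_inv_cancel_left]
    have h1 : f ⁅y, d⁆ = c ^ (a' * (j * δ)) := by
      rw [map_commutatorElement, hfy, hfd']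
      have k1 : Commute (y ^ a' * u) (v ^ j') := ((hyv.pow_left a').mul_left hu2).pow_right j'
      have k2 : Commute (y ^ a' * u) (c ^ τ) := (show Commute _ c from hcc _).zpow_right τ
      have k3 : Commute u (d ^ δ) := hu3.pow_right δ
      rw [show ⁅y ^ a' * u, v ^ j' * d ^ δ * c ^ τ⁆ = ⁅y ^ a' * u, v ^ j'⁆ *
          (v ^ j' * (⁅y ^ a' * u, d ^ δ⁆ * (d ^ δ * ⁅y ^ a' * u, c ^ τ⁆ * (d ^ δ)⁻¹)) * (v ^ j')⁻¹) by
          simp only [commutatorElement_def]; group,
        commutatorElement_eq_one_iff_mul_comm.2 k1.eq, one_mul,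
        commutatorElement_eq_one_iff_mul_comm.2 k2.eq, mul_one, mul_inv_cancel, mul_one,
        show ⁅y ^ a' * u, d ^ δ⁆ = y ^ a' * ⁅u, d ^ δ⁆ * (y ^ a')⁻¹ * ⁅y ^ a', d ^ δ⁆ by
          simp only [commutatorElement_def]; group,
        commutatorElement_eq_one_iff_mul_comm.2 k3.eq, mul_one, mul_inv_cancel, one_mul,
        comm_pow' hyd ((show Commute y c from hcc y).symm.pow_left j)
          ((show Commute d c from hcc d).symm.pow_left j), ← pow_mul]
      have k4 : Commute (v ^ j') (c ^ (j * (a' * δ))) := (show Commute _ c from hcc _).pow_right _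
      rw [k4.eq, mul_inv_cancel_right, show j * (a' * δ) = a' * (j * δ) by ring]
    rw [hyd, map_pow, hfc, ← pow_mul] at h1
    have h2 := hcpow _ _ h1
    push_cast at h2
    rw [hμab] at h2 hμ0
    have ha' : (a' : ZMod 3) ≠ 0 := left_ne_zero_of_mul hμ0
    have hb' : (b' : ZMod 3) ≠ 0 := right_ne_zero_of_mul hμ0
    have hbb : (b' : ZMod 3) * b' = 1 := zmod_three_facts.2.2 _ hb'
    have hδ : (δ : ZMod 3) = ((1 : ℕ) : ZMod 3) := by
      rw [Nat.cast_one]
      refine mul_left_cancel₀ (mul_ne_zero ha' hj0) ?_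
      linear_combination -h2 + (a' : ZMod 3) * j * hbb
    have hrd3 : r d ^ 3 = 1 := by rw [← map_pow, hdp, map_one]
    by_cases hrd1 : r d = 1
    · rw [hrfd, hrd1, one_pow]
    · rw [hrfd, (pow_eq_pow_iff hrd3 hrd1 _ _).2 hδ, pow_one]
  -- a complement of `d` modulo `⟨v, c⟩`
  have hr3 : ∀ g, r g ^ 3 = 1 := fun g => by
    rw [← map_pow, hr, (hq1 _).2 (hcube g), map_one]
  have hsurj : Function.Surjective r :=
    (QuotientGroup.mk'_surjective V).comp (QuotientGroup.mk'_surjective Zc)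
  have hcomm : ∀ g h : (G ⧸ Zc) ⧸ V, g * h = h * g := fun g h => by
    obtain ⟨g, rfl⟩ := hsurj g
    obtain ⟨h, rfl⟩ := hsurj h
    exact hab2 g h
  haveI hnorm : ∀ K : Subgroup ((G ⧸ Zc) ⧸ V), K.Normal := fun K =>
    ⟨fun n hn g => by rwa [hcomm g n, mul_inv_cancel_right]⟩
  have h27 : Nat.card ((G ⧸ Zc) ⧸ V) = 27 := by
    have h1 := Subgroup.card_eq_card_quotient_mul_card_subgroup Zc
    have h2 := Subgroup.card_eq_card_quotient_mul_card_subgroup V
    rw [h5, hZcc] at h1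
    rw [Nat.card_zpowers, orderOf_eq_prime hv'3 hv'1] at h2
    omega
  have hsup : ∀ (K : Subgroup ((G ⧸ Zc) ⧸ V)) (g : G),
      Nat.card (K ⊔ Subgroup.zpowers (r g) : Subgroup ((G ⧸ Zc) ⧸ V)) ≤ Nat.card K * 3 := by
    intro K g
    have hle : Nat.card (Subgroup.zpowers (r g)) ≤ 3 := by
      rw [Nat.card_zpowers]
      exact Nat.le_of_dvd (by norm_num) (orderOf_dvd_of_pow_eq_one (hr3 g))
    refine le_trans ?_ (Nat.mul_le_mul_left _ hle)
    rw [← Nat.card_prod]
    refine Nat.card_le_card_of_surjective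
      (fun q : K × Subgroup.zpowers (r g) => ⟨(q.1 : (G ⧸ Zc) ⧸ V) * q.2,
        Subgroup.mul_mem_sup q.1.2 q.2.2⟩) ?_
    rintro ⟨t, ht⟩
    obtain ⟨t1, ht1, t2, ht2, rfl⟩ := Subgroup.mem_sup_of_normal_right.1 ht
    exact ⟨(⟨t1, ht1⟩, ⟨t2, ht2⟩), rfl⟩
  set K := (⊥ : Subgroup ((G ⧸ Zc) ⧸ V)) ⊔ Subgroup.zpowers (r s) ⊔ Subgroup.zpowers (r x) with hK
  have hK9 : Nat.card K ≤ 9 := by
    refine (hsup _ x).trans ((Nat.mul_le_mul_right 3 (hsup ⊥ s)).trans ?_)
    rw [Subgroup.card_bot]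
  have hKtop : K ⊔ Subgroup.zpowers (r d) = ⊤ := by
    refine eq_top_iff.2 fun t _ => ?_
    obtain ⟨g, rfl⟩ := hsurj t
    obtain ⟨k, i, e, h⟩ := hrep g
    rw [h, ← mul_assoc]
    refine Subgroup.mul_mem_sup (K.mul_mem ?_ ?_) (pow_mem (Subgroup.mem_zpowers _) e)
    · exact Subgroup.mem_sup_left (Subgroup.mem_sup_right (pow_mem (Subgroup.mem_zpowers _) k))
    · exact Subgroup.mem_sup_right (pow_mem (Subgroup.mem_zpowers _) i)
  have hrdK : r d ∉ K := by
    intro h
    rw [sup_eq_left.2 (Subgroup.zpowers_le.2 h)] at hKtop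
    rw [hKtop, Subgroup.card_top, h27] at hK9
    omega
  have hK' : Nat.card K = 9 := by
    have h1 := hsup K d
    rw [hKtop, Subgroup.card_top, h27] at h1
    omega
  haveI : (K.comap r).Normal := Subgroup.Normal.comap inferInstance r
  have hidx : (K.comap r).index = 3 := by
    rw [Subgroup.index_comap_of_surjective _ hsurj]
    have h1 := K.card_mul_index
    rw [hK', h27] at h1
    omega
  obtain ⟨χ, hχ, hinv⟩ := exists_invariant_character hG hidx (d := d)
    (fun h => hrdK (Subgroup.mem_comap.1 h)) fun β hβ => by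
      rw [Subgroup.mem_comap, map_mul, map_inv, hfix β hβ, mul_inv_cancel]
      exact one_mem _
  exact not_hasNorm_of_cubes h5 hno C.cp hcen hcube (hhyp χ hχ hinv)

end H62.PFive
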