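import Cfsg.Agent.H62.PFive.Normal
import Cfsg.Agent.H62.PFive.TopA
import Cfsg.Agent.H62.PFive.PearlB
import Cfsg.Agent.H62.PFive.FromFusion

/-!
A core-free saturated fusion system on a group of order `p ^ 5` that is its own `p`-residual
subsystem lives on a group with an abelian subgroup of index `p`.
-/

set_option autoImplicit false
set_option linter.unusedSectionVars false
set_option linter.style.haveILetI false

namespace H62.PFive

universe u

theorem exists_abelian_index {Ω : Type u} [Group Ω] {S : Subgroup Ω} [Finite S] (p : ℕ)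
    [Fact p.Prime] (hS : IsPGroup p S) (F : Cfsg.FusionSystem S) (hF : F.IsSaturated p)
    (hp2 : p ≠ 2) (hp7 : p ≠ 7) (hcard : Nat.card S = p ^ 5) (hcore : F.core = ⊥)
    (hhyp : F.hyperfocalSubgroup p = S) :
    ∃ A : Subgroup Ω, A ≤ S ∧ IsMulCommutative A ∧ (A.subgroupOf S).index = p := by
  have hp := (Fact.out : p.Prime)
  by_contra hcon
  have hno : ∀ A : Subgroup S, Nat.card A = p ^ 4 → ¬ IsMulCommutative A := by
    intro A hA hcomm
    refine hcon ⟨A.map S.subtype, Subgroup.map_subtype_le A, ⟨⟨?_⟩⟩, ?_⟩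
    · rintro ⟨_, a, ha, rfl⟩ ⟨_, b, hb, rfl⟩
      exact Subtype.ext (congrArg (fun y : A => ((y : S) : Ω))
        (hcomm.is_comm.comm ⟨a, ha⟩ ⟨b, hb⟩))
    · have heq : (A.map S.subtype).subgroupOf S = A :=
        Subgroup.comap_map_eq_self_of_injective S.subtype_injective A
      rw [heq]
      have h := A.card_mul_index
      rw [hA, hcard, pow_succ p 4] at h
      exact Nat.eq_of_mul_eq_mul_left (pow_pos hp.pos 4) h
  have hS1 : S ≠ ⊥ := fun h => by
    have h1 : p ^ 5 = 1 := hcard.symm.trans (Subgroup.card_eq_one.2 h)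
    exact absurd h1 (Nat.one_lt_pow (by norm_num) hp.one_lt).ne'
  obtain ⟨E, hE⟩ := exists_ess hS hF hcore hS1
  obtain ⟨hc, hexp, h2 | h3⟩ := hE.cases hcard hno
  · obtain ⟨D, x, c, hC, hZ, hN, hM⟩ := hE.pearl_setup hS hc hexp hcard h2
    obtain ⟨rfl, M, W₃, W, x, r, s, v, z, k, hP⟩ := hC.pearl hcard hp2 hp7 hno hZ hN hM
    exact hP.false hcard hno fun χ hχ hinv => hasNorm_of_invariant hS hF hhyp χ hχ hinv
  · by_cases hn : E.Normal
    · exact hE.not_normal hS hc hexp hcard h3 hn
    · obtain ⟨H, D, x, c, d, hC, hH, hd, hdc, hMtop⟩ := hE.top_setup hS hc hexp hcard h3 hn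
      refine hC.top_false hcard hp2 hno hH hd hdc ?_ hMtop
        fun χ hχ hinv => hasNorm_of_invariant hS hF hhyp χ hχ hinv
      exact congrArg Subtype.val (hexp ⟨d, hC.hle (hC.dle hd)⟩)

end H62.PFive
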