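import Cfsg.Agent.H62.PFive.Transvection

/-!
An essential subgroup of order `p ^ 3` is not normal.
-/

set_option autoImplicit false
set_option linter.unusedSectionVars false
set_option linter.style.haveILetI false

open scoped commutatorElement

namespace H62.PFive

universe u

variable {G : Type u} [Group G] [Finite G] {p : ℕ} [hp : Fact p.Prime] {w : World G p}
  {E : Subgroup G}

theorem card_zpowers_eq {A : Type*} [Group A] {a : A} (ha : a ^ p = 1) (ha1 : a ≠ 1) :
    Nat.card (Subgroup.zpowers a) = p := by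
  rw [Nat.card_zpowers, orderOf_eq_prime ha ha1]

theorem mem_of_pow_mem {A : Type*} [Group A] [Finite A] {B : Subgroup A} {a : A} (ha : a ^ p = 1)
    {k : ℕ} (hk : a ^ k ≠ 1) (h : a ^ k ∈ B) : a ∈ B := by
  have h1 := zpowers_eq_of_mem ha hk (pow_mem (Subgroup.mem_zpowers a) k)
  exact (Subgroup.zpowers_le.2 h) (h1 ▸ Subgroup.mem_zpowers a)

/-- In a group of order `p ^ 3` two subgroups of order `p ^ 2` meet. -/
theorem exists_mem_inf_ne_one {A : Type*} [Group A] [Finite A] {A₁ A₂ : Subgroup A}
    (h : Nat.card A < Nat.card A₁ * Nat.card A₂) : ∃ d, d ∈ A₁ ∧ d ∈ A₂ ∧ d ≠ 1 := by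
  by_contra hcon
  push Not at hcon
  refine absurd (Nat.card_le_card_of_injective (fun x : A₁ × A₂ => (x.1 : A) * x.2) ?_) ?_
  · rintro ⟨⟨a, ha⟩, b, hb⟩ ⟨⟨a', ha'⟩, b', hb'⟩ heq
    simp only at heq
    have h1 : a'⁻¹ * a = b' * b⁻¹ := by
      rw [inv_mul_eq_iff_eq_mul, ← mul_assoc, eq_mul_inv_iff_mul_eq]
      exact heq
    have h2 := hcon _ (A₁.mul_mem (A₁.inv_mem ha') ha) (h1 ▸ A₂.mul_mem hb' (A₂.inv_mem hb))
    obtain rfl : a' = a := inv_mul_eq_one.1 h2
    obtain rfl : b = b' := mul_left_cancel heq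
    rfl
  · rw [Nat.card_prod]
    omega

theorem conjNormal_eq_cj [E.Normal] (g : G) :
    ∃ g' : Subgroup.normalizer (E : Set G), MulAut.conjNormal g = World.cj E g' :=
  ⟨⟨g, by rw [Subgroup.normalizer_eq_top_iff.2 ‹E.Normal›]; exact Subgroup.mem_top g⟩,
    MulEquiv.ext fun x => Subtype.ext rfl⟩

theorem cj_eq_conjNormal [E.Normal] (g : Subgroup.normalizer (E : Set G)) :
    World.cj E g = MulAut.conjNormal (g : G) :=
  MulEquiv.ext fun _ => Subtype.ext rfl

theorem conjNormal_mem_aut [E.Normal] (g : G) : MulAut.conjNormal g ∈ w.aut E := by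
  obtain ⟨g', hg'⟩ := conjNormal_eq_cj (E := E) g
  rw [hg']
  exact w.cj_mem E g'

theorem apply_mul_inv_eq [E.Normal] (g : G) (e : E) :
    ((MulAut.conjNormal g e * e⁻¹ : E) : G) = ⁅g, (e : G)⁆ := by
  rw [Subgroup.coe_mul, Subgroup.coe_inv, MulAut.conjNormal_apply, commutatorElement_def]

/-- An element centralising an index `p` part `H` and shifting the rest into `⟨d⟩` is a
transvection. -/
theorem tr_of_comm [E.Normal] (hcent : Subgroup.centralizer (E : Set G) ≤ E) {g : G} (hg : g ∉ E)
    {d : E} (hd : d ^ p = 1) (hd1 : d ≠ 1) (hc : ∀ a b : E, a * b = b * a)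
    (hs : ∀ e : E, MulAut.conjNormal g e * e⁻¹ ∈ Subgroup.zpowers d) {H : Subgroup E}
    (hdH : d ∈ H) (hH : Nat.card E = p * Nat.card H)
    (hfix : ∀ h ∈ H, MulAut.conjNormal g h = h) : Tr p (MulAut.conjNormal g) d H where
  fix := hfix
  shift e := by
    obtain ⟨j, hj⟩ := (mem_powers_iff_mem_zpowers.2 (hs e))
    have hj' : d ^ j = MulAut.conjNormal g e * e⁻¹ := hj
    exact ⟨j, by rw [hc e, hj', inv_mul_cancel_right]⟩
  mem := hdH
  ne := hd1
  pow := hd
  idx := hH
  moves := by
    by_contra hall
    push Not at hall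
    refine hg (hcent (Subgroup.mem_centralizer_iff.2 fun x hx => ?_))
    have h1 := congrArg Subtype.val (hall ⟨x, hx⟩)
    rw [MulAut.conjNormal_apply] at h1
    exact (mul_inv_eq_iff_eq_mul.1 h1).symm

/-- `g` centralising an element `u` outside `⟨d⟩` and shifting into `⟨d⟩`. -/
theorem tr_of_kernel [E.Normal] (hcent : Subgroup.centralizer (E : Set G) ≤ E) {g : G} (hg : g ∉ E)
    {d : E} (hd : d ^ p = 1) (hd1 : d ≠ 1) (hc : ∀ a b : E, a * b = b * a)
    (hs : ∀ e : E, MulAut.conjNormal g e * e⁻¹ ∈ Subgroup.zpowers d)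
    (hgd : MulAut.conjNormal g d = d) :
    ∃ H : Subgroup E, Tr p (MulAut.conjNormal g) d H ∧
      ∀ u : E, MulAut.conjNormal g u = u → u ∈ H := by
  let f : E →* E :=
    { toFun := fun e => MulAut.conjNormal g e * e⁻¹
      map_one' := by simp
      map_mul' := fun a b => by
        rw [map_mul, mul_inv_rev, hc b⁻¹ a⁻¹]
        simp only [mul_assoc]
        congr 1
        rw [← mul_assoc, hc (MulAut.conjNormal g b) a⁻¹, mul_assoc] }
  have hker : ∀ e, e ∈ f.ker ↔ MulAut.conjNormal g e = e := fun e => by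
    rw [MonoidHom.mem_ker]
    exact mul_inv_eq_one
  refine ⟨f.ker, tr_of_comm hcent hg hd hd1 hc hs ((hker d).2 hgd) ?_ fun h hh => (hker h).1 hh,
    fun u hu => (hker u).2 hu⟩
  have hle : f.range ≤ Subgroup.zpowers d := by
    rintro _ ⟨e, rfl⟩
    exact hs e
  have hne : f.range ≠ ⊥ := by
    intro h
    refine hg (hcent (Subgroup.mem_centralizer_iff.2 fun x hx => ?_))
    have h0 : f ⟨x, hx⟩ = 1 := Subgroup.mem_bot.1 (h ▸ ⟨_, rfl⟩)
    have h1 := congrArg Subtype.val ((hker ⟨x, hx⟩).1 h0)
    rw [MulAut.conjNormal_apply] at h1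
    exact (mul_inv_eq_iff_eq_mul.1 h1).symm
  have hcr : Nat.card f.range = p := by
    have hd' := Subgroup.card_dvd_of_le hle
    rw [card_zpowers_eq hd hd1] at hd'
    rcases (Nat.dvd_prime hp.out).1 hd' with h | h
    · exact absurd (Subgroup.card_eq_one.1 h) hne
    · exact h
  rw [← f.ker.card_mul_index, Subgroup.index_ker, hcr, mul_comm]

/-- A subgroup of order `p` invariant under conjugation is central. -/
theorem fixed_of_zpowers_invariant [E.Normal] (hG : IsPGroup p G) {d : E} (hd : d ^ p = 1)
    (hd1 : d ≠ 1) (hinv : ∀ g : G, MulAut.conjNormal g d ∈ Subgroup.zpowers d) :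
    (d : G) ∈ Subgroup.center G := by
  have hdG : (d : G) ^ p = 1 := by rw [← Subgroup.coe_pow, hd, Subgroup.coe_one]
  have hd1' : (d : G) ≠ 1 := fun h => hd1 (Subtype.ext h)
  haveI : (Subgroup.zpowers (d : G)).Normal := by
    refine ⟨fun x hx g => ?_⟩
    obtain ⟨k, rfl⟩ := Subgroup.mem_zpowers_iff.1 hx
    rw [← conj_zpow]
    obtain ⟨j, hj⟩ := Subgroup.mem_zpowers_iff.1 (hinv g)
    refine zpow_mem ?_ k
    rw [← MulAut.conjNormal_apply, ← hj, Subgroup.coe_zpow]
    exact zpow_mem (Subgroup.mem_zpowers _) j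
  refine Subgroup.mem_center_iff.2 fun g => commutatorElement_eq_one_iff_mul_comm.1 ?_
  refine Subgroup.mem_bot.1 (commutator_mem_of_step hG bot_le ?_ (Subgroup.mem_zpowers (d : G)) g)
  rw [card_zpowers_eq hdG hd1', Subgroup.card_bot, mul_one]

/-- The centre of an inner transvection is central. -/
theorem Tr.centre_central [E.Normal] (hG : IsPGroup p G) (hc : ∀ a b : E, a * b = b * a)
    (habel : ∀ g h : G, ⁅g, h⁆ ∈ E) {g : G} {d : E} {H : Subgroup E}
    (h : Tr p (MulAut.conjNormal g) d H) : (d : G) ∈ Subgroup.center G := by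
  refine fixed_of_zpowers_invariant hG h.pow h.ne fun q => ?_
  have heq : (MulAut.conjNormal q * MulAut.conjNormal g * (MulAut.conjNormal q)⁻¹ : MulAut E) =
      MulAut.conjNormal g := by
    rw [← map_inv, ← map_mul, ← map_mul, show q * g * q⁻¹ = ⁅q, g⁆ * g by
      rw [commutatorElement_def]; group, map_mul]
    have h1 : (MulAut.conjNormal ⁅q, g⁆ : MulAut E) = 1 := by
      refine MulEquiv.ext fun x => Subtype.ext ?_
      rw [MulAut.conjNormal_apply]
      have := congrArg Subtype.val (hc ⟨_, habel q g⟩ x)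
      simp only [Subgroup.coe_mul] at this
      rw [this, mul_inv_cancel_right]
      rfl
    rw [h1, one_mul]
  have h' := h.conj (MulAut.conjNormal q)
  rw [heq] at h'
  rw [h.centre_eq h'.pow h'.shift]
  exact Subgroup.mem_zpowers _

/-- An essential subgroup of order `p ^ 3` is not normal. -/
theorem Ess.not_normal (hG : IsPGroup p G) (hE : Ess w E) (hc : ∀ a b : E, a * b = b * a)
    (hexp : ∀ a : E, a ^ p = 1) (h5 : Nat.card G = p ^ 5) (h3 : Nat.card E = p ^ 3) : ¬ E.Normal := by
  intro hEn
  haveI := hEn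
  obtain ⟨α, hα, z, hz, hαz⟩ := hE.move
  have hp2 := hp.out.two_le
  have hz1 : z ≠ 1 := fun h => hαz (by rw [h, map_one]; exact one_mem _)
  have habel : ∀ g h : G, ⁅g, h⁆ ∈ E := by
    intro g h
    have hq : Nat.card (G ⧸ E) = p ^ 2 := by
      have := Subgroup.card_eq_card_quotient_mul_card_subgroup E
      rw [h5, h3, show p ^ 5 = p ^ 2 * p ^ 3 by ring] at this
      exact (Nat.eq_of_mul_eq_mul_right (pow_pos hp.out.pos 3) this).symm
    rw [← QuotientGroup.eq_one_iff, ← QuotientGroup.mk'_apply, map_commutatorElement,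
      commutatorElement_eq_one_iff_mul_comm]
    exact (IsPGroup.commGroupOfCardEqPrimeSq hq).mul_comm _ _
  set Z : Subgroup E := (Subgroup.center G).subgroupOf E with hZdef
  have hzZ : z ∈ Z := Subgroup.mem_subgroupOf.2 hz
  have hαZ : α z ∉ Z := fun h => hαz (Subgroup.mem_subgroupOf.1 h)
  have hfixZ : ∀ (g : G), ∀ x ∈ Z, MulAut.conjNormal g x = x := fun g x hx => Subtype.ext (by
    rw [MulAut.conjNormal_apply, Subgroup.mem_center_iff.1 (Subgroup.mem_subgroupOf.1 hx) g,
      mul_inv_cancel_right])
  have hcenE : Subgroup.center G ≤ E := fun x hx =>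
    hE.cent (Subgroup.mem_centralizer_iff.2 fun e _ => Subgroup.mem_center_iff.1 hx e)
  obtain ⟨i, hi3, hi⟩ := (Nat.dvd_prime_pow hp.out).1 (h3 ▸ Subgroup.card_subgroup_dvd_card Z)
  have hi0 : i ≠ 0 := fun h => hz1
    (Subgroup.mem_bot.1 (Subgroup.card_eq_one.1 (by rw [hi, h, pow_zero]) ▸ hzZ))
  have hi' : i ≠ 3 := fun h => hαZ
    (Subgroup.eq_top_of_card_eq Z (by rw [hi, h, h3]) ▸ Subgroup.mem_top _)
  rcases (show i = 2 ∨ i = 1 by omega) with rfl | rfl
  · -- the centre has order `p ^ 2`
    obtain ⟨x, -, hx⟩ : ∃ x ∈ (⊤ : Subgroup E), x ∉ Z := ⟨α z, Subgroup.mem_top _, hαZ⟩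
    have hstep : ∀ g : G, ∀ e : E, MulAut.conjNormal g e * e⁻¹ ∈ Z := fun g e => by
      rw [Subgroup.mem_subgroupOf, apply_mul_inv_eq]
      refine commutator_mem_of_step hG hcenE ?_ e.2 g
      rw [← Nat.card_congr (Subgroup.subgroupOfEquivOfLe hcenE).toEquiv, ← hZdef, hi, h3]
      ring
    have htr : ∀ d ∈ Z, d ≠ 1 → ∃ g : G, Tr p (MulAut.conjNormal g : MulAut E) d Z := by
      let ψ : G →* E :=
        { toFun := fun g => MulAut.conjNormal g x * x⁻¹
          map_one' := by simp
          map_mul' := fun g h => by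
            have h1 : MulAut.conjNormal h x = MulAut.conjNormal h x * x⁻¹ * x :=
              (inv_mul_cancel_right _ _).symm
            conv_lhs => rw [map_mul, MulAut.mul_apply, h1, map_mul, hfixZ g _ (hstep h x)]
            rw [hc (MulAut.conjNormal g x * x⁻¹)]
            simp only [mul_assoc] }
      have hker : ψ.ker ≤ E := by
        intro g hg
        by_contra hgE
        have hgx : MulAut.conjNormal g x = x := mul_inv_eq_one.1 hg
        refine hgE (hE.cent (Subgroup.mem_centralizer_iff.2 fun y hy => ?_))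
        haveI : Z.Normal := ⟨fun a ha b => by rwa [hc b a, mul_inv_cancel_right]⟩
        obtain ⟨k, hk⟩ := exists_pow_mem (A := Z) (B := ⊤) le_top
          (by rw [Subgroup.card_top, hi, h3]; ring) (Subgroup.mem_top x) hx
          (Subgroup.mem_top (⟨y, hy⟩ : E))
        have h1 := hfixZ g _ hk
        rw [map_mul, map_inv, map_pow, hgx] at h1
        have h2 := congrArg Subtype.val (mul_left_cancel h1)
        rw [MulAut.conjNormal_apply] at h2
        exact (mul_inv_eq_iff_eq_mul.1 h2).symm
      have hr : ψ.range = Z := by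
        refine Subgroup.eq_of_le_of_card_ge (by rintro _ ⟨g, rfl⟩; exact hstep g x) ?_
        have h1 := ψ.ker.card_mul_index
        rw [Subgroup.index_ker, h5] at h1
        have h2 : Nat.card ψ.ker ≤ p ^ 3 := h3 ▸ Nat.le_of_dvd Nat.card_pos
          (Subgroup.card_dvd_of_le hker)
        rw [hi]
        by_contra hlt
        push Not at hlt
        have : Nat.card ψ.ker * Nat.card ψ.range < p ^ 3 * p ^ 2 :=
          Nat.mul_lt_mul_of_le_of_lt h2 hlt (pow_pos hp.out.pos 3)
        rw [h1, ← pow_add] at this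
        exact lt_irrefl _ this
      intro d hd hd1
      obtain ⟨g, hg⟩ : d ∈ ψ.range := hr ▸ hd
      refine ⟨g, tr_of_comm hE.cent ?_ (hexp d) hd1 hc ?_ hd (by rw [hi, h3]; ring) (hfixZ g)⟩
      · intro hgE
        refine hd1 (hg.symm.trans ?_)
        show MulAut.conjNormal g x * x⁻¹ = 1
        rw [mul_inv_eq_one]
        exact Subtype.ext (by
          rw [MulAut.conjNormal_apply]
          have := congrArg Subtype.val (hc ⟨g, hgE⟩ x)
          simp only [Subgroup.coe_mul] at this
          rw [this, mul_inv_cancel_right])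
      · intro e
        haveI : Z.Normal := ⟨fun a ha b => by rwa [hc b a, mul_inv_cancel_right]⟩
        obtain ⟨k, hk⟩ := exists_pow_mem (A := Z) (B := ⊤) le_top
          (by rw [Subgroup.card_top, hi, h3]; ring) (Subgroup.mem_top x) hx (Subgroup.mem_top e)
        have hgx : MulAut.conjNormal g x = d * x := by
          rw [← hg]; exact (inv_mul_cancel_right _ _).symm
        have h1 := hfixZ g _ hk
        rw [map_mul, map_inv, map_pow, hgx, Commute.mul_pow (hc d x), mul_inv_rev, mul_assoc] at h1
        have h2 := mul_left_cancel h1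
        rw [inv_mul_eq_iff_eq_mul] at h2
        rw [h2, mul_inv_cancel_right]
        exact pow_mem (Subgroup.mem_zpowers d) k
    set Z' := Z.map α.toMonoidHom with hZ'
    obtain ⟨d, hd, hd', hd1⟩ := exists_mem_inf_ne_one (A₁ := Z) (A₂ := Z') (by
      rw [hZ', Subgroup.card_map_of_injective α.injective, hi, h3, ← pow_add]
      exact Nat.pow_lt_pow_right hp.out.one_lt (by norm_num))
    obtain ⟨d₀, hd₀, hd₀d⟩ := hd'
    change α d₀ = d at hd₀d
    obtain ⟨g, hg⟩ := htr d hd hd1
    obtain ⟨g', hg'⟩ := htr d₀ hd₀ fun h => hd1 (by rw [← hd₀d, h, map_one])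
    have ht' := hg'.conj α
    rw [hd₀d] at ht'
    set t : MulAut E := MulAut.conjNormal g
    set t' : MulAut E := α * MulAut.conjNormal g' * α⁻¹
    have hm' : t' ∈ w.aut E :=
      (w.aut E).mul_mem ((w.aut E).mul_mem hα (conjNormal_mem_aut g')) ((w.aut E).inv_mem hα)
    obtain ⟨β, -, hβ⟩ := exists_conj_cj hG hE.fn (K := Subgroup.closure {t, t'})
      ((Subgroup.closure_le _).2 (by
        rintro u (rfl | rfl)
        · exact conjNormal_mem_aut g
        · exact hm'))
      (hg.isPGroup_pair hc h3 ht' hd)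
    have key : ∀ (u : MulAut E) (A : Subgroup E), u ∈ Subgroup.closure {t, t'} → Tr p u d A →
        Nat.card A = p ^ 2 → A.map β.toMonoidHom = Z := by
      intro u A hu hA hcA
      obtain ⟨q, hq⟩ := hβ u hu
      have h1 := hA.conj β
      rw [← hq, cj_eq_conjNormal] at h1
      refine (Subgroup.eq_of_le_of_card_ge (fun y hy => h1.fixed_mem hc (hfixZ _ y hy)) ?_).symm
      rw [Subgroup.card_map_of_injective β.injective, hcA, hi]
    have e1 := key t Z (Subgroup.subset_closure (Or.inl rfl)) hg hi
    have e2 := key t' Z' (Subgroup.subset_closure (Or.inr rfl)) ht'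
      (by rw [hZ', Subgroup.card_map_of_injective α.injective, hi])
    have e3 : Z' = Z := Subgroup.map_injective β.injective (e2.trans e1.symm)
    exact hαZ (e3 ▸ ⟨z, hzZ, rfl⟩)
  · -- the centre has order `p`
    rw [pow_one] at hi
    have hZc : Subgroup.zpowers z = Z := Subgroup.eq_of_le_of_card_ge (Subgroup.zpowers_le.2 hzZ)
      (by rw [hi, card_zpowers_eq (hexp z) hz1])
    set c' := α z with hc'def
    have hc'1 : c' ≠ 1 := fun h => hαZ (h ▸ one_mem _)
    haveI hZn : ∀ A : Subgroup E, A.Normal := fun A =>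
      ⟨fun a ha b => by rwa [hc b a, mul_inv_cancel_right]⟩
    -- incident transvections have the same centre
    have hinc : ∀ (t t' : MulAut E) (d d' : E) (A A' : Subgroup E), t ∈ w.aut E → t' ∈ w.aut E →
        Tr p t d A → Tr p t' d' A' → d' ∈ A → Subgroup.zpowers d = Subgroup.zpowers d' := by
      intro t t' d d' A A' ht ht' h h' hin
      obtain ⟨β, -, hβ⟩ := exists_conj_cj hG hE.fn (K := Subgroup.closure {t, t'})
        ((Subgroup.closure_le _).2 (by rintro u (rfl | rfl) <;> assumption))
        (h.isPGroup_pair hc h3 h' hin)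
      have key : ∀ (u : MulAut E) (e : E) (B : Subgroup E), u ∈ Subgroup.closure {t, t'} →
          Tr p u e B → Subgroup.zpowers (β e) = Z := by
        intro u e B hu hB
        obtain ⟨q, hq⟩ := hβ u hu
        have h1 := hB.conj β
        rw [← hq, cj_eq_conjNormal] at h1
        rw [← hZc]
        refine zpowers_eq_of_mem (hexp z) h1.ne ?_
        rw [hZc]
        exact Subgroup.mem_subgroupOf.2 (h1.centre_central hG hc habel)
      have e1 := key t d A (Subgroup.subset_closure (Or.inl rfl)) h
      have e2 := key t' d' A' (Subgroup.subset_closure (Or.inr rfl)) h'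
      have e3 : (Subgroup.zpowers d).map β.toMonoidHom = (Subgroup.zpowers d').map β.toMonoidHom := by
        rw [MonoidHom.map_zpowers, MonoidHom.map_zpowers]
        exact e1.trans e2.symm
      exact Subgroup.map_injective β.injective e3
    have hne : Subgroup.zpowers z ≠ Subgroup.zpowers c' := fun h => hαZ
      (hZc ▸ (h.symm ▸ Subgroup.mem_zpowers c' : c' ∈ Subgroup.zpowers z))
    by_cases hB : ∀ (g : G) (e : E), MulAut.conjNormal g e * e⁻¹ ∈ Z
    · -- every commutator is central
      have hfind : ∀ u : E, ∃ g : G, g ∉ E ∧ MulAut.conjNormal g u = u := by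
        intro u
        let ψ : G →* E :=
          { toFun := fun g => MulAut.conjNormal g u * u⁻¹
            map_one' := by simp
            map_mul' := fun g h => by
              have h1 : MulAut.conjNormal h u = MulAut.conjNormal h u * u⁻¹ * u :=
                (inv_mul_cancel_right _ _).symm
              conv_lhs => rw [map_mul, MulAut.mul_apply, h1, map_mul, hfixZ g _ (hB h u)]
              rw [hc (MulAut.conjNormal g u * u⁻¹)]
              simp only [mul_assoc] }
        by_contra hcon
        push Not at hcon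
        have hker : ψ.ker ≤ E := fun g hg => by
          by_contra hgE
          exact hcon g hgE (mul_inv_eq_one.1 hg)
        have h1 := ψ.ker.card_mul_index
        rw [Subgroup.index_ker, h5] at h1
        have h2 : Nat.card ψ.ker ≤ p ^ 3 := h3 ▸ Nat.le_of_dvd Nat.card_pos
          (Subgroup.card_dvd_of_le hker)
        have h4 : Nat.card ψ.range ≤ p := hi ▸ Nat.le_of_dvd Nat.card_pos
          (Subgroup.card_dvd_of_le (by rintro _ ⟨g, rfl⟩; exact hB g u))
        have := Nat.mul_le_mul h2 h4
        rw [h1, ← pow_succ] at this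
        exact absurd this (not_le.2 (Nat.pow_lt_pow_right hp.out.one_lt (by norm_num)))
      obtain ⟨g, hgE, hgc⟩ := hfind c'
      obtain ⟨g', hg'E, hg'c⟩ := hfind (α⁻¹ z)
      obtain ⟨A, hA, hAu⟩ := tr_of_kernel hE.cent hgE (hexp z) hz1 hc (fun e => hZc ▸ hB g e)
        (hfixZ g z hzZ)
      obtain ⟨A', hA', hA'u⟩ := tr_of_kernel hE.cent hg'E (hexp z) hz1 hc (fun e => hZc ▸ hB g' e)
        (hfixZ g' z hzZ)
      exact hne (hinc _ _ _ _ _ _ (conjNormal_mem_aut g)
        ((w.aut E).mul_mem ((w.aut E).mul_mem hα (conjNormal_mem_aut g')) ((w.aut E).inv_mem hα))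
        hA (hA'.conj α) (hAu c' hgc))
    · push Not at hB
      obtain ⟨g₀, e₀, he₀⟩ := hB
      -- the elements with central commutators
      haveI hZG : (Z.map E.subtype).Normal := by
        refine ⟨fun a ha b => ?_⟩
        obtain ⟨a, ha', rfl⟩ := ha
        refine ⟨a, ha', ?_⟩
        show (a : G) = b * a * b⁻¹
        rw [Subgroup.mem_center_iff.1 (Subgroup.mem_subgroupOf.1 ha') b, mul_inv_cancel_right]
      set q := QuotientGroup.mk' (Z.map E.subtype) with hqdef
      set HG : Subgroup G := E ⊓ (Subgroup.center _).comap q with hHG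
      haveI : HG.Normal := inferInstance
      set H : Subgroup E := HG.subgroupOf E with hHdef
      have hmemH : ∀ e : E, e ∈ H ↔ ∀ g : G, MulAut.conjNormal g e * e⁻¹ ∈ Z := by
        intro e
        rw [hHdef, Subgroup.mem_subgroupOf, hHG, Subgroup.mem_inf, and_iff_right e.2,
          Subgroup.mem_comap, Subgroup.mem_center_iff]
        have key : ∀ g : G, q g * q e = q e * q g ↔ MulAut.conjNormal g e * e⁻¹ ∈ Z := fun g => by
          rw [← commutatorElement_eq_one_iff_mul_comm, ← map_commutatorElement, hqdef,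
            QuotientGroup.mk'_apply, QuotientGroup.eq_one_iff, ← apply_mul_inv_eq,
            ← Subgroup.coe_subtype, Subgroup.mem_map_iff_mem E.subtype_injective]
        exact ⟨fun h g => (key g).1 (h (q g)), fun h y => by
          obtain ⟨g, rfl⟩ := QuotientGroup.mk'_surjective _ y; exact (key g).2 (h g)⟩
      have hZH : Z ≤ H := fun e he => (hmemH e).2 fun g => by
        rw [hfixZ g e he, mul_inv_cancel]
        exact one_mem _
      obtain ⟨u, huH, huZ⟩ : ∃ u ∈ H, u ∉ Z := by
        haveI : (E.map q).Normal := Subgroup.Normal.map inferInstance q (QuotientGroup.mk'_surjective _)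
        have hEq : E.map q ≠ ⊥ := fun h => hαZ (by
          have h1 : q ((α z : E) : G) = 1 := Subgroup.mem_bot.1 (h ▸ ⟨_, (α z).2, rfl⟩)
          rwa [hqdef, QuotientGroup.mk'_apply, QuotientGroup.eq_one_iff, ← Subgroup.coe_subtype,
            Subgroup.mem_map_iff_mem E.subtype_injective] at h1)
        obtain ⟨⟨v, hv⟩, hv1⟩ := Subgroup.ne_bot_iff_exists_ne_one.1
          (H30.inf_center_ne_bot (hG.to_quotient _) inferInstance hEq)
        obtain ⟨⟨v, hv', rfl⟩, hvc⟩ := hv
        refine ⟨⟨v, hv'⟩, Subgroup.mem_subgroupOf.2 ⟨hv', hvc⟩, fun h => hv1 (Subtype.ext ?_)⟩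
        show q v = 1
        rw [hqdef, QuotientGroup.mk'_apply, QuotientGroup.eq_one_iff]
        exact ⟨⟨v, hv'⟩, h, rfl⟩
      have hH2 : Nat.card H = p ^ 2 := by
        obtain ⟨j, hj3, hj⟩ := (Nat.dvd_prime_pow hp.out).1 (h3 ▸ Subgroup.card_subgroup_dvd_card H)
        have hj' : j ≠ 3 := fun h => he₀ ((hmemH e₀).1
          (Subgroup.eq_top_of_card_eq H (by rw [hj, h, h3]) ▸ Subgroup.mem_top _) g₀)
        have : 2 ≤ j := by
          by_contra h
          refine huZ ((Subgroup.eq_of_le_of_card_ge hZH ?_).symm ▸ huH)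
          rw [hj, hi]
          exact (Nat.pow_le_pow_right hp.out.pos (by omega)).trans (pow_one p).le
        rw [hj, show j = 2 by omega]
      have hidx : Nat.card E = p * Nat.card H := by rw [hH2, h3]; ring
      have hstep : ∀ (g : G) (e : E), MulAut.conjNormal g e * e⁻¹ ∈ H := fun g e => by
        rw [Subgroup.mem_subgroupOf, apply_mul_inv_eq]
        refine commutator_mem_of_step hG inf_le_left ?_ e.2 g
        rw [← Nat.card_congr (Subgroup.subgroupOfEquivOfLe (show HG ≤ E from inf_le_left)).toEquiv]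
        exact hidx
      -- an element centralising `H`
      obtain ⟨q₀, hq₀⟩ : ∃ q₀ : G, MulAut.conjNormal q₀ u ≠ u := by
        by_contra hall
        push Not at hall
        refine huZ (Subgroup.mem_subgroupOf.2 (Subgroup.mem_center_iff.2 fun g => ?_))
        have h1 := congrArg Subtype.val (hall g)
        rw [MulAut.conjNormal_apply] at h1
        exact mul_inv_eq_iff_eq_mul.1 h1
      obtain ⟨g, hgE, hgu⟩ : ∃ g : G, g ∉ E ∧ MulAut.conjNormal g u = u := by
        let ψ : G →* E :=
          { toFun := fun g => MulAut.conjNormal g u * u⁻¹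
            map_one' := by simp
            map_mul' := fun g h => by
              have h1 : MulAut.conjNormal h u = MulAut.conjNormal h u * u⁻¹ * u :=
                (inv_mul_cancel_right _ _).symm
              conv_lhs => rw [map_mul, MulAut.mul_apply, h1, map_mul,
                hfixZ g _ ((hmemH u).1 huH h)]
              rw [hc (MulAut.conjNormal g u * u⁻¹)]
              simp only [mul_assoc] }
        by_contra hcon
        push Not at hcon
        have hker : ψ.ker ≤ E := fun g hg => by
          by_contra hgE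
          exact hcon g hgE (mul_inv_eq_one.1 hg)
        have h1 := ψ.ker.card_mul_index
        rw [Subgroup.index_ker, h5] at h1
        have h2 : Nat.card ψ.ker ≤ p ^ 3 := h3 ▸ Nat.le_of_dvd Nat.card_pos
          (Subgroup.card_dvd_of_le hker)
        have h4 : Nat.card ψ.range ≤ p := hi ▸ Nat.le_of_dvd Nat.card_pos
          (Subgroup.card_dvd_of_le (by rintro _ ⟨g, rfl⟩; exact (hmemH u).1 huH g))
        have := Nat.mul_le_mul h2 h4
        rw [h1, ← pow_succ] at this
        exact absurd this (not_le.2 (Nat.pow_lt_pow_right hp.out.one_lt (by norm_num)))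
      have hHgen : ∀ x ∈ H, ∃ k : ℕ, (u ^ k)⁻¹ * x ∈ Z := fun x hx =>
        exists_pow_mem (A := Z) (B := H) hZH (by rw [hi, hH2, sq]) huH huZ hx
      have hfixH : ∀ h ∈ H, MulAut.conjNormal g h = h := fun h hh => by
        obtain ⟨k, hk⟩ := hHgen h hh
        have h1 := hfixZ g _ hk
        rw [map_mul, map_inv, map_pow, hgu] at h1
        exact mul_left_cancel h1
      have hgZ : ∀ e : E, MulAut.conjNormal g e * e⁻¹ ∈ Z := by
        intro e
        set a := MulAut.conjNormal g e * e⁻¹ with ha
        have h1 : MulAut.conjNormal q₀ a = a := by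
          have hcomm : MulAut.conjNormal q₀ (MulAut.conjNormal g e) =
              MulAut.conjNormal g (MulAut.conjNormal q₀ e) := by
            rw [← MulAut.mul_apply, ← MulAut.mul_apply, ← map_mul, ← map_mul,
              show q₀ * g = ⁅q₀, g⁆ * (g * q₀) by rw [commutatorElement_def]; group,
              map_mul, MulAut.mul_apply]
            refine Subtype.ext ?_
            rw [MulAut.conjNormal_apply]
            have := congrArg Subtype.val (hc ⟨_, habel q₀ g⟩ (MulAut.conjNormal (g * q₀) e))
            simp only [Subgroup.coe_mul] at this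
            rw [this, mul_inv_cancel_right]
          set b := MulAut.conjNormal q₀ e * e⁻¹
          have hb : MulAut.conjNormal q₀ e = b * e := (inv_mul_cancel_right _ _).symm
          rw [ha, map_mul, map_inv, hcomm, hb, map_mul, hfixH b (hstep q₀ e), mul_inv_rev,
            ← mul_assoc, mul_assoc b, hc b, mul_inv_cancel_right]
        obtain ⟨k, hk⟩ := hHgen a (hstep g e)
        have h2 := hfixZ q₀ _ hk
        rw [map_mul, map_inv, map_pow, h1] at h2
        have h3' : (MulAut.conjNormal q₀ u) ^ k = u ^ k := inv_injective (mul_right_cancel h2)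
        have h4' : (MulAut.conjNormal q₀ u * u⁻¹) ^ k = 1 := by
          rw [Commute.mul_pow (hc _ _), h3', inv_pow, mul_inv_cancel]
        have h5' : u ^ k = 1 := by
          by_contra hk0
          have := zpowers_eq_of_mem (p := p) (hexp u) hk0 (pow_mem (Subgroup.mem_zpowers u) k)
          refine hq₀ (mul_inv_eq_one.1 ?_)
          set v := MulAut.conjNormal q₀ u * u⁻¹
          by_contra hv
          have hdk : orderOf v ∣ k := orderOf_dvd_of_pow_eq_one h4'
          rw [orderOf_eq_prime (hexp v) hv] at hdk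
          obtain ⟨k', rfl⟩ := hdk
          exact hk0 (by rw [pow_mul, hexp u, one_pow])
        rwa [h5', inv_one, one_mul] at hk
      have ht : Tr p (MulAut.conjNormal g : MulAut E) z H :=
        tr_of_comm hE.cent hgE (hexp z) hz1 hc (fun e => hZc ▸ hgZ e) (hZH hzZ) hidx hfixH
      -- all conjugates of the centre lie in a plane
      have htm := conjNormal_mem_aut (w := w) (E := E) g
      set t' : MulAut E := α * MulAut.conjNormal g * α⁻¹
      have ht'm : t' ∈ w.aut E :=
        (w.aut E).mul_mem ((w.aut E).mul_mem hα htm) ((w.aut E).inv_mem hα)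
      have ht' : Tr p t' c' (H.map α.toMonoidHom) := ht.conj α
      have hc'H : c' ∉ H := fun h => hne (hinc _ _ _ _ _ _ htm ht'm ht ht' h)
      set P : Subgroup E := Subgroup.zpowers c' ⊔ Subgroup.zpowers z
      have hin : ∀ β ∈ w.aut E, β z ∈ H → β z ∈ Subgroup.zpowers z := by
        intro β hβ h
        have := hinc _ _ _ _ _ _ htm
          ((w.aut E).mul_mem ((w.aut E).mul_mem hβ htm) ((w.aut E).inv_mem hβ)) ht (ht.conj β) h
        exact this ▸ Subgroup.mem_zpowers _
      have hP : ∀ β ∈ w.aut E, β z ∈ P := by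
        intro β hβ
        by_cases h1 : β z ∈ H.map α.toMonoidHom
        · have := hinc _ _ _ _ _ _ ht'm
            ((w.aut E).mul_mem ((w.aut E).mul_mem hβ htm) ((w.aut E).inv_mem hβ)) ht' (ht.conj β) h1
          exact (le_sup_left : _ ≤ P) (this ▸ Subgroup.mem_zpowers _)
        obtain ⟨j, hj⟩ := ht'.shift (β z)
        have hj0 : c' ^ j ≠ 1 := fun h0 => h1 (ht'.fixed_mem hc (by rw [hj, h0, mul_one]))
        obtain ⟨k, hk⟩ := exists_pow_mem (A := H) (B := ⊤) le_top (by rw [Subgroup.card_top, hidx])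
          (Subgroup.mem_top c') hc'H (Subgroup.mem_top (β z))
        obtain ⟨n, hn⟩ : ∃ n : ℕ, c' ^ (j * n) = (c' ^ k)⁻¹ := by
          have hmem : (c' ^ k)⁻¹ ∈ Subgroup.zpowers (c' ^ j) := by
            rw [zpowers_eq_of_mem (p := p) (hexp c') hj0 (pow_mem (Subgroup.mem_zpowers c') j)]
            exact inv_mem (pow_mem (Subgroup.mem_zpowers c') k)
          obtain ⟨n, hn⟩ := mem_powers_iff_mem_zpowers.2 hmem
          exact ⟨n, by rw [pow_mul]; exact hn⟩
        have hfc : t' c' = c' := ht'.fix c' ht'.mem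
        have hpow : ∀ n : ℕ, (t' ^ n) (β z) = β z * c' ^ (j * n) := by
          intro n
          induction n with
          | zero => simp
          | succ n ih =>
            rw [pow_succ', MulAut.mul_apply, ih, map_mul, map_pow, hfc, hj, mul_assoc, ← pow_add,
              Nat.mul_succ, Nat.add_comm j]
        have h2 := hin (t' ^ n * β) ((w.aut E).mul_mem ((w.aut E).pow_mem ht'm n) hβ)
          (by rw [MulAut.mul_apply, hpow, hn, hc]; exact hk)
        rw [MulAut.mul_apply, hpow, hn] at h2
        have h3' := P.mul_mem ((le_sup_right : _ ≤ P) h2)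
          (P.pow_mem ((le_sup_left : _ ≤ P) (Subgroup.mem_zpowers c')) k)
        rwa [mul_assoc, inv_mul_cancel, mul_one] at h3'
      refine hc'H ((hmemH c').2 fun g => ?_)
      have h1 : MulAut.conjNormal g c' * c'⁻¹ ∈ P := by
        refine P.mul_mem ?_ (P.inv_mem ((le_sup_left : _ ≤ P) (Subgroup.mem_zpowers c')))
        exact hP (MulAut.conjNormal g * α) ((w.aut E).mul_mem (conjNormal_mem_aut g) hα)
      obtain ⟨a, ha, b, hb, hab⟩ := Subgroup.mem_sup_of_normal_right.1 h1
      have haH : a ∈ H := by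
        have := hab.symm ▸ hstep g c'
        exact (Subgroup.mul_mem_cancel_right H (hZH (hZc ▸ hb))).1 this
      have ha1 : a = 1 := by
        by_contra ha1
        exact hc'H ((Subgroup.zpowers_le.2 haH)
          (zpowers_eq_of_mem (p := p) (hexp c') ha1 ha ▸ Subgroup.mem_zpowers c'))
      rw [← hab, ha1, one_mul]
      exact hZc ▸ hb

end H62.PFive
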