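import Cfsg.Agent.H62.PFive.PearlSetup
import Cfsg.Agent.H62.PFive.TopA
import Cfsg.Agent.H62.PFive.Normal

/-!
An essential subgroup of order `p ^ 2` forces `p = 3` and determines the group.
-/

set_option autoImplicit false
set_option linter.unusedSectionVars false
set_option linter.style.haveILetI false

open scoped commutatorElement

namespace H62.PFive

universe u

variable {G : Type u} [Group G] [Finite G] {p : ℕ} [hp : Fact p.Prime] {w : World G p}
  {E : Subgroup G}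

theorem card_inf_of_index {A B : Subgroup G} [A.Normal] (hA : A.index = p) (hB : ¬ B ≤ A) :
    Nat.card B = p * Nat.card (A ⊓ B : Subgroup G) := by
  have h1 : A.relIndex B ∣ p := hA ▸ Subgroup.relIndex_dvd_index_of_normal A B
  have h2 : A.relIndex B = p := by
    rcases (Nat.dvd_prime hp.out).1 h1 with h | h
    · exact absurd (Subgroup.relIndex_eq_one.1 h) hB
    · exact h
  have h3 : Nat.card ((A ⊓ B).subgroupOf B) * (A ⊓ B).relIndex B = Nat.card B :=
    ((A ⊓ B).subgroupOf B).card_mul_index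
  rw [card_subgroupOf_eq inf_le_right, Subgroup.inf_relIndex_right, h2] at h3
  rw [← h3, mul_comm]

/-- The group found from an essential subgroup of order `p ^ 2`. -/
structure Pearl (p : ℕ) (M W₃ W : Subgroup G) (x r s v z : G) (k : ℕ) : Prop where
  hs : ⁅x, r⁆ = s
  hv : ⁅s, x⁆ = v
  hz : ⁅v, x⁆ = z
  z1 : z ≠ 1
  zp : z ^ p = 1
  cen : Subgroup.center G = Subgroup.zpowers z
  xp : x ^ p = 1
  normM : M.Normal
  normW₃ : W₃.Normal
  normW : W.Normal
  cardM : Nat.card M = p ^ 4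
  cardW₃ : Nat.card W₃ = p ^ 3
  cardW : Nat.card W = p ^ 2
  leW : W ≤ W₃
  leM : W₃ ≤ M
  xM : x ∈ M
  xW₃ : x ∉ W₃
  sW₃ : s ∈ W₃
  sW : s ∉ W
  vW : v ∈ W
  vZ : v ∉ Subgroup.zpowers z
  zW : z ∈ W
  rM : r ∉ M
  abW₃ : ∀ a ∈ W₃, ∀ b ∈ W₃, Commute a b
  rW : ∀ u ∈ W, Commute r u
  memW₃ : ∀ g ∈ M, Commute g v → g ∈ W₃
  stepW : ∀ g : G, ∀ u ∈ W, ⁅g, u⁆ ∈ Subgroup.zpowers z
  stepW₃ : ∀ g : G, ∀ u ∈ W₃, ⁅g, u⁆ ∈ W
  kne : (k : ZMod p) ≠ 0
  hk : ⁅r, s⁆ = z ^ k

theorem Conf.pearl (h5 : Nat.card G = p ^ 5) (hp2 : p ≠ 2) (hp7 : p ≠ 7)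
    (hno : ∀ A : Subgroup G, Nat.card A = p ^ 4 → ¬ IsMulCommutative A) {D : Subgroup G} {x c : G}
    (C : Conf w E (Subgroup.center G) D x c) (hZc : Nat.card (Subgroup.center G) = p)
    (hcN : Nat.card (Subgroup.normalizer (E : Set G)) = p ^ 3)
    (hcM : Nat.card (Subgroup.normalizer (Subgroup.normalizer (E : Set G) : Set G)) = p ^ 4) :
    p = 3 ∧ ∃ (M W₃ W : Subgroup G) (x r s v z : G) (k : ℕ), Pearl p M W₃ W x r s v z k := by
  have hG : IsPGroup p G := IsPGroup.of_card h5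
  haveI := hG.isNilpotent
  set Z := Subgroup.center G with hZ
  set N := Subgroup.normalizer (E : Set G) with hN
  set M := Subgroup.normalizer (N : Set G) with hMdef
  have hp1 := hp.out.one_lt
  have hZcom : ∀ (g : G), ∀ u ∈ Z, Commute g u := fun g u hu => Subgroup.mem_center_iff.1 hu g
  have hcZ : Subgroup.zpowers c = Z := Subgroup.eq_of_le_of_card_ge (Subgroup.zpowers_le.2 C.cH)
    (by rw [hZc, Nat.card_zpowers, orderOf_eq_prime C.cp C.c1])
  have hNM : N ≤ M := Subgroup.le_normalizer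
  have hEN : E ≤ N := Subgroup.le_normalizer
  have hZN : Z ≤ N := C.hle.trans hEN
  have hxN : x ∈ N := hEN C.xE
  haveI hMn : M.Normal := by
    have hlt := Group.normalizerCondition_of_isNilpotent M (lt_top_iff_ne_top.2 fun h => by
      rw [h, Subgroup.card_top, h5] at hcM
      exact absurd (Nat.pow_right_injective hp.out.two_le hcM) (by norm_num))
    refine Subgroup.normalizer_eq_top_iff.1 (Subgroup.eq_top_of_card_eq _ ?_)
    obtain ⟨i, hi5, hi⟩ := (Nat.dvd_prime_pow hp.out).1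
      (h5 ▸ Subgroup.card_subgroup_dvd_card (Subgroup.normalizer (M : Set G)))
    have : 4 < i := by
      by_contra h
      refine hlt.ne (Subgroup.eq_of_le_of_card_ge Subgroup.le_normalizer ?_)
      rw [hi, hcM]
      exact Nat.pow_le_pow_right hp.out.pos (by omega)
    rw [hi, h5, show i = 5 by omega]
  have hMidx : M.index = p := by
    have h := M.card_mul_index
    rw [hcM, h5, pow_succ p 4] at h
    exact Nat.eq_of_mul_eq_mul_left (pow_pos hp.out.pos 4) h
  set q := QuotientGroup.mk' Z with hq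
  have hq1 : ∀ y, q y = 1 ↔ y ∈ Z := fun y => QuotientGroup.eq_one_iff y
  -- a first element above the normaliser
  obtain ⟨s₁, hs₁, hs₁N⟩ : ∃ s₁ ∈ M, s₁ ∉ N := by
    by_contra h
    push Not at h
    have := Nat.le_of_dvd Nat.card_pos (Subgroup.card_dvd_of_le (show M ≤ N from h))
    rw [hcM, hcN] at this
    exact absurd ((Nat.pow_le_pow_iff_right hp1).1 this) (by norm_num)
  have SD₁ := C.step hG hs₁ hs₁N
  set v₁ := ⁅s₁, x⁆ with hv₁
  have hqv₁ : ∀ m ∈ M, Commute (q m) (q v₁) := fun m hm =>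
    commutatorElement_eq_one_iff_mul_comm.1
      (by rw [← map_commutatorElement]; exact (hq1 _).2 (SD₁.stepW m hm))
  have hv₁Z : v₁ ∉ Z := fun h => SD₁.notE (C.hle h)
  set W := Z ⊔ Subgroup.zpowers v₁ with hW
  have hWrep : ∀ u ∈ W, ∃ j : ℕ, (v₁ ^ j)⁻¹ * u ∈ Z := by
    intro u hu
    obtain ⟨a, ha, b, hb, rfl⟩ := Subgroup.mem_sup_of_normal_left.1 hu
    obtain ⟨j, rfl⟩ := mem_powers_iff_mem_zpowers.2 hb
    exact ⟨j, by
      show (v₁ ^ j)⁻¹ * (a * v₁ ^ j) ∈ Z
      rw [← mul_assoc, (hZcom _ a ha).eq, mul_assoc, inv_mul_cancel, mul_one]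
      exact ha⟩
  have hWN : W ≤ N := sup_le hZN (Subgroup.zpowers_le.2 SD₁.memN)
  have hWchar : ∀ g ∈ M, (∀ m ∈ M, ⁅g, m⁆ ∈ Z) → g ∈ W := by
    intro g hg hgm
    obtain ⟨a, ha⟩ := exists_pow_mem' hNM le_rfl C.cardM hs₁ hs₁N hg
    have hbr : ⁅q s₁, q x⁆ = q v₁ := by rw [← map_commutatorElement]
    have hcs := (hqv₁ s₁ hs₁).symm
    have hcx := (hqv₁ x (hNM hxN)).symm
    have hvp : q v₁ ^ p = 1 := by rw [← map_pow]; exact (hq1 _).2 SD₁.powW
    have hv1 : q v₁ ≠ 1 := fun h => hv₁Z ((hq1 _).1 h)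
    have hNx : ∀ n ∈ N, Commute (q n) (q x) := fun n hn =>
      commutatorElement_eq_one_iff_mul_comm.1
        (by rw [← map_commutatorElement]; exact (hq1 _).2 (hcZ ▸ C.shift n hn))
    have ha0 : (a : ZMod p) = (0 : ℕ) := by
      refine (pow_eq_pow_iff hvp hv1 a 0).1 ?_
      have h1 : Commute (q g) (q x) := commutatorElement_eq_one_iff_mul_comm.1
        (by rw [← map_commutatorElement]; exact (hq1 _).2 (hgm x (hNM hxN)))
      have h2 : Commute (q s₁ ^ a) (q x) := by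
        have h3 := h1.mul_left (hNx _ ha).inv_left
        rwa [map_mul, map_inv, map_pow, mul_inv_rev, inv_inv, mul_inv_cancel_left] at h3
      have h4 := comm_pow' hbr hcs hcx a 1
      rw [pow_one, mul_one, commutatorElement_eq_one_iff_mul_comm.2 h2.eq] at h4
      rw [pow_zero, ← h4]
    have hgN : g ∈ N := by
      have h1 := pow_inv_mul_pow_mem SD₁.powS ha0.symm
      rw [pow_zero, inv_one, one_mul] at h1
      have := N.mul_mem h1 ha
      rwa [mul_inv_cancel_left] at this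
    obtain ⟨i, j, hij⟩ := SD₁.decomp g hgN
    have hi : x ^ i = 1 := by
      have h1 : Commute (q g) (q s₁) := commutatorElement_eq_one_iff_mul_comm.1
        (by rw [← map_commutatorElement]; exact (hq1 _).2 (hgm s₁ hs₁))
      have h2 : q g = q x ^ i * q v₁ ^ j := by
        rw [← map_pow, ← map_pow, ← map_mul]
        exact (QuotientGroup.eq.2 hij).symm
      have h3 : Commute (q x ^ i) (q s₁) := by
        have h4 := h1.mul_left (hcs.pow_left j).inv_left
        rwa [h2, mul_inv_cancel_right] at h4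
      have h4 := comm_pow' hbr hcs hcx 1 i
      rw [pow_one, one_mul, commutatorElement_eq_one_iff_mul_comm.2 h3.symm.eq] at h4
      have h5 := (pow_eq_pow_iff hvp hv1 i 0).1 (by rw [pow_zero, ← h4])
      rw [(pow_eq_pow_iff C.xp (fun h => C.xH (h ▸ one_mem _)) i 0).2 h5, pow_zero]
    rw [hi, one_mul] at hij
    have h1 := W.mul_mem (W.pow_mem ((le_sup_right : _ ≤ W) (Subgroup.mem_zpowers v₁)) j)
      ((le_sup_left : Z ≤ W) hij)
    rwa [mul_inv_cancel_left] at h1
  have hWstep : ∀ u ∈ W, ∀ m ∈ M, ⁅u, m⁆ ∈ Z := by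
    intro u hu m hm
    obtain ⟨j, hj⟩ := hWrep u hu
    have h1 : q u = q v₁ ^ j := by rw [← map_pow]; exact (QuotientGroup.eq.2 hj).symm
    rw [← hq1, map_commutatorElement, h1, commutatorElement_eq_one_iff_mul_comm]
    exact ((hqv₁ m hm).symm.pow_left j)
  haveI hWn : W.Normal := ⟨fun u hu g => by
    refine hWchar _ (hMn.conj_mem u (hNM (hWN hu)) g) fun m hm => ?_
    have h1 := hWstep u hu _ (by simpa using hMn.conj_mem m hm g⁻¹ : g⁻¹ * m * g ∈ M)
    have h2 := (inferInstance : Z.Normal).conj_mem _ h1 g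
    convert h2 using 1
    simp only [commutatorElement_def]
    group⟩
  have hWc : Nat.card W = p ^ 2 := by
    obtain ⟨i, -, hi⟩ := (Nat.dvd_prime_pow hp.out).1 (h5 ▸ Subgroup.card_subgroup_dvd_card W)
    have hle : Nat.card W ≤ p ^ 2 := by
      let f : ZMod p × Z → W := fun t => ⟨v₁ ^ t.1.val * t.2, W.mul_mem
        (W.pow_mem ((le_sup_right : _ ≤ W) (Subgroup.mem_zpowers v₁)) _) ((le_sup_left : Z ≤ W) t.2.2)⟩
      have hf : Function.Surjective f := by
        rintro ⟨u, hu⟩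
        obtain ⟨j, hj⟩ := hWrep u hu
        have h1 := Z.mul_mem (pow_inv_mul_pow_mem SD₁.powW
          (show (((j : ZMod p).val : ℕ) : ZMod p) = (j : ZMod p) by rw [ZMod.natCast_val, ZMod.cast_id', id_eq])) hj
        rw [mul_assoc, mul_inv_cancel_left] at h1
        exact ⟨((j : ZMod p), ⟨_, h1⟩), Subtype.ext (mul_inv_cancel_left _ _)⟩
      refine (Nat.card_le_card_of_surjective f hf).trans ?_
      rw [Nat.card_prod, Nat.card_zmod, hZc, sq]
    have h2 : 1 < i := by
      by_contra h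
      refine hv₁Z ?_
      rw [Subgroup.eq_of_le_of_card_ge (le_sup_left : Z ≤ W)
        (by rw [hi, hZc]; exact (Nat.pow_le_pow_right hp.out.pos (by omega)).trans (pow_one p).le)]
      exact (le_sup_right : _ ≤ W) (Subgroup.mem_zpowers v₁)
    rw [hi] at hle
    have := (Nat.pow_le_pow_iff_right hp1).1 hle
    rw [hi, show i = 2 by omega]
  have hWG : ∀ (g : G), ∀ u ∈ W, ⁅g, u⁆ ∈ Z := fun g u hu =>
    commutator_mem_of_step hG (le_sup_left : Z ≤ W) (by rw [hWc, hZc, sq]) hu g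
  -- the centraliser of `W`
  have hv₁W : v₁ ∈ W := (le_sup_right : _ ≤ W) (Subgroup.mem_zpowers v₁)
  let χ : G →* G :=
    { toFun := fun g => ⁅g, v₁⁆
      map_one' := commutatorElement_one_left v₁
      map_mul' := fun g h => by
        rw [show ⁅g * h, v₁⁆ = g * ⁅h, v₁⁆ * g⁻¹ * ⁅g, v₁⁆ by
          simp only [commutatorElement_def]; group,
          (hZcom g _ (hWG h v₁ hv₁W)).eq, mul_inv_cancel_right,
          (hZcom ⁅g, v₁⁆ _ (hWG h v₁ hv₁W)).eq] }
  have hmemK : ∀ g, g ∈ χ.ker ↔ Commute g v₁ := fun g =>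
    (commutatorElement_eq_one_iff_mul_comm : ⁅g, v₁⁆ = 1 ↔ _)
  have hxK : x ∉ χ.ker := fun h => SD₁.commWX
    (commutatorElement_eq_one_iff_mul_comm.2 ((hmemK x).1 h).eq.symm)
  have hKidx : χ.ker.index = p := by
    have hd : χ.ker.index ∣ p := by
      rw [Subgroup.index_ker, ← hZc]
      exact Subgroup.card_dvd_of_le (by rintro _ ⟨g, rfl⟩; exact hWG g v₁ hv₁W)
    rcases (Nat.dvd_prime hp.out).1 hd with h | h
    · exact absurd ((Subgroup.index_eq_one.1 h) ▸ Subgroup.mem_top x) hxK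
    · exact h
  have hKc : Nat.card χ.ker = p ^ 4 := by
    have h := χ.ker.card_mul_index
    rw [hKidx, h5, pow_succ p 4] at h
    exact Nat.eq_of_mul_eq_mul_right hp.out.pos h
  have hWK : W ≤ χ.ker := fun u hu => by
    obtain ⟨j, hj⟩ := hWrep u hu
    have h1 := ((Commute.refl v₁).pow_right j).mul_right (hZcom v₁ _ hj)
    rw [mul_inv_cancel_left] at h1
    exact (hmemK u).2 h1.symm
  obtain ⟨r, hrK, hrM⟩ : ∃ r ∈ χ.ker, r ∉ M := by
    by_contra h
    push Not at h
    have : χ.ker = M := Subgroup.eq_of_le_of_card_ge h (by rw [hKc, hcM])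
    exact hxK (this ▸ hNM hxN)
  have hKW : ∀ g ∈ χ.ker, ∀ u ∈ W, Commute g u := by
    intro g hg u hu
    obtain ⟨j, hj⟩ := hWrep u hu
    have := (((hmemK g).1 hg).pow_right j).mul_right (hZcom g _ hj)
    rwa [mul_inv_cancel_left] at this
  -- the second element
  set s := ⁅x, r⁆ with hs
  have hsM : s ∈ M := by
    rw [hs, commutatorElement_def, mul_assoc, mul_assoc, ← mul_assoc r]
    exact M.mul_mem (hNM hxN) (hMn.conj_mem _ (M.inv_mem (hNM hxN)) r)
  have hsN : s ∉ N := by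
    intro h
    refine hrM (H85.mem_normalizer_of_conj fun n hn => ?_)
    have h1 : r * x * r⁻¹ ∈ N := by
      have := N.mul_mem (N.inv_mem h) hxN
      rwa [show s⁻¹ * x = r * x * r⁻¹ by rw [hs, commutatorElement_def]; group] at this
    obtain ⟨i, j, hij⟩ := SD₁.decomp n hn
    have h2 : r * n * r⁻¹ = (r * x * r⁻¹) ^ i * (v₁ ^ j * ((x ^ i * v₁ ^ j)⁻¹ * n)) := by
      have h3 : Commute r (v₁ ^ j * ((x ^ i * v₁ ^ j)⁻¹ * n)) :=
        (((hmemK r).1 hrK).pow_right j).mul_right (hZcom r _ hij)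
      rw [conj_pow]
      calc r * n * r⁻¹ = r * x ^ i * ((v₁ ^ j * ((x ^ i * v₁ ^ j)⁻¹ * n)) * r⁻¹) := by group
        _ = r * x ^ i * (r⁻¹ * (v₁ ^ j * ((x ^ i * v₁ ^ j)⁻¹ * n))) := by rw [h3.inv_left.eq]
        _ = _ := by simp only [mul_assoc]
    rw [h2]
    exact N.mul_mem (N.pow_mem h1 i) (N.mul_mem (N.pow_mem SD₁.memN j) (hZN hij))
  have SD := C.step hG hsM hsN
  set v := ⁅s, x⁆ with hv
  have hvW : v ∈ W := hWchar v (hNM SD.memN) fun m hm => by
    rw [← commutatorElement_inv]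
    exact Z.inv_mem (SD.stepW m hm)
  have hvZ : v ∉ Z := fun h => SD.notE (C.hle h)
  have hvrep : ∀ u ∈ W, ∃ i : ℕ, (v ^ i)⁻¹ * u ∈ Z := fun u hu =>
    exists_pow_mem (le_sup_left : Z ≤ W) (by rw [hWc, hZc, sq]) hvW hvZ hu
  set W₃ := χ.ker ⊓ M with hW₃
  haveI : W₃.Normal := inferInstance
  have hmemW₃ : ∀ g ∈ M, Commute g v → g ∈ W₃ := by
    intro g hg hgv
    obtain ⟨i, hi⟩ := hvrep v₁ hv₁W
    have := (hgv.pow_right i).mul_right (hZcom g _ hi)
    rw [mul_inv_cancel_left] at this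
    exact ⟨(hmemK g).2 this, hg⟩
  have hW₃c : Nat.card W₃ = p ^ 3 := by
    have h := card_inf_of_index (A := χ.ker) (B := M) hKidx fun h => hxK (h (hNM hxN))
    rw [hcM, pow_succ' p 3] at h
    exact (Nat.eq_of_mul_eq_mul_left hp.out.pos h).symm
  have hWW₃ : W ≤ W₃ := le_inf hWK (hWN.trans hNM)
  have hsW₃ : s ∈ W₃ := by
    refine ⟨?_, hsM⟩
    rw [hs, commutatorElement_def]
    exact χ.ker.mul_mem ((MonoidHom.normal_ker χ).conj_mem r hrK x) (χ.ker.inv_mem hrK)
  have hsW : s ∉ W := fun h => hsN (hWN h)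
  have hW₃rep : ∀ u ∈ W₃, ∃ i : ℕ, (s ^ i)⁻¹ * u ∈ W := fun u hu =>
    exists_pow_mem hWW₃ (by rw [hW₃c, hWc]; ring) hsW₃ hsW hu
  have hW₃ab : ∀ a ∈ W₃, ∀ b ∈ W₃, Commute a b := by
    intro a ha b hb
    obtain ⟨i, hi⟩ := hW₃rep b hb
    obtain ⟨i', hi'⟩ := hW₃rep a ha
    have h1 : Commute a s := by
      have := ((Commute.refl s).pow_left i').mul_left (hKW s hsW₃.1 _ hi').symm
      rwa [mul_inv_cancel_left] at this
    have := (h1.pow_right i).mul_right (hKW a ha.1 _ hi)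
    rwa [mul_inv_cancel_left] at this
  have hW₃G : ∀ (g : G), ∀ u ∈ W₃, ⁅g, u⁆ ∈ W := fun g u hu =>
    commutator_mem_of_step hG hWW₃ (by rw [hW₃c, hWc]; ring) hu g
  have hz1 : ⁅v, x⁆ ≠ 1 := SD.commWX
  have hzZ : ⁅v, x⁆ ∈ Z := hcZ ▸ C.shift v SD.memN
  set z := ⁅v, x⁆ with hz
  have hzp : z ^ p = 1 := by
    obtain ⟨i, hi⟩ := mem_powers_iff_mem_zpowers.2 (hcZ.symm ▸ hzZ : z ∈ Subgroup.zpowers c)
    change c ^ i = z at hi
    rw [← hi, ← pow_mul, mul_comm, pow_mul, C.cp, one_pow]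
  have hzZ' : Subgroup.zpowers z = Z := by
    rw [← hcZ]
    exact zpowers_eq_of_mem C.cp hz1 (hcZ.symm ▸ hzZ)
  have hxW₃ : x ∉ W₃ := fun h => hxK h.1
  have hrv : ∀ u ∈ W, Commute r u := fun u hu => hKW r hrK u hu
  have hrW₃ : r ∉ W₃ := fun h => hrM h.2
  -- the torus on the whole group
  obtain ⟨m, hm⟩ := hvrep _ (hW₃G r s hsW₃)
  set u := ⁅r, s⁆ with hu
  have huW : u ∈ W := hW₃G r s hsW₃
  have hvpq : q v ^ p = 1 := by rw [← map_pow]; exact (hq1 _).2 SD.powW
  have hqv1 : q v ≠ 1 := fun h => hvZ ((hq1 _).1 h)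
  have hqu : q u = q v ^ m := by rw [← map_pow]; exact (QuotientGroup.eq.2 hm).symm
  have htor : ∀ l : ℕ, (l : ZMod p) ≠ 0 → (l : ZMod p) ^ 7 * m = (l : ZMod p) ^ 2 * m ∧
      ∀ k : ℕ, u = z ^ k → (l : ZMod p) ^ 7 * k = l * k := by
    intro l hl
    obtain ⟨l', hll⟩ := exists_inv_exp hl
    obtain ⟨γ, hγ, A⟩ := SD.act l l' hll
    have hγW : ∀ y ∈ W, app γ y ∈ W := by
      intro y hy
      obtain ⟨i, hi⟩ := hvrep y hy
      have hy' : y = v ^ i * ((v ^ i)⁻¹ * y) := (mul_inv_cancel_left _ _).symm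
      rw [hy', app_mul γ (M.pow_mem (hNM SD.memN) i) (hNM (hZN hi)), app_pow γ (hNM SD.memN)]
      refine W.mul_mem (W.pow_mem ?_ i) ((le_sup_left : Z ≤ W) (A.onH _ hi))
      have := W.mul_mem (W.pow_mem hvW (l ^ 2)) ((le_sup_left : Z ≤ W) A.onW)
      rwa [mul_inv_cancel_left] at this
    have hγW₃ : ∀ y ∈ W₃, app γ y ∈ W₃ := by
      intro y hy
      refine hmemW₃ _ (app_mem γ hy.2) ?_
      have h1 : Commute (app γ y) (app γ v) := by
        show app γ y * app γ v = app γ v * app γ y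
        rw [← app_mul γ hy.2 (hNM SD.memN), ← app_mul γ (hNM SD.memN) hy.2,
          (hW₃ab y hy v (hWW₃ hvW)).eq]
      have h2 : Commute (app γ y) (v ^ l ^ 2) := by
        have := h1.mul_right (hZcom _ _ A.onW).inv_right
        rwa [mul_inv_rev, inv_inv, mul_inv_cancel_left] at this
      have h3 : (v ^ 1)⁻¹ * v ^ (l ^ 2 * l' ^ 2) ∈ Z := pow_inv_mul_pow_mem SD.powW (by
        rw [Nat.cast_one, ← mul_pow, Nat.cast_pow, hll, one_pow])
      have h4 := (h2.pow_right (l' ^ 2)).mul_right (hZcom (app γ y) _ h3).inv_right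
      rwa [← pow_mul, mul_inv_rev, inv_inv, mul_inv_cancel_left, pow_one] at h4
    set L : ℕ → Subgroup M := fun i => if i = 0 then ⊥ else if i = 1 then Z.subgroupOf M
      else if i = 2 then W.subgroupOf M else if i = 3 then W₃.subgroupOf M else ⊤ with hL
    have hγL : ∀ i ≤ 4, ∀ g, g ∈ L i ↔ γ g ∈ L i := by
      intro i hi
      refine mem_iff_apply_mem γ fun g hg => ?_
      interval_cases i
      · simp only [L, ↓reduceIte, Subgroup.mem_bot] at hg ⊢
        rw [hg, map_one]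
      · simp only [L, one_ne_zero, ↓reduceIte, Subgroup.mem_subgroupOf] at hg ⊢
        rw [← app_coe]
        exact A.onH _ hg
      · simp only [L, OfNat.ofNat_ne_zero, OfNat.ofNat_ne_one, ↓reduceIte,
          Subgroup.mem_subgroupOf] at hg ⊢
        rw [← app_coe]
        exact hγW _ hg
      · simp only [L, OfNat.ofNat_ne_zero, OfNat.ofNat_ne_one, Nat.reduceEqDiff, ↓reduceIte,
          Subgroup.mem_subgroupOf] at hg ⊢
        rw [← app_coe]
        exact hγW₃ _ hg
      · exact Subgroup.mem_top _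
    have hinner : ∀ g : Subgroup.normalizer (M : Set G), World.cj M g ∈ chainStab L 4 := by
      intro g
      refine ⟨fun i hi y hy => ?_, fun i hi y hy => ?_⟩
      · interval_cases i
        · simp only [L, ↓reduceIte, Subgroup.mem_bot] at hy ⊢
          rw [hy, map_one]
        · simp only [L, one_ne_zero, ↓reduceIte, Subgroup.mem_subgroupOf] at hy ⊢
          exact (inferInstance : Z.Normal).conj_mem _ hy g
        · simp only [L, OfNat.ofNat_ne_zero, OfNat.ofNat_ne_one, ↓reduceIte,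
            Subgroup.mem_subgroupOf] at hy ⊢
          exact hWn.conj_mem _ hy g
        · simp only [L, OfNat.ofNat_ne_zero, OfNat.ofNat_ne_one, Nat.reduceEqDiff, ↓reduceIte,
            Subgroup.mem_subgroupOf] at hy ⊢
          exact (inferInstance : W₃.Normal).conj_mem _ hy g
        · exact Subgroup.mem_top _
      · interval_cases i
        · simp only [L, zero_add, one_ne_zero, ↓reduceIte, Subgroup.mem_bot,
            Subgroup.mem_subgroupOf] at hy ⊢
          rw [mul_inv_eq_one]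
          refine Subtype.ext ?_
          show (g : G) * (y : G) * (g : G)⁻¹ = y
          rw [(hZcom g _ hy).eq, mul_inv_cancel_right]
        · simp only [L, one_ne_zero, Nat.reduceAdd, OfNat.ofNat_ne_zero, OfNat.ofNat_ne_one,
            ↓reduceIte, Subgroup.mem_subgroupOf, Subgroup.coe_mul, Subgroup.coe_inv] at hy ⊢
          exact hWG g _ hy
        · simp only [L, Nat.reduceAdd, OfNat.ofNat_ne_zero, OfNat.ofNat_ne_one, Nat.reduceEqDiff,
            ↓reduceIte, Subgroup.mem_subgroupOf, Subgroup.coe_mul, Subgroup.coe_inv] at hy ⊢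
          exact hW₃G g _ hy
        · simp only [L, Nat.reduceAdd, OfNat.ofNat_ne_zero, OfNat.ofNat_ne_one, Nat.reduceEqDiff,
            ↓reduceIte, Subgroup.mem_subgroupOf, Subgroup.coe_mul, Subgroup.coe_inv] at hy ⊢
          exact commutator_mem_of_step hG (inf_le_right : W₃ ≤ M) (by rw [hW₃c, hcM]; ring) y.2 g
    have hfnM : w.FN M := w.fn_of_normal hMn
    obtain ⟨δ, -, hδ⟩ := w.extend_aut hfnM hγ fun g => by
      obtain ⟨h, hh⟩ := w.exists_cj_eq hfnM (K := w.aut M ⊓ chainStab L 4)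
        ((isPGroup_chainStab hcM (L := L) (n := 4) rfl rfl).to_le inf_le_right) inf_le_left
        (fun g => ⟨w.cj_mem M g, hinner g⟩) (α := γ * World.cj M g * γ⁻¹)
        ⟨(w.aut M).mul_mem ((w.aut M).mul_mem hγ (w.cj_mem M g)) ((w.aut M).inv_mem hγ),
          conj_mem_chainStab (hinner g) hγL⟩
      exact ⟨h, hh.symm⟩
    have hT : ∀ g : G, g ∈ Subgroup.normalizer (M : Set G) := fun g => by
      rw [Subgroup.normalizer_eq_top_iff.2 hMn]; exact Subgroup.mem_top g
    have hδγ : ∀ y ∈ M, app δ y = app γ y := fun y hy => by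
      rw [app_eq δ (hT y), app_eq γ hy]
      exact hδ ⟨y, hy⟩
    -- the weight of `r`
    obtain ⟨a, ha⟩ := exists_pow_mem (A := M) (B := ⊤) le_top
      (by rw [Subgroup.card_top, h5, hcM, pow_succ']) (Subgroup.mem_top r) hrM
      (Subgroup.mem_top (app δ r))
    obtain ⟨n, hn⟩ : ∃ n, (r ^ a)⁻¹ * app δ r = n := ⟨_, rfl⟩
    rw [hn] at ha
    have hdr : app δ r = r ^ a * n := by rw [← hn, mul_inv_cancel_left]
    have hnW₃ : n ∈ W₃ := by
      refine hmemW₃ n ha ?_
      have h1 : Commute (app δ r) (app δ v) := by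
        show app δ r * app δ v = app δ v * app δ r
        rw [← app_mul δ (hT r) (hT v), ← app_mul δ (hT v) (hT r), (hrv v hvW).eq]
      rw [hδγ v (hNM SD.memN)] at h1
      have h2 : Commute (app δ r) (v ^ l ^ 2) := by
        have := h1.mul_right (hZcom _ _ A.onW).inv_right
        rwa [mul_inv_rev, inv_inv, mul_inv_cancel_left] at this
      have h3 : (v ^ 1)⁻¹ * v ^ (l ^ 2 * l' ^ 2) ∈ Z := pow_inv_mul_pow_mem SD.powW (by
        rw [Nat.cast_one, ← mul_pow, Nat.cast_pow, hll, one_pow])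
      have h4 := (h2.pow_right (l' ^ 2)).mul_right (hZcom (app δ r) _ h3).inv_right
      rw [← pow_mul, mul_inv_rev, inv_inv, mul_inv_cancel_left, pow_one] at h4
      rw [← hn]
      exact ((hrv v hvW).pow_left a).inv_left.mul_left h4
    -- the image of `s`
    obtain ⟨w', hw'⟩ : ∃ w', (s ^ l ^ 3)⁻¹ * app γ s = w' := ⟨_, rfl⟩
    have hds : app δ s = s ^ l ^ 3 * w' := by rw [hδγ s hsM, ← hw', mul_inv_cancel_left]
    have hw'W : w' ∈ W := by
      have hN' : w' ∈ N := hw' ▸ A.onS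
      have h3' : w' ∈ W₃ := hw' ▸ W₃.mul_mem (W₃.inv_mem (W₃.pow_mem hsW₃ _)) (hγW₃ s hsW₃)
      obtain ⟨i, j, hij⟩ := SD.decomp w' hN'
      have hR : v ^ j * ((x ^ i * v ^ j)⁻¹ * w') ∈ W :=
        W.mul_mem (W.pow_mem hvW j) ((le_sup_left : Z ≤ W) hij)
      have hxi : x ^ i ∈ W₃ := by
        have := W₃.mul_mem h3' (W₃.inv_mem (hWW₃ hR))
        rwa [show w' * (v ^ j * ((x ^ i * v ^ j)⁻¹ * w'))⁻¹ = x ^ i by group] at this
      have hx0 : x ^ i = 1 := by
        by_contra h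
        exact hxK (mem_of_pow_mem C.xp h hxi.1)
      rw [hx0, one_mul] at hR
      rwa [mul_inv_cancel_left] at hR
    set qW := QuotientGroup.mk' W
    have hqW : ∀ g, ∀ y ∈ W₃, Commute (qW g) (qW y) := fun g y hy =>
      commutatorElement_eq_one_iff_mul_comm.1
        (by rw [← map_commutatorElement]; exact (QuotientGroup.eq_one_iff _).2 (hW₃G g y hy))
    have hbr : ⁅qW x, qW r⁆ = qW s := by rw [← map_commutatorElement]
    have hqs1 : qW s ≠ 1 := fun h => hsW ((QuotientGroup.eq_one_iff _).1 h)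
    have hqsp : qW s ^ p = 1 := by
      have h := comm_pow' hbr (hqW x s hsW₃).symm (hqW r s hsW₃).symm p 1
      rw [← map_pow qW x, C.xp, map_one, commutatorElement_one_left, mul_one] at h
      exact h.symm
    have hal : (a : ZMod p) = (l : ZMod p) ^ 4 := by
      have h1 : qW (app δ s) = qW s ^ l ^ 3 := by
        rw [hds, map_mul, (QuotientGroup.eq_one_iff w').2 hw'W |> fun e => (e : qW w' = 1), mul_one,
          map_pow]
      rw [hs, app_comm δ (hT x) (hT r), hdr, hδγ x (hNM hxN), A.onX, ← hs, map_commutatorElement,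
        map_mul, map_pow, map_pow] at h1
      have k1 : Commute (qW x ^ l') (qW n) := by rw [← map_pow]; exact hqW _ n hnW₃
      rw [show ⁅qW x ^ l', qW r ^ a * qW n⁆ = ⁅qW x ^ l', qW r ^ a⁆ *
          (qW r ^ a * ⁅qW x ^ l', qW n⁆ * (qW r ^ a)⁻¹) by
          simp only [commutatorElement_def]; group,
        commutatorElement_eq_one_iff_mul_comm.2 k1.eq, mul_one, mul_inv_cancel, mul_one,
        comm_pow' hbr (hqW x s hsW₃).symm (hqW r s hsW₃).symm] at h1
      have h2 := (pow_eq_pow_iff hqsp hqs1 _ _).1 h1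
      push_cast at h2 hll
      linear_combination (l : ZMod p) * h2 - (a : ZMod p) * hll
    have hdu : app δ u = u ^ (a * l ^ 3) := by
      rw [hu, app_comm δ (hT r) (hT s), hdr, hds, ← hu]
      have k1 : Commute n (s ^ l ^ 3 * w') :=
        hW₃ab n hnW₃ _ (W₃.mul_mem (W₃.pow_mem hsW₃ _) (hWW₃ hw'W))
      have k2 : Commute (r ^ a) w' := (hrv w' hw'W).pow_left a
      rw [show ⁅r ^ a * n, s ^ l ^ 3 * w'⁆ = r ^ a * ⁅n, s ^ l ^ 3 * w'⁆ * (r ^ a)⁻¹ *
          (⁅r ^ a, s ^ l ^ 3⁆ * (s ^ l ^ 3 * ⁅r ^ a, w'⁆ * (s ^ l ^ 3)⁻¹)) by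
          simp only [commutatorElement_def]; group,
        commutatorElement_eq_one_iff_mul_comm.2 k1.eq, mul_one, mul_inv_cancel, one_mul,
        commutatorElement_eq_one_iff_mul_comm.2 k2.eq, mul_one, mul_inv_cancel, mul_one,
        comm_pow' hu.symm (hrv u huW).symm (hW₃ab u (hWW₃ huW) s hsW₃)]
    constructor
    · have h1 : q (app δ u) = (q v ^ l ^ 2) ^ m := by
        rw [hδγ u (hNM (hWN huW))]
        have h0 : u = v ^ m * ((v ^ m)⁻¹ * u) := (mul_inv_cancel_left _ _).symm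
        rw [h0, app_mul γ (M.pow_mem (hNM SD.memN) m) (hNM (hZN hm)), app_pow γ (hNM SD.memN),
          map_mul, (hq1 _).2 (A.onH _ hm), mul_one, map_pow]
        congr 1
        rw [← map_pow]
        exact (QuotientGroup.eq.2 A.onW).symm
      rw [hdu, map_pow, hqu, ← pow_mul, ← pow_mul] at h1
      have h2 := (pow_eq_pow_iff hvpq hqv1 _ _).1 h1
      push_cast at h2
      linear_combination h2 - (m : ZMod p) * (l : ZMod p) ^ 3 * hal
    · intro k hk
      have hdz : app δ z = z ^ l := by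
        obtain ⟨i, hi⟩ := mem_powers_iff_mem_zpowers.2 (hcZ.symm ▸ hzZ : z ∈ Subgroup.zpowers c)
        change c ^ i = z at hi
        rw [← hi, app_pow δ (hT c), hδγ c (hNM (hZN C.cH)), A.onC, ← pow_mul, ← pow_mul, mul_comm]
      rw [hk, app_pow δ (hT z), hdz, ← pow_mul, ← pow_mul] at hdu
      have h2 := (pow_eq_pow_iff hzp hz1 _ _).1 hdu
      push_cast at h2
      linear_combination -h2 - (k : ZMod p) * (l : ZMod p) ^ 3 * hal
  have hm0 : (m : ZMod p) = 0 := by
    obtain ⟨l, hl, hl5⟩ := exists_fifth_ne_one (p := p) hp2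
    have h := (htor l hl).1
    by_contra hm0
    refine hl5 (mul_right_cancel₀ (mul_ne_zero (pow_ne_zero 2 hl) hm0) ?_)
    linear_combination h
  obtain ⟨k, hk⟩ : ∃ k : ℕ, z ^ k = u := by
    refine mem_powers_iff_mem_zpowers.2 ?_
    rw [hzZ', ← hq1, hqu, show q v ^ m = q v ^ 0 from
      (pow_eq_pow_iff hvpq hqv1 m 0).2 (by rw [hm0, Nat.cast_zero]), pow_zero]
  have hkne : (k : ZMod p) ≠ 0 := by
    intro hk0
    have hrs : Commute r s := commutatorElement_eq_one_iff_mul_comm.1 (by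
      rw [← hu, ← hk, (pow_eq_pow_iff hzp hz1 k 0).2 (by rw [hk0, Nat.cast_zero]), pow_zero])
    refine false_of_central_big hno hKc (inf_le_left : W₃ ≤ χ.ker) hW₃c.ge fun a ha b hb => ?_
    obtain ⟨i, hi⟩ := exists_pow_mem' (A := W₃) (B := χ.ker) inf_le_left
      (le_top.trans (Subgroup.normalizer_eq_top_iff.2 inferInstance).ge)
      (by rw [hKc, hW₃c]; ring) hrK hrW₃ ha
    obtain ⟨j, hj⟩ := hW₃rep b hb
    have h1 : Commute r b := by
      have := (hrs.pow_right j).mul_right (hrv _ hj)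
      rwa [mul_inv_cancel_left] at this
    have := (h1.pow_left i).mul_left (hW₃ab _ hi b hb)
    rwa [mul_inv_cancel_left] at this
  have hp3 : p = 3 := by
    by_contra hp3
    have h := (htor 2 (natCast_ne_zero_of_lt two_pos
      (lt_of_le_of_ne hp.out.two_le (Ne.symm hp2)))).2 k hk.symm
    have h2 : ((2 : ℕ) : ZMod p) * (((3 : ℕ) : ZMod p) * ((3 : ℕ) : ZMod p) *
        ((7 : ℕ) : ZMod p)) * k = 0 := by
      push_cast at h ⊢
      linear_combination h
    have hne : ∀ q : ℕ, q.Prime → p ≠ q → (q : ZMod p) ≠ 0 := fun q hq hne h =>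
      hne ((Nat.prime_dvd_prime_iff_eq hp.out hq).1 ((ZMod.natCast_eq_zero_iff q p).1 h))
    exact (mul_ne_zero (mul_ne_zero (hne 2 Nat.prime_two hp2)
      (mul_ne_zero (mul_ne_zero (hne 3 Nat.prime_three hp3) (hne 3 Nat.prime_three hp3))
        (hne 7 (by norm_num) hp7))) hkne) h2
  exact ⟨hp3, M, W₃, W, x, r, s, v, z, k,
    { hs := rfl
      hv := rfl
      hz := rfl
      z1 := hz1
      zp := hzp
      cen := hzZ'.symm
      xp := C.xp
      normM := hMn
      normW₃ := inferInstance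
      normW := hWn
      cardM := hcM
      cardW₃ := hW₃c
      cardW := hWc
      leW := hWW₃
      leM := inf_le_right
      xM := hNM hxN
      xW₃ := hxW₃
      sW₃ := hsW₃
      sW := hsW
      vW := hvW
      vZ := fun h => hvZ (hzZ' ▸ h)
      zW := (le_sup_left : Z ≤ W) hzZ
      rM := hrM
      abW₃ := hW₃ab
      rW := hrv
      memW₃ := hmemW₃
      stepW := fun g y hy => hzZ'.symm ▸ hWG g y hy
      stepW₃ := hW₃G
      kne := hkne
      hk := hk.symm }⟩

end H62.PFive
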