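import Cfsg.Agent.H62.PFive.Cases

/-!
Transvections on an abelian group.
-/

set_option autoImplicit false
set_option linter.unusedSectionVars false
set_option linter.style.haveILetI false

namespace H62.PFive

universe u

variable {G : Type u} [Group G] [Finite G] {p : ℕ} [hp : Fact p.Prime] {E : Subgroup G}

/-- A transvection with centre `⟨c⟩` and axis `H`. -/
structure Tr (p : ℕ) (t : MulAut E) (c : E) (H : Subgroup E) : Prop where
  fix : ∀ h ∈ H, t h = h
  shift : ∀ e, ∃ j : ℕ, t e = e * c ^ j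
  mem : c ∈ H
  ne : c ≠ 1
  pow : c ^ p = 1
  idx : Nat.card E = p * Nat.card H
  moves : ∃ e, t e ≠ e

theorem zpowers_eq_of_mem {A : Type*} [Group A] [Finite A] {a b : A} (ha : a ^ p = 1) (hb : b ≠ 1)
    (h : b ∈ Subgroup.zpowers a) : Subgroup.zpowers b = Subgroup.zpowers a := by
  refine Subgroup.eq_of_le_of_card_ge (Subgroup.zpowers_le.2 h) ?_
  obtain ⟨k, hk⟩ := Subgroup.mem_zpowers_iff.1 h
  have hbp : b ^ p = 1 := by
    rw [← hk, ← zpow_natCast, ← zpow_mul, mul_comm, zpow_mul, zpow_natCast, ha, one_zpow]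
  rw [Nat.card_zpowers, Nat.card_zpowers, orderOf_eq_prime hbp hb]
  exact Nat.le_of_dvd hp.out.pos (orderOf_dvd_of_pow_eq_one ha)

variable {t : MulAut E} {c : E} {H : Subgroup E}

theorem Tr.fixed_mem (hc : ∀ a b : E, a * b = b * a) (h : Tr p t c H) {e : E} (he : t e = e) :
    e ∈ H := by
  by_contra heH
  haveI : H.Normal := ⟨fun a ha g => by rwa [hc g a, mul_inv_cancel_right]⟩
  obtain ⟨x, hx⟩ := h.moves
  obtain ⟨k, hk⟩ := exists_pow_mem (A := H) (B := ⊤) le_top (by rw [Subgroup.card_top, h.idx])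
    (Subgroup.mem_top e) heH (Subgroup.mem_top x)
  have h1 := h.fix _ hk
  rw [map_mul, map_inv, map_pow, he] at h1
  exact hx (mul_left_cancel h1)

theorem Tr.conj (h : Tr p t c H) (β : MulAut E) :
    Tr p (β * t * β⁻¹) (β c) (H.map β.toMonoidHom) where
  fix := by
    rintro _ ⟨x, hx, rfl⟩
    show β (t (β⁻¹ (β x))) = β x
    rw [MulAut.inv_apply_self, h.fix x hx]
  shift e := by
    obtain ⟨j, hj⟩ := h.shift (β⁻¹ e)
    refine ⟨j, ?_⟩
    show β (t (β⁻¹ e)) = _
    rw [hj, map_mul, map_pow, MulAut.apply_inv_self]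
  mem := ⟨c, h.mem, rfl⟩
  ne := fun h1 => h.ne (β.injective (h1.trans (map_one β).symm))
  pow := by rw [← map_pow, h.pow, map_one]
  idx := by rw [Subgroup.card_map_of_injective β.injective]; exact h.idx
  moves := by
    obtain ⟨e, he⟩ := h.moves
    refine ⟨β e, fun h1 => he (β.injective ?_)⟩
    have : β (t (β⁻¹ (β e))) = β e := h1
    rwa [MulAut.inv_apply_self] at this

theorem Tr.axis_eq (hc : ∀ a b : E, a * b = b * a) (h : Tr p t c H) {H' : Subgroup E} {c' : E}
    (h' : Tr p t c' H') : H = H' :=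
  le_antisymm (fun _ he => h'.fixed_mem hc (h.fix _ he)) fun _ he => h.fixed_mem hc (h'.fix _ he)

theorem Tr.centre_eq (h : Tr p t c H) {c' : E} (hp' : c' ^ p = 1)
    (hs : ∀ e, ∃ j : ℕ, t e = e * c' ^ j) : Subgroup.zpowers c = Subgroup.zpowers c' := by
  obtain ⟨e, he⟩ := h.moves
  obtain ⟨i, hi⟩ := h.shift e
  obtain ⟨j, hj⟩ := hs e
  have hij : c ^ i = c' ^ j := mul_left_cancel (hi.symm.trans hj)
  have hne : c ^ i ≠ 1 := fun h1 => he (by rw [hi, h1, mul_one])
  rw [← zpowers_eq_of_mem h.pow hne (pow_mem (Subgroup.mem_zpowers c) i),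
    zpowers_eq_of_mem hp' hne (hij ▸ pow_mem (Subgroup.mem_zpowers c') j)]

theorem Tr.centre_mem_map {β : MulAut E} {H' : Subgroup E} (he : c ∈ H') :
    β c ∈ H'.map β.toMonoidHom := ⟨c, he, rfl⟩

/-- Two transvections with incident centre and axis generate a `p`-group. -/
theorem Tr.isPGroup_pair (hc : ∀ a b : E, a * b = b * a) {m : ℕ} (hm : Nat.card E = p ^ m)
    (h : Tr p t c H) {t' : MulAut E} {c' : E} {H' : Subgroup E} (h' : Tr p t' c' H')
    (hinc : c' ∈ H) : IsPGroup p (Subgroup.closure {t, t'}) := by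
  set L : ℕ → Subgroup E := fun i =>
    if i = 0 then ⊥ else if i = 1 then Subgroup.zpowers c'
    else if i = 2 then Subgroup.zpowers c' ⊔ Subgroup.zpowers c else ⊤
  refine (isPGroup_chainStab hm (L := L) (n := 3) rfl rfl).to_le ((Subgroup.closure_le _).2 ?_)
  have key : ∀ (u : MulAut E) (d : E), (u c' = c') →
      (∀ e, ∃ j : ℕ, u e = e * d ^ j) → (d = c ∨ d = c') → (d = c → u c = c) →
      u ∈ chainStab L 3 := by
    intro u d hu hd hdd hcd
    have hdiff : ∀ e, u e * e⁻¹ ∈ Subgroup.zpowers d := fun e => by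
      obtain ⟨j, hj⟩ := hd e
      rw [hj, hc e, mul_inv_cancel_right]
      exact pow_mem (Subgroup.mem_zpowers d) j
    have hd2 : Subgroup.zpowers d ≤ Subgroup.zpowers c' ⊔ Subgroup.zpowers c := by
      rcases hdd with rfl | rfl
      · exact le_sup_right
      · exact le_sup_left
    have hmap : ∀ (e : E) (A : Subgroup E), Subgroup.zpowers d ≤ A → e ∈ A → u e ∈ A :=
      fun e A hA he => by simpa using A.mul_mem (hA (hdiff e)) he
    have hfix1 : ∀ g ∈ Subgroup.zpowers c', u g = g := by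
      intro g hg
      obtain ⟨k, rfl⟩ := Subgroup.mem_zpowers_iff.1 hg
      rw [map_zpow, hu]
    refine ⟨fun i hi g hg => ?_, fun i hi g hg => ?_⟩
    · interval_cases i
      · simp only [L, ↓reduceIte, Subgroup.mem_bot] at hg ⊢
        rw [hg, map_one]
      · simp only [L, one_ne_zero, ↓reduceIte] at hg ⊢
        rwa [hfix1 g hg]
      · simp only [L, OfNat.ofNat_ne_zero, OfNat.ofNat_ne_one, ↓reduceIte] at hg ⊢
        exact hmap g _ hd2 hg
      · exact Subgroup.mem_top _
    · interval_cases i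
      · simp only [L, zero_add, one_ne_zero, ↓reduceIte, Subgroup.mem_bot] at hg ⊢
        rw [hfix1 g hg, mul_inv_cancel]
      · simp only [L, one_ne_zero, Nat.reduceAdd, OfNat.ofNat_ne_zero, OfNat.ofNat_ne_one,
          ↓reduceIte] at hg ⊢
        rcases hdd with rfl | rfl
        · have hle : Subgroup.zpowers c' ⊔ Subgroup.zpowers d ≤
              (u.toMonoidHom).eqLocus (MonoidHom.id E) :=
            sup_le (Subgroup.zpowers_le.2 hu) (Subgroup.zpowers_le.2 (hcd rfl))
          have hg1 : u g = g := hle hg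
          rw [hg1, mul_inv_cancel]
          exact one_mem _
        · exact hdiff g
      · simp only [L, OfNat.ofNat_ne_zero, OfNat.ofNat_ne_one, ↓reduceIte] at hg ⊢
        exact hd2 (hdiff g)
  rintro u (rfl | rfl)
  · exact key _ c (h.fix c' hinc) h.shift (Or.inl rfl) fun _ => h.fix c h.mem
  · exact key _ c' (h'.fix c' h'.mem) h'.shift (Or.inr rfl) fun h1 => h1 ▸ h'.fix c' h'.mem

variable {w : World G p}

/-- A `p`-group of automorphisms is conjugate to a group of inner ones. -/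
theorem exists_conj_cj (hG : IsPGroup p G) {R : Subgroup G} (hR : w.FN R)
    {K : Subgroup (MulAut R)} (hK : K ≤ w.aut R) (hKp : IsPGroup p K) :
    ∃ β ∈ w.aut R, ∀ k ∈ K, ∃ g, World.cj R g = β * k * β⁻¹ := by
  set A := w.aut R
  haveI : Finite (MulAut R) := Finite.of_injective _ DFunLike.coe_injective
  have hI : (World.cj R).range ≤ A := by
    rintro _ ⟨g, rfl⟩
    exact w.cj_mem R g
  let P : Sylow p A :=
    { toSubgroup := (World.cj R).range.subgroupOf A
      isPGroup' := (isPGroup_cj hG R).of_equiv (Subgroup.subgroupOfEquivOfLe hI).symm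
      is_maximal' := fun {Q} hQ hle => by
        refine le_antisymm (fun q hq => ?_) hle
        obtain ⟨g, hg⟩ := w.exists_cj_eq hR (hQ.map A.subtype) (Subgroup.map_subtype_le Q)
          (fun g => ⟨⟨_, w.cj_mem R g⟩, hle ⟨g, rfl⟩, rfl⟩) (Subgroup.mem_map_of_mem A.subtype hq)
        exact ⟨g, hg⟩ }
  obtain ⟨Q, hQ⟩ := (hKp.of_equiv (Subgroup.subgroupOfEquivOfLe hK).symm).exists_le_sylow
  obtain ⟨β, hβ⟩ := MulAction.exists_smul_eq A Q P
  refine ⟨β, β.2, fun k hk => ?_⟩
  have h1 : (⟨k, hK hk⟩ : A) ∈ Q := hQ hk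
  have h2 : MulAut.conj β ⟨k, hK hk⟩ ∈ (P : Subgroup A) := by
    rw [← hβ, Sylow.coe_subgroup_smul]
    exact Subgroup.smul_mem_pointwise_smul _ _ _ h1
  obtain ⟨g, hg⟩ := h2
  exact ⟨g, hg⟩

end H62.PFive
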