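import Cfsg.Agent.H62.PFive.Conf
import Cfsg.Agent.H62.PFive.Transvection

/-!
One step above the normaliser of the essential subgroup.
-/

set_option autoImplicit false
set_option linter.unusedSectionVars false
set_option linter.style.haveILetI false

open scoped commutatorElement

namespace H62.PFive

universe u

variable {G : Type u} [Group G] [Finite G] {p : ℕ} [hp : Fact p.Prime] {w : World G p}
  {E H D : Subgroup G} {x c : G}

theorem Conf.step (hG : IsPGroup p G) (C : Conf w E H D x c) {s : G}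
    (hs : s ∈ Subgroup.normalizer (Subgroup.normalizer (E : Set G) : Set G))
    (hsN : s ∉ Subgroup.normalizer (E : Set G)) : StepData w E H D x c s := by
  haveI := C.normH
  set N := Subgroup.normalizer (E : Set G) with hNdef
  set M := Subgroup.normalizer (N : Set G) with hMdef
  have hEN : E ≤ N := Subgroup.le_normalizer
  have hNM : N ≤ M := Subgroup.le_normalizer
  have hHN : H ≤ N := C.hle.trans hEN
  have hxN : x ∈ N := hEN C.xE
  have hcN : c ∈ N := hHN C.cH
  have hp2 := hp.out.two_le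
  have hMH : ∀ K : Subgroup G, K ≤ Subgroup.normalizer (H : Set G) := fun K => by
    rw [Subgroup.normalizer_eq_top_iff.2 C.normH]; exact le_top
  have hpos : ∀ K : Subgroup G, 0 < Nat.card K := fun K => Nat.card_pos
  have hne : H ≠ N := fun h => C.xH (h ▸ hxN)
  obtain ⟨W, hHW, hWN, hWc, hMW, hWH⟩ :=
    exists_step_in hG (M := M) hHN hNM (hMH M) le_rfl hne
  have hNW : N ≤ Subgroup.normalizer (W : Set G) := hNM.trans hMW
  have hWE : Nat.card W = Nat.card E := by rw [hWc, C.idx]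
  have hMN : ¬ M ≤ N := fun h => hsN (h hs)
  have hWneE : W ≠ E := fun h => hMN (by rw [hNdef, ← h]; exact hMW)
  have hxW : x ∉ W := by
    intro h
    refine hWneE (Subgroup.eq_of_le_of_card_ge ?_ hWE.le).symm
    intro e he
    obtain ⟨k, hk⟩ := exists_pow_mem C.hle C.idx C.xE C.xH he
    simpa using W.mul_mem (W.pow_mem h k) (hHW hk)
  have hWinf : ∀ y, y ∈ W → y ∈ E → y ∈ H := by
    intro y hyW hyE
    by_contra hyH
    obtain ⟨k, hk⟩ := exists_pow_mem C.hle C.idx hyE hyH C.xE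
    exact hxW (by simpa using W.mul_mem (W.pow_mem hyW k) (hHW hk))
  have hstepN : ∀ m ∈ M, ∀ n ∈ N, ⁅m, n⁆ ∈ W := fun m hm n hn =>
    commutator_mem_of_step' hG hWN hNM hMW le_rfl (by rw [C.cardN, hWE]) hn hm
  set v := ⁅s, x⁆ with hvdef
  have hvW : v ∈ W := hstepN s hs x hxN
  have hvN : v ∈ N := hWN hvW
  have hvH : v ∉ H := by
    intro h
    refine hsN (H85.mem_normalizer_of_conj fun y hy => ?_)
    obtain ⟨k, hk⟩ := exists_pow_mem C.hle C.idx C.xE C.xH hy
    have h1 : s * x * s⁻¹ ∈ E := by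
      have := E.mul_mem (C.hle h) C.xE
      rwa [hvdef, commutatorElement_def, inv_mul_cancel_right] at this
    have h2 := E.mul_mem (E.pow_mem h1 k) (C.hle (C.normH.conj_mem _ hk s))
    rw [conj_pow] at h2
    convert h2 using 1
    group
  have hvE : v ∉ E := fun h => hvH (hWinf v hvW h)
  set q := QuotientGroup.mk' H with hqdef
  have hqH : ∀ y, q y = 1 ↔ y ∈ H := fun y => QuotientGroup.eq_one_iff y
  have hqcomm : ∀ m ∈ M, ∀ y ∈ W, Commute (q m) (q y) := fun m hm y hy =>
    commutatorElement_eq_one_iff_mul_comm.1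
      (by rw [← map_commutatorElement]; exact (hqH _).2 (hWH m hm y hy))
  have hqs : Commute (q v) (q s) := (hqcomm s hs v hvW).symm
  have hqx : Commute (q v) (q x) := (hqcomm x (hNM hxN) v hvW).symm
  have hbr : ⁅q s, q x⁆ = q v := by rw [← map_commutatorElement]
  have hvp : v ^ p ∈ H := by
    rw [← hqH, map_pow]
    have h := comm_pow' hbr hqs hqx 1 p
    rw [pow_one, one_mul, ← map_pow q x, C.xp, map_one, commutatorElement_one_right] at h
    exact h.symm
  have hcardM : Nat.card M = p * Nat.card N := C.cardM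
  have hsp : s ^ p ∈ N := by
    haveI : (N.subgroupOf M).Normal :=
      (Subgroup.normal_subgroupOf_iff_le_normalizer hNM).2 le_rfl
    have hq : Nat.card (M ⧸ N.subgroupOf M) = p := by
      have h := Subgroup.card_eq_card_quotient_mul_card_subgroup (N.subgroupOf M)
      rw [card_subgroupOf_eq hNM, hcardM] at h
      exact (Nat.eq_of_mul_eq_mul_right Nat.card_pos h).symm
    have h := pow_card_eq_one' (G := M ⧸ N.subgroupOf M)
      (x := QuotientGroup.mk (⟨s, hs⟩ : M))
    rw [hq, ← QuotientGroup.mk_pow, QuotientGroup.eq_one_iff] at h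
    exact Subgroup.mem_subgroupOf.1 h
  have hdecomp : ∀ n ∈ N, ∃ i j : ℕ, (x ^ i * v ^ j)⁻¹ * n ∈ H := by
    intro n hn
    obtain ⟨i, hi⟩ := exists_pow_mem' hWN hNW (by rw [C.cardN, hWE]) hxN hxW hn
    obtain ⟨j, hj⟩ := exists_pow_mem' hHW (hMH W) hWc hvW hvH hi
    exact ⟨i, j, by rwa [mul_inv_rev, mul_assoc]⟩
  set c₀ := ⁅v, x⁆ with hc₀def
  have hc₀1 : c₀ ≠ 1 := by
    intro h
    refine hvE (C.cent (Subgroup.mem_centralizer_iff.2 fun y hy => ?_))
    obtain ⟨k, hk⟩ := exists_pow_mem C.hle C.idx C.xE C.xH hy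
    have h1 : Commute v x := commutatorElement_eq_one_iff_mul_comm.1 h
    have h2 : Commute v ((x ^ k)⁻¹ * y) := C.central v hvN _ hk
    have := (h1.pow_right k).mul_right h2
    rw [mul_inv_cancel_left] at this
    exact this.eq.symm
  have hc₀ : c₀ ∈ Subgroup.zpowers c := C.shift v hvN
  have hc₀H : c₀ ∈ H := (Subgroup.zpowers_le.2 C.cH) hc₀
  have hzc : Subgroup.zpowers c₀ = Subgroup.zpowers c := zpowers_eq_of_mem C.cp hc₀1 hc₀
  have hcomm0 : ∀ y ∈ N, ∀ h ∈ H, Commute y h := C.central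
  have hWab : ∀ y ∈ W, Commute v y := by
    intro y hy
    obtain ⟨j, hj⟩ := exists_pow_mem' hHW (hMH W) hWc hvW hvH hy
    have := ((Commute.refl v).pow_right j).mul_right (hcomm0 v hvN _ hj)
    rwa [mul_inv_cancel_left] at this
  have hfix₀ : ∀ m ∈ M, m * c₀ * m⁻¹ = c₀ := by
    intro m hm
    set h := ⁅m, v⁆ with hh
    have hhH : h ∈ H := hWH m hm v hvW
    set y := ⁅m, x⁆ with hy
    have hyW : y ∈ W := hstepN m hm x hxN
    have e1 : m * v * m⁻¹ = h * v := by rw [hh, commutatorElement_def, inv_mul_cancel_right]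
    have e2 : m * x * m⁻¹ = y * x := by rw [hy, commutatorElement_def, inv_mul_cancel_right]
    have hch : Commute (y * x) h := hcomm0 _ (N.mul_mem (hWN hyW) hxN) h hhH
    have h1 : Commute y c₀ := hcomm0 y (hWN hyW) c₀ hc₀H
    have h1' : Commute h c₀ := hcomm0 h (hHN hhH) c₀ hc₀H
    calc m * c₀ * m⁻¹ = ⁅m * v * m⁻¹, m * x * m⁻¹⁆ := by
          simp only [hc₀def, commutatorElement_def]; group
      _ = ⁅h * v, y * x⁆ := by rw [e1, e2]
      _ = h * ⁅v, y * x⁆ * h⁻¹ * ⁅h, y * x⁆ := by simp only [commutatorElement_def]; group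
      _ = h * (⁅v, y⁆ * (y * c₀ * y⁻¹)) * h⁻¹ := by
          rw [commutatorElement_eq_one_iff_mul_comm.2 hch.symm.eq, mul_one]
          simp only [hc₀def, commutatorElement_def]; group
      _ = c₀ := by
          rw [commutatorElement_eq_one_iff_mul_comm.2 (hWab y hyW).eq, one_mul, h1.eq,
            mul_inv_cancel_right, h1'.eq, mul_inv_cancel_right]
  have hfixc : ∀ m ∈ M, m * c = c * m := by
    intro m hm
    obtain ⟨k, hk⟩ := Subgroup.mem_zpowers_iff.1 (hzc.symm ▸ Subgroup.mem_zpowers c)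
    rw [← hk]
    exact ((show Commute m c₀ from mul_inv_eq_iff_eq_mul.1 (hfix₀ m hm))).zpow_right k
  have hMc : M ≤ Subgroup.normalizer (Subgroup.zpowers c : Set G) := fun m hm =>
    H85.mem_normalizer_of_conj fun y hy => by
      obtain ⟨k, rfl⟩ := Subgroup.mem_zpowers_iff.1 hy
      rw [← conj_zpow, hfixc m hm, mul_inv_cancel_right]
      exact zpow_mem (Subgroup.mem_zpowers c) k
  have hcH : Subgroup.zpowers c ≤ H := Subgroup.zpowers_le.2 C.cH
  have hstepH : ∀ m ∈ M, ∀ h ∈ H, ⁅m, h⁆ ∈ Subgroup.zpowers c := by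
    intro m hm h hh
    have hcc : Nat.card (Subgroup.zpowers c) = p := by
      rw [Nat.card_zpowers, orderOf_eq_prime C.cp C.c1]
    obtain ⟨j, hj⟩ := IsPGroup.iff_card.1 (hG.to_subgroup H)
    have hj2 : j ≤ 2 := (Nat.pow_le_pow_iff_right hp.out.one_lt).1 (hj ▸ C.cardH)
    rcases (show j ≤ 1 ∨ j = 2 by omega) with h1 | h1
    · have : H = Subgroup.zpowers c := (Subgroup.eq_of_le_of_card_ge hcH (by
        rw [hj, hcc]; exact (Nat.pow_le_pow_right hp.out.pos h1).trans (pow_one p).le)).symm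
      rw [← this, commutatorElement_def]
      exact H.mul_mem (C.normH.conj_mem h hh m) (H.inv_mem hh)
    · exact commutator_mem_of_step' hG hcH (hHN.trans hNM) hMc (hMH M)
        (by rw [hj, h1, hcc, sq]) hh hm
  refine ⟨hvN, hvE, hvp, hsp, hc₀1, hfixc, hstepH, fun m hm => hWH m hm v hvW, hdecomp,
    fun l l' hll => ?_⟩
  obtain ⟨β, hβ, hβc, hβx, hβd, hβH⟩ := C.torus l l' hll
  -- `β` keeps `W`
  have hβW : ∀ y ∈ W, app β y ∈ W := by
    by_contra hcon
    push Not at hcon
    obtain ⟨y₀, hy₀, hy₀W⟩ := hcon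
    set L : Subgroup G := ((W.subgroupOf N).map β.toMonoidHom).map N.subtype with hL
    have hmemL : ∀ u ∈ W, app β u ∈ L := fun u hu => by
      rw [app_eq β (hWN hu)]
      exact ⟨_, ⟨⟨u, hWN hu⟩, hu, rfl⟩, rfl⟩
    have hLN : L ≤ N := Subgroup.map_subtype_le _
    have hLc : Nat.card L = Nat.card W := by
      rw [hL, Subgroup.card_map_of_injective N.subtype_injective,
        Subgroup.card_map_of_injective β.injective, card_subgroupOf_eq hWN]
    have hHL : H ≤ L := by
      intro h hh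
      have hsurj : (H.subgroupOf N).map β.toMonoidHom = H.subgroupOf N := by
        refine Subgroup.eq_of_le_of_card_ge ?_ (by rw [Subgroup.card_map_of_injective β.injective])
        rintro _ ⟨u, hu, rfl⟩
        have := hβH u hu
        rwa [app_coe] at this
      obtain ⟨u, hu, hu'⟩ : (⟨h, hHN hh⟩ : N) ∈ (H.subgroupOf N).map β.toMonoidHom := by
        rw [hsurj]; exact hh
      exact ⟨_, ⟨u, hHW hu, rfl⟩, congrArg Subtype.val hu'⟩
    set y := app β y₀ with hy
    have hyN : y ∈ N := app_mem β (hWN hy₀)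
    obtain ⟨i, j, hij⟩ := hdecomp y hyN
    have hxi : x ^ i ≠ 1 := fun h => hy₀W (by
      rw [h, one_mul] at hij
      have := W.mul_mem (W.pow_mem hvW j) (hHW hij)
      rwa [mul_inv_cancel_left] at this)
    obtain ⟨n, hn⟩ : ∃ n : ℕ, (x ^ i) ^ n = x := by
      refine mem_powers_iff_mem_zpowers.2 ?_
      rw [zpowers_eq_of_mem C.xp hxi (pow_mem (Subgroup.mem_zpowers x) i)]
      exact Subgroup.mem_zpowers x
    have hqy : q y = q x ^ i * q v ^ j := by
      rw [← map_pow, ← map_pow, ← map_mul]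
      exact (QuotientGroup.eq.2 hij).symm
    set g := s ^ (j * n) with hg
    have hqg : q (g * x * g⁻¹) = q (y ^ n) := by
      have h1 := comm_pow' hbr hqs hqx (j * n) 1
      rw [pow_one, mul_one, commutatorElement_def] at h1
      have h2 : q s ^ (j * n) * q x * (q s ^ (j * n))⁻¹ = q v ^ (j * n) * q x := by
        rw [← h1, inv_mul_cancel_right]
      rw [hg, map_mul, map_mul, map_inv, map_pow, map_pow q y, h2, hqy,
        (hqx.symm.pow_pow i j).mul_pow, ← map_pow q x i, ← map_pow q (x ^ i) n, hn, ← pow_mul,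
        (hqx.pow_left _).eq]
    have hgx : g * x * g⁻¹ ∈ L := by
      have h1 : (y ^ n)⁻¹ * (g * x * g⁻¹) ∈ H := QuotientGroup.eq.1 hqg.symm
      have h2 := L.mul_mem (L.pow_mem (hmemL y₀ hy₀) n) (hHL h1)
      rwa [← hy, mul_inv_cancel_left] at h2
    have hgE : ∀ e ∈ E, g * e * g⁻¹ ∈ L := by
      intro e he
      obtain ⟨k, hk⟩ := exists_pow_mem C.hle C.idx C.xE C.xH he
      have h2 := L.mul_mem (L.pow_mem hgx k) (hHL (C.normH.conj_mem _ hk g))
      rw [conj_pow] at h2
      convert h2 using 1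
      group
    have hEL : E.map (MulAut.conj g).toMonoidHom = L := Subgroup.eq_of_le_of_card_ge
      (by rintro _ ⟨e, he, rfl⟩; exact hgE e he)
      (by rw [hLc, hWE, Subgroup.card_map_of_injective (MulAut.conj g).injective])
    have h1 : w.Hom W ((N.subtype.comp β.toMonoidHom).comp (Subgroup.inclusion hWN)) := w.restr hβ hWN
    have h2 := w.comp h1 (w.conj N g⁻¹) (fun u => (β _).2)
    refine absurd (C.fn W _ h2 ?_) (not_le.2 ?_)
    · refine Subgroup.eq_of_le_of_card_ge ?_ ?_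
      · rintro _ ⟨u, rfl⟩
        have hu : ((β (Subgroup.inclusion hWN u) : N) : G) ∈ L :=
          ⟨_, ⟨Subgroup.inclusion hWN u, u.2, rfl⟩, rfl⟩
        rw [← hEL] at hu
        obtain ⟨e, he, heu⟩ := hu
        show g⁻¹ * ((β (Subgroup.inclusion hWN u) : N) : G) * g⁻¹⁻¹ ∈ E
        rw [← heu]
        show g⁻¹ * (g * e * g⁻¹) * g⁻¹⁻¹ ∈ E
        rw [show g⁻¹ * (g * e * g⁻¹) * g⁻¹⁻¹ = e by group]
        exact he
      · rw [← Nat.card_congr (MonoidHom.ofInjective (w.inj h2)).toEquiv, hWE]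
    · calc Nat.card N < p * Nat.card N := by
            have := hpos N
            nlinarith
        _ = Nat.card M := hcardM.symm
        _ ≤ _ := Nat.le_of_dvd Nat.card_pos (Subgroup.card_dvd_of_le hMW)
  -- the exponent on `v`
  obtain ⟨j, hj⟩ := exists_pow_mem' hHW (hMH W) hWc hvW hvH (hβW v hvW)
  have hjl : (j : ZMod p) = (l : ZMod p) ^ 2 := by
    have h1 : app β c₀ = c₀ ^ l := by
      obtain ⟨k, hk⟩ := mem_powers_iff_mem_zpowers.2 hc₀
      have hk' : c ^ k = c₀ := hk
      rw [← hk', app_pow β hcN, hβc, ← pow_mul, ← pow_mul, mul_comm]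
    rw [app_comm β hvN hxN, hβx] at h1
    set h := (v ^ j)⁻¹ * app β v with hh
    have hv' : app β v = v ^ j * h := (mul_inv_cancel_left _ _).symm
    have hch : Commute (x ^ l') h := hcomm0 _ (N.pow_mem hxN l') h hj
    rw [hv', show ⁅v ^ j * h, x ^ l'⁆ = v ^ j * ⁅h, x ^ l'⁆ * (v ^ j)⁻¹ * ⁅v ^ j, x ^ l'⁆ by
        simp only [commutatorElement_def]; group,
      commutatorElement_eq_one_iff_mul_comm.2 hch.symm.eq, mul_one, mul_inv_cancel, one_mul,
      comm_pow' rfl (hcomm0 v hvN c₀ hc₀H).symm (hcomm0 x hxN c₀ hc₀H).symm] at h1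
    have hc₀p : c₀ ^ p = 1 := by
      obtain ⟨k, hk⟩ := mem_powers_iff_mem_zpowers.2 hc₀
      rw [← (show c ^ k = c₀ from hk), ← pow_mul, mul_comm, pow_mul, C.cp, one_pow]
    have h2 := (pow_eq_pow_iff hc₀p hc₀1 _ _).1 h1
    rw [Nat.cast_mul] at h2 hll
    linear_combination (l : ZMod p) * h2 - (j : ZMod p) * hll
  have hβv : (v ^ l ^ 2)⁻¹ * app β v ∈ H := by
    have h1 := H.mul_mem (pow_inv_mul_pow_mem hvp (a := l ^ 2) (b := j)
      (by rw [Nat.cast_pow]; exact hjl.symm)) hj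
    rwa [mul_assoc, mul_inv_cancel_left] at h1
  -- the extension
  set L : ℕ → Subgroup N := fun i =>
    if i = 0 then ⊥ else if i = 1 then (Subgroup.zpowers c).subgroupOf N
    else if i = 2 then H.subgroupOf N else if i = 3 then W.subgroupOf N else ⊤ with hLdef
  have hβL : ∀ i ≤ 4, ∀ g, g ∈ L i ↔ β g ∈ L i := by
    intro i hi
    refine mem_iff_apply_mem β fun g hg => ?_
    interval_cases i
    · simp only [L, ↓reduceIte, Subgroup.mem_bot] at hg ⊢
      rw [hg, map_one]
    · simp only [L, one_ne_zero, ↓reduceIte, Subgroup.mem_subgroupOf] at hg ⊢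
      obtain ⟨k, hk⟩ := mem_powers_iff_mem_zpowers.2 hg
      rw [← app_coe, ← (show c ^ k = (g : G) from hk), app_pow β hcN, hβc]
      exact pow_mem (pow_mem (Subgroup.mem_zpowers c) l) k
    · simp only [L, OfNat.ofNat_ne_zero, OfNat.ofNat_ne_one, ↓reduceIte,
        Subgroup.mem_subgroupOf] at hg ⊢
      rw [← app_coe]
      exact hβH _ hg
    · simp only [L, OfNat.ofNat_ne_zero, OfNat.ofNat_ne_one, Nat.reduceEqDiff, ↓reduceIte,
        Subgroup.mem_subgroupOf] at hg ⊢
      rw [← app_coe]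
      exact hβW _ hg
    · exact Subgroup.mem_top _
  have hinner : ∀ m : M, World.cj N m ∈ chainStab L 4 := by
    rintro ⟨m, hm⟩
    have hconj : ∀ (K : Subgroup G), M ≤ Subgroup.normalizer (K : Set G) → ∀ g : G, g ∈ K →
        m * g * m⁻¹ ∈ K := fun K hK g hg => H85.conj_mem_of_mem_normalizer (hK hm) hg
    refine ⟨fun i hi g hg => ?_, fun i hi g hg => ?_⟩
    · interval_cases i
      · simp only [L, ↓reduceIte, Subgroup.mem_bot] at hg ⊢
        rw [hg, map_one]
      · simp only [L, one_ne_zero, ↓reduceIte, Subgroup.mem_subgroupOf] at hg ⊢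
        exact hconj _ hMc _ hg
      · simp only [L, OfNat.ofNat_ne_zero, OfNat.ofNat_ne_one, ↓reduceIte,
          Subgroup.mem_subgroupOf] at hg ⊢
        exact hconj _ (hMH M) _ hg
      · simp only [L, OfNat.ofNat_ne_zero, OfNat.ofNat_ne_one, Nat.reduceEqDiff, ↓reduceIte,
          Subgroup.mem_subgroupOf] at hg ⊢
        exact hconj _ hMW _ hg
      · exact Subgroup.mem_top _
    · interval_cases i
      · simp only [L, zero_add, one_ne_zero, ↓reduceIte, Subgroup.mem_bot,
          Subgroup.mem_subgroupOf] at hg ⊢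
        obtain ⟨k, hk⟩ := Subgroup.mem_zpowers_iff.1 hg
        rw [mul_inv_eq_one]
        refine Subtype.ext ?_
        show m * (g : G) * m⁻¹ = g
        rw [← hk, ← conj_zpow, hfixc m hm, mul_inv_cancel_right]
      · simp only [L, one_ne_zero, Nat.reduceAdd, OfNat.ofNat_ne_zero, OfNat.ofNat_ne_one,
          ↓reduceIte, Subgroup.mem_subgroupOf, Subgroup.coe_mul, Subgroup.coe_inv] at hg ⊢
        exact hstepH m hm _ hg
      · simp only [L, Nat.reduceAdd, OfNat.ofNat_ne_zero, OfNat.ofNat_ne_one, Nat.reduceEqDiff,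
          ↓reduceIte, Subgroup.mem_subgroupOf, Subgroup.coe_mul, Subgroup.coe_inv] at hg ⊢
        exact hWH m hm _ hg
      · simp only [L, Nat.reduceAdd, OfNat.ofNat_ne_zero, OfNat.ofNat_ne_one, Nat.reduceEqDiff,
          ↓reduceIte, Subgroup.mem_subgroupOf, Subgroup.coe_mul, Subgroup.coe_inv] at hg ⊢
        exact hstepN m hm _ g.2
  obtain ⟨r, hr⟩ := IsPGroup.iff_card.1 (hG.to_subgroup N)
  have hk : ∀ g, ∃ h, β * World.cj N g * β⁻¹ = World.cj N h := fun g => by
    obtain ⟨h, hh⟩ := w.exists_cj_eq C.fnN (K := w.aut N ⊓ chainStab L 4)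
      ((isPGroup_chainStab hr (L := L) (n := 4) rfl rfl).to_le inf_le_right) inf_le_left
      (fun g => ⟨w.cj_mem N g, hinner g⟩) (α := β * World.cj N g * β⁻¹)
      ⟨(w.aut N).mul_mem ((w.aut N).mul_mem hβ (w.cj_mem N g)) ((w.aut N).inv_mem hβ),
        conj_mem_chainStab (hinner g) hβL⟩
    exact ⟨h, hh.symm⟩
  obtain ⟨γ, hγ, hγx⟩ := w.extend_aut C.fnN hβ hk
  have hgb : ∀ y ∈ N, app γ y = app β y := fun y hy => by
    rw [app_eq γ (hNM hy), app_eq β hy]
    exact hγx ⟨y, hy⟩
  refine ⟨γ, hγ, ⟨?_, ?_, fun d hd => ?_, fun h hh => ?_, fun n hn => ?_, ?_, ?_⟩⟩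
  · rw [hgb c hcN, hβc]
  · rw [hgb x hxN, hβx]
  · rw [hgb d (hHN (C.dle hd)), hβd d hd]
  · rw [hgb h (hHN hh)]; exact hβH h hh
  · rw [hgb n hn]; exact app_mem β hn
  · rw [hgb v hvN]; exact hβv
  · obtain ⟨a, ha⟩ := exists_pow_mem' hNM le_rfl hcardM hs hsN (app_mem γ hs)
    set n := (s ^ a)⁻¹ * app γ s with hn
    have hs' : app γ s = s ^ a * n := (mul_inv_cancel_left _ _).symm
    have h1 : q (app γ v) = q v ^ l ^ 2 := by
      rw [hgb v hvN, ← map_pow]
      exact (QuotientGroup.eq.2 hβv).symm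
    rw [hvdef, app_comm γ hs (hNM hxN), hgb x hxN, hβx, hs', map_commutatorElement, map_mul,
      map_pow, map_pow] at h1
    obtain ⟨i, j', hij⟩ := hdecomp n ha
    have hqn : Commute (q n) (q x ^ l') := by
      have h2 : q n = q x ^ i * q v ^ j' := by
        rw [← map_pow, ← map_pow, ← map_mul]
        exact (QuotientGroup.eq.2 hij).symm
      rw [h2]
      exact ((Commute.refl (q x)).pow_pow i l').mul_left (hqx.pow_pow j' l')
    rw [show ⁅q s ^ a * q n, q x ^ l'⁆ = q s ^ a * ⁅q n, q x ^ l'⁆ * (q s ^ a)⁻¹ *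
        ⁅q s ^ a, q x ^ l'⁆ by simp only [commutatorElement_def]; group,
      commutatorElement_eq_one_iff_mul_comm.2 hqn.eq, mul_one, mul_inv_cancel, one_mul,
      comm_pow' hbr hqs hqx] at h1
    have h2 := (pow_eq_pow_iff (by rw [← map_pow]; exact (hqH _).2 hvp)
      (fun h => hvH ((hqH v).1 h)) _ _).1 h1
    have h3 : ((l ^ 3 : ℕ) : ZMod p) = a := by
      rw [Nat.cast_mul, Nat.cast_pow] at h2
      rw [Nat.cast_mul] at hll
      rw [Nat.cast_pow]
      linear_combination (-(l : ZMod p)) * h2 + (a : ZMod p) * hll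
    have h4 := N.mul_mem (pow_inv_mul_pow_mem hsp h3) ha
    rwa [hn, mul_assoc, mul_inv_cancel_left] at h4

end H62.PFive
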