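import Cfsg.Agent.H62.PFive.Setup
import Cfsg.Agent.H62.PFive.Step

/-!
The configuration for an essential subgroup of order `p ^ 2`.
-/

set_option autoImplicit false
set_option linter.unusedSectionVars false
set_option linter.style.haveILetI false

open scoped commutatorElement

namespace H62.PFive

universe u

variable {G : Type u} [Group G] [Finite G] {p : ℕ} [hp : Fact p.Prime] {w : World G p}
  {E : Subgroup G}

theorem Ess.pearl_setup (hG : IsPGroup p G) (hE : Ess w E) (hc : ∀ a b : E, a * b = b * a)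
    (hexp : ∀ a : E, a ^ p = 1) (h5 : Nat.card G = p ^ 5) (h2 : Nat.card E = p ^ 2) :
    ∃ (D : Subgroup G) (x c : G), Conf w E (Subgroup.center G) D x c ∧
      Nat.card (Subgroup.center G) = p ∧
      Nat.card (Subgroup.normalizer (E : Set G)) = p ^ 3 ∧
      Nat.card (Subgroup.normalizer (Subgroup.normalizer (E : Set G) : Set G)) = p ^ 4 := by
  haveI := hG.isNilpotent
  have hp1 := hp.out.one_lt
  obtain ⟨α, hα, z, hz, hαz⟩ := hE.move
  have hz1 : z ≠ 1 := fun h => hαz (by rw [h, map_one]; exact one_mem _)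
  set Z := Subgroup.center G with hZ
  have hZE : Z ≤ E := fun g hg =>
    hE.cent (Subgroup.mem_centralizer_iff.2 fun e _ => Subgroup.mem_center_iff.1 hg e)
  have hZc : Nat.card Z = p := by
    obtain ⟨i, hi2, hi⟩ := (Nat.dvd_prime_pow hp.out).1 (h2 ▸ Subgroup.card_dvd_of_le hZE)
    have h0 : i ≠ 0 := fun h => by
      have hb : Z = ⊥ := Subgroup.card_eq_one.1 (by rw [hi, h, pow_zero])
      exact hz1 (Subtype.ext (Subgroup.mem_bot.1 (hb ▸ hz)))
    have h2' : i ≠ 2 := fun h => hαz (by
      have he : Z = E := Subgroup.eq_of_le_of_card_ge hZE (by rw [hi, h2, h])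
      exact he.symm ▸ (α z).2)
    rw [hi, show i = 1 by omega, pow_one]
  set N := Subgroup.normalizer (E : Set G) with hN
  have hEN : E ≤ N := Subgroup.le_normalizer
  have hEtop : E < ⊤ := lt_top_iff_ne_top.2 fun h => by
    have h1 : p ^ 2 = p ^ 5 := by rw [← h2, ← h5, h, Subgroup.card_top]
    exact absurd (Nat.pow_right_injective hp.out.two_le h1) (by norm_num)
  have hEltN : E < N := Group.normalizerCondition_of_isNilpotent E hEtop
  obtain ⟨g₁, hg₁, hg₁E⟩ := SetLike.exists_of_lt hEltN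
  set g₀ : N := ⟨g₁, hg₁⟩ with hg₀
  haveI : ∀ A : Subgroup E, A.Normal := fun A =>
    ⟨fun a ha b => by rwa [hc b a, mul_inv_cancel_right]⟩
  set ZE : Subgroup E := Z.subgroupOf E with hZE'
  have hZEc : Nat.card ZE = p := by rw [hZE', card_subgroupOf_eq hZE, hZc]
  have hmap : ZE.map E.subtype = Z := Subgroup.map_subgroupOf_eq_of_le hZE
  have hidx : Nat.card E = p * Nat.card ZE := by rw [h2, hZEc, sq]
  have hstep : ∀ (g : N) (e : E), World.cj E g e * e⁻¹ ∈ ZE := by
    intro g e
    rw [Subgroup.mem_subgroupOf, Subgroup.coe_mul, Subgroup.coe_inv, World.cj_apply]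
    exact commutator_mem_of_step' hG hZE hEN
      (le_top.trans (Subgroup.normalizer_eq_top_iff.2 (inferInstance : Z.Normal)).ge) le_rfl
      (by rw [h2, hZc, sq]) e.2 g.2
  have hfix : ∀ (g : N), ∀ h ∈ ZE, World.cj E g h = h := fun g h hh => Subtype.ext (by
    rw [World.cj_apply, Subgroup.mem_center_iff.1 (Subgroup.mem_subgroupOf.1 hh) g,
      mul_inv_cancel_right])
  obtain ⟨x₀, hx₀⟩ := cj_moves hE.cent g₀ hg₁E
  have hx₀Z : x₀ ∉ ZE := fun h => hx₀ (hfix g₀ x₀ h)
  have hgenE : ∀ e : E, ∃ k : ℕ, (x₀ ^ k)⁻¹ * e ∈ ZE := fun e =>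
    exists_pow_mem (A := ZE) (B := ⊤) le_top (by rw [Subgroup.card_top]; exact hidx)
      (Subgroup.mem_top x₀) hx₀Z (Subgroup.mem_top e)
  -- the order of the normaliser
  have hcN : Nat.card N = p ^ 3 := by
    let ψ : N →* E :=
      { toFun := fun g => World.cj E g x₀ * x₀⁻¹
        map_one' := by simp
        map_mul' := fun g h => by
          have h1 : World.cj E h x₀ = World.cj E h x₀ * x₀⁻¹ * x₀ :=
            (inv_mul_cancel_right _ _).symm
          conv_lhs => rw [map_mul, MulAut.mul_apply, h1, map_mul, hfix g _ (hstep h x₀)]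
          rw [hc (World.cj E g x₀ * x₀⁻¹)]
          simp only [mul_assoc] }
    have hker : ψ.ker ≤ E.subgroupOf N := by
      intro g hg
      by_contra hgE
      obtain ⟨e, he⟩ := cj_moves hE.cent g (fun h => hgE (Subgroup.mem_subgroupOf.2 h))
      obtain ⟨k, hk⟩ := hgenE e
      have h3 := hfix g _ hk
      rw [map_mul, map_inv, map_pow, show World.cj E g x₀ = x₀ from mul_inv_eq_one.1 hg] at h3
      exact he (mul_left_cancel h3)
    have h1 := ψ.ker.card_mul_index
    rw [Subgroup.index_ker] at h1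
    have h3 : Nat.card N ≤ p ^ 3 := by
      rw [← h1, pow_succ]
      refine Nat.mul_le_mul ?_ ?_
      · rw [← h2, ← card_subgroupOf_eq hEN]
        exact Nat.le_of_dvd Nat.card_pos (Subgroup.card_dvd_of_le hker)
      · exact hZEc ▸ Nat.le_of_dvd Nat.card_pos
          (Subgroup.card_dvd_of_le (by rintro _ ⟨g, rfl⟩; exact hstep g x₀))
    obtain ⟨i, -, hi⟩ := (Nat.dvd_prime_pow hp.out).1 (h5 ▸ Subgroup.card_subgroup_dvd_card N)
    have h4 : 2 < i := by
      by_contra h
      refine hEltN.ne (Subgroup.eq_of_le_of_card_ge hEN ?_)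
      rw [hi, h2]
      exact Nat.pow_le_pow_right hp.out.pos (by omega)
    rw [hi] at h3
    have := (Nat.pow_le_pow_iff_right hp1).1 h3
    rw [hi, show i = 3 by omega]
  have hcardN : Nat.card N = p * Nat.card E := by rw [hcN, h2]; ring
  have hsmall : ∀ (Z' B A : Subgroup G), Z'.Normal → B.Normal → Z' ≤ A → A ≤ B → Nat.card Z' = p →
      Nat.card B = p ^ 3 → Nat.card A = p ^ 2 →
      Nat.card (Subgroup.normalizer (A : Set G)) ≤ p ^ 3 → False := by
    intro Z' B A hZ'n hBn hle1 hle2 hcZ hcB hcA hle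
    haveI := hZ'n
    haveI := hBn
    have h1 := card_le_normalizer_of_chain hG hle1 hle2 (by rw [hcA, hcZ, sq])
      (by rw [hcB, hcZ]; ring)
    have h3 : p ^ 5 ≤ p ^ 4 := by
      calc p ^ 5 = Nat.card G := h5.symm
        _ ≤ p * Nat.card (Subgroup.normalizer (A : Set G)) := h1
        _ ≤ p * p ^ 3 := Nat.mul_le_mul_left _ hle
        _ = p ^ 4 := by ring
    exact absurd ((Nat.pow_le_pow_iff_right hp1).1 h3) (by norm_num)
  have hNnn : ¬ N.Normal := fun h => hsmall Z N E inferInstance h hZE hEN hZc hcN h2 (hcN.le)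
  have hcM : Nat.card (Subgroup.normalizer (N : Set G)) = p ^ 4 := by
    have hlt := Group.normalizerCondition_of_isNilpotent N (lt_top_iff_ne_top.2 fun h =>
      hNnn (h ▸ inferInstance))
    obtain ⟨i, hi5, hi⟩ := (Nat.dvd_prime_pow hp.out).1
      (h5 ▸ Subgroup.card_subgroup_dvd_card (Subgroup.normalizer (N : Set G)))
    have h4 : 3 < i := by
      by_contra h
      refine hlt.ne (Subgroup.eq_of_le_of_card_ge Subgroup.le_normalizer ?_)
      rw [hi, hcN]
      exact Nat.pow_le_pow_right hp.out.pos (by omega)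
    have h55 : i ≠ 5 := fun h => hNnn (Subgroup.normalizer_eq_top_iff.1
      (Subgroup.eq_top_of_card_eq _ (by rw [hi, h, h5])))
    rw [hi, show i = 4 by omega]
  set c : E := World.cj E g₀ x₀ * x₀⁻¹ with hcdef
  have hcZ : c ∈ ZE := hstep g₀ x₀
  have hT : Tr p (World.cj E g₀) c ZE :=
    { fix := hfix g₀
      shift := fun e => by
        obtain ⟨k, hk⟩ := hgenE e
        refine ⟨k, ?_⟩
        have h1 := hfix g₀ _ hk
        have htx : World.cj E g₀ x₀ = x₀ * c := by rw [hc x₀ c, hcdef, inv_mul_cancel_right]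
        rw [map_mul, map_inv, map_pow, htx, Commute.mul_pow (hc x₀ c), inv_mul_eq_iff_eq_mul] at h1
        rw [h1, hc (x₀ ^ k) (c ^ k), mul_assoc, mul_inv_cancel_left, hc]
      mem := hcZ
      ne := fun h => hx₀ (mul_inv_eq_one.1 h)
      pow := hexp c
      idx := hidx
      moves := ⟨x₀, hx₀⟩ }
  -- `N` is fully normalised
  have hfnN : w.FN N := by
    intro H' f hf hr
    rw [hcM]
    obtain ⟨i, hi5, hi⟩ := (Nat.dvd_prime_pow hp.out).1
      (h5 ▸ Subgroup.card_subgroup_dvd_card (Subgroup.normalizer (H' : Set G)))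
    rw [hi]
    by_contra hlt
    have h4 : i = 5 := by
      have : ¬ i ≤ 4 := fun h => hlt (Nat.pow_le_pow_right hp.out.pos h)
      omega
    haveI hH'n : H'.Normal := Subgroup.normalizer_eq_top_iff.1
      (Subgroup.eq_top_of_card_eq _ (by rw [hi, h4, h5]))
    have hinj := w.inj hf
    set E' : Subgroup G := (E.comap f).map H'.subtype with hE'
    have hcomap : ∀ A : Subgroup G, A ≤ N → Nat.card ((A.comap f).map H'.subtype : Subgroup G) =
        Nat.card A := by
      intro A hA
      rw [Subgroup.card_map_of_injective H'.subtype_injective,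
        ← Subgroup.card_map_of_injective hinj, Subgroup.map_comap_eq, hr, inf_eq_right.2 hA]
    have hE'H : E' ≤ H' := Subgroup.map_subtype_le _
    have hn : Nat.card (Subgroup.normalizer (E' : Set G)) ≤ p ^ 3 := by
      rw [← hcN]
      refine hE.fn E' _ (w.restr hf hE'H) ?_
      ext y
      constructor
      · rintro ⟨⟨_, u, hu, rfl⟩, rfl⟩
        exact hu
      · intro hy
        obtain ⟨u, hu⟩ : y ∈ f.range := hr.symm ▸ hEN hy
        exact ⟨⟨(u : G), ⟨u, show f u ∈ E from hu ▸ hy, rfl⟩⟩, hu⟩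
    set Z' : Subgroup G := Subgroup.centralizer (H' : Set G) ⊓ H' with hZ'
    have hZ'eq : Z' = (Z.comap f).map H'.subtype := by
      ext y
      constructor
      · rintro ⟨hy1, hy2⟩
        refine ⟨⟨y, hy2⟩, ?_, rfl⟩
        set n := f ⟨y, hy2⟩ with hn'
        have hnN : n ∈ N := hr ▸ ⟨_, rfl⟩
        have hcomm : ∀ m ∈ N, m * n = n * m := by
          intro m hm
          obtain ⟨u, rfl⟩ : m ∈ f.range := hr.symm ▸ hm
          rw [hn', ← map_mul, ← map_mul]
          exact congrArg f (Subtype.ext (Subgroup.mem_centralizer_iff.1 hy1 u u.2))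
        have hnE : n ∈ E := hE.cent (Subgroup.mem_centralizer_iff.2 fun e he => hcomm e (hEN he))
        have h1 : World.cj E g₀ ⟨n, hnE⟩ = ⟨n, hnE⟩ := Subtype.ext (by
          rw [World.cj_apply]
          exact mul_inv_eq_iff_eq_mul.2 (hcomm g₁ hg₁))
        exact Subgroup.mem_subgroupOf.1 (hT.fixed_mem hc h1)
      · rintro ⟨u, hu, rfl⟩
        refine ⟨Subgroup.mem_centralizer_iff.2 fun g hg => ?_, u.2⟩
        have h1 : f (⟨g, hg⟩ * u) = f (u * ⟨g, hg⟩) := by
          rw [map_mul, map_mul]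
          exact Subgroup.mem_center_iff.1 hu _
        exact congrArg Subtype.val (hinj h1)
    refine hsmall Z' H' E' inferInstance hH'n ?_ hE'H ?_ ?_ ?_ hn
    · rw [hZ'eq]
      exact Subgroup.map_mono (Subgroup.comap_mono hZE)
    · rw [hZ'eq, hcomap Z (hZE.trans hEN), hZc]
    · rw [← hcN, ← hr]
      exact Nat.card_congr (MonoidHom.ofInjective hinj).toEquiv
    · rw [hE', hcomap E hEN, h2]
  obtain ⟨x, D, hC, -⟩ := hE.conf hG hc h2 hexp hT (g₀ := g₀) rfl
    (cj_gen hc hcardN g₀ hg₁E) (by rw [hmap]; exact inferInstance)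
    (by rw [hmap]; exact fun n _ h hh => Subgroup.mem_center_iff.1 hh n)
    (by rw [hZEc]; exact Nat.le_self_pow two_ne_zero p) hcardN (by rw [hcM, hcN]; ring) hfnN
  rw [hmap] at hC
  exact ⟨D, x, c, hC, hZc, hcN, hcM⟩

end H62.PFive
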