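import Cfsg.Agent.H62.PFive.Tools
import Cfsg.Agent.H85.Saturation

/-!
Relative versions of the step lemmas, and normalisers in a short chain.
-/

set_option autoImplicit false
set_option linter.unusedSectionVars false
set_option linter.style.haveILetI false

open scoped commutatorElement

namespace H62.PFive

variable {G : Type*} [Group G] [Finite G] {p : ℕ} [hp : Fact p.Prime]

theorem card_subgroupOf_eq {A M : Subgroup G} (h : A ≤ M) :
    Nat.card (A.subgroupOf M) = Nat.card A :=
  Nat.card_congr (Subgroup.subgroupOfEquivOfLe h).toEquiv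

theorem exists_pow_mem' {A B : Subgroup G} (hAB : A ≤ B) (hBA : B ≤ Subgroup.normalizer (A : Set G))
    (hcard : Nat.card B = p * Nat.card A) {g : G} (hg : g ∈ B) (hgA : g ∉ A) {x : G} (hx : x ∈ B) :
    ∃ k : ℕ, (g ^ k)⁻¹ * x ∈ A := by
  haveI : (A.subgroupOf B).Normal := (Subgroup.normal_subgroupOf_iff_le_normalizer hAB).2 hBA
  obtain ⟨k, hk⟩ := exists_pow_mem (A := A.subgroupOf B) (B := ⊤) le_top
    (by rw [Subgroup.card_top, card_subgroupOf_eq hAB, hcard]) (Subgroup.mem_top (⟨g, hg⟩ : B))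
    (fun h => hgA (Subgroup.mem_subgroupOf.1 h)) (Subgroup.mem_top (⟨x, hx⟩ : B))
  exact ⟨k, by simpa [Subgroup.mem_subgroupOf] using hk⟩

theorem commutator_mem_of_step' (hG : IsPGroup p G) {A B M : Subgroup G} (hAB : A ≤ B) (hBM : B ≤ M)
    (hA : M ≤ Subgroup.normalizer (A : Set G)) (hB : M ≤ Subgroup.normalizer (B : Set G))
    (hcard : Nat.card B = p * Nat.card A) {b : G} (hb : b ∈ B) {m : G} (hm : m ∈ M) :
    ⁅m, b⁆ ∈ A := by
  haveI : (A.subgroupOf M).Normal :=
    (Subgroup.normal_subgroupOf_iff_le_normalizer (hAB.trans hBM)).2 hA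
  haveI : (B.subgroupOf M).Normal := (Subgroup.normal_subgroupOf_iff_le_normalizer hBM).2 hB
  have h := commutator_mem_of_step (hG.to_subgroup M) (A := A.subgroupOf M) (B := B.subgroupOf M)
    (Subgroup.comap_mono hAB) (by rw [card_subgroupOf_eq hBM, card_subgroupOf_eq (hAB.trans hBM), hcard])
    (b := ⟨b, hBM hb⟩) (Subgroup.mem_subgroupOf.2 hb) ⟨m, hm⟩
  rw [Subgroup.mem_subgroupOf, ← Subgroup.coe_subtype, map_commutatorElement] at h
  exact h

/-- A central step above `Z` inside `B`. -/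
theorem exists_step_in (hG : IsPGroup p G) {Z B M : Subgroup G} (hZB : Z ≤ B) (hBM : B ≤ M)
    (hZ : M ≤ Subgroup.normalizer (Z : Set G)) (hB : M ≤ Subgroup.normalizer (B : Set G))
    (hne : Z ≠ B) : ∃ W : Subgroup G, Z ≤ W ∧ W ≤ B ∧ Nat.card W = p * Nat.card Z ∧
      M ≤ Subgroup.normalizer (W : Set G) ∧ ∀ m ∈ M, ∀ v ∈ W, ⁅m, v⁆ ∈ Z := by
  haveI : (Z.subgroupOf M).Normal :=
    (Subgroup.normal_subgroupOf_iff_le_normalizer (hZB.trans hBM)).2 hZ
  haveI : (B.subgroupOf M).Normal := (Subgroup.normal_subgroupOf_iff_le_normalizer hBM).2 hB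
  set q := QuotientGroup.mk' (Z.subgroupOf M) with hqdef
  have hBq : ((B.subgroupOf M).map q).Normal :=
    Subgroup.Normal.map inferInstance q (QuotientGroup.mk'_surjective _)
  have hQ : IsPGroup p (M ⧸ Z.subgroupOf M) := (hG.to_subgroup M).to_quotient _
  have hne' : (B.subgroupOf M).map q ≠ ⊥ := fun h => hne (le_antisymm hZB fun b hb => by
    have h1 : q ⟨b, hBM hb⟩ = 1 := Subgroup.mem_bot.1 (h ▸ ⟨⟨b, hBM hb⟩, hb, rfl⟩)
    exact Subgroup.mem_subgroupOf.1 ((QuotientGroup.eq_one_iff _).1 h1))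
  set C := (B.subgroupOf M).map q ⊓ Subgroup.center _
  have hC : C ≠ ⊥ := H30.inf_center_ne_bot hQ hBq hne'
  have hpC : p ∣ Nat.card C := by
    rcases (hQ.to_subgroup C).card_eq_or_dvd with h | h
    · exact absurd (Subgroup.card_eq_one.1 h) hC
    · exact h
  obtain ⟨⟨v, hv⟩, hov⟩ := exists_prime_orderOf_dvd_card' (G := C) p hpC
  rw [Subgroup.orderOf_mk] at hov
  set W' : Subgroup M := (Subgroup.zpowers v).comap q
  have hW'Z : ∀ m : M, ∀ a ∈ W', ⁅m, a⁆ ∈ Z.subgroupOf M := by
    intro m a ha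
    rw [← QuotientGroup.eq_one_iff, ← QuotientGroup.mk'_apply, map_commutatorElement,
      commutatorElement_eq_one_iff_mul_comm]
    exact Subgroup.mem_center_iff.1 ((Subgroup.zpowers_le.2 hv.2) (Subgroup.mem_comap.1 ha)) (q m)
  have hZW : Z.subgroupOf M ≤ W' := fun a ha => Subgroup.mem_comap.2 (by
    rw [hqdef, QuotientGroup.mk'_apply, (QuotientGroup.eq_one_iff a).2 ha]
    exact one_mem _)
  have hWB : W' ≤ B.subgroupOf M := by
    intro a ha
    obtain ⟨b, hb, hba⟩ := (Subgroup.zpowers_le.2 hv.1) (Subgroup.mem_comap.1 ha)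
    have h1 : b⁻¹ * a ∈ Z.subgroupOf M := QuotientGroup.eq.1 hba
    have h2 := (B.subgroupOf M).mul_mem hb ((Subgroup.comap_mono hZB) h1)
    rwa [mul_inv_cancel_left] at h2
  have hcard : Nat.card W' = p * Nat.card Z := by
    have h1 : W'.index = (Subgroup.zpowers v).index :=
      Subgroup.index_comap_of_surjective _ (QuotientGroup.mk'_surjective _)
    have h2 := W'.card_mul_index
    rw [h1, Subgroup.card_eq_card_quotient_mul_card_subgroup (Z.subgroupOf M),
      card_subgroupOf_eq (hZB.trans hBM), ← (Subgroup.zpowers v).card_mul_index, Nat.card_zpowers,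
      hov] at h2
    refine Nat.eq_of_mul_eq_mul_right (Nat.pos_of_ne_zero
      (Subgroup.index_ne_zero_of_finite (H := Subgroup.zpowers v))) ?_
    rw [h2]
    ring
  refine ⟨W'.map M.subtype, fun z hz => ⟨⟨z, hBM (hZB hz)⟩, hZW hz, rfl⟩, ?_, ?_, fun m hm => ?_, ?_⟩
  · rintro _ ⟨a, ha, rfl⟩
    exact Subgroup.mem_subgroupOf.1 (hWB ha)
  · rw [Subgroup.card_map_of_injective M.subtype_injective, hcard]
  · refine H85.mem_normalizer_of_conj fun y hy => ?_
    obtain ⟨a, ha, rfl⟩ := hy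
    refine ⟨⟨m, hm⟩ * a * ⟨m, hm⟩⁻¹, ?_, rfl⟩
    have h := W'.mul_mem (hZW (hW'Z ⟨m, hm⟩ a ha)) ha
    rwa [commutatorElement_def, inv_mul_cancel_right] at h
  · rintro m hm _ ⟨a, ha, rfl⟩
    have h := hW'Z ⟨m, hm⟩ a ha
    rw [Subgroup.mem_subgroupOf, ← Subgroup.coe_subtype, map_commutatorElement] at h
    exact h

/-- A subgroup between the ends of a normal chain of two steps has normaliser of index at most `p`. -/
theorem card_le_normalizer_of_chain (hG : IsPGroup p G) {Z B A : Subgroup G} [Z.Normal] [B.Normal]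
    (hZA : Z ≤ A) (hAB : A ≤ B) (hA : Nat.card A = p * Nat.card Z)
    (hB : Nat.card B = p * (p * Nat.card Z)) :
    Nat.card G ≤ p * Nat.card (Subgroup.normalizer (A : Set G)) := by
  have hne : Z ≠ B := fun h => by
    have h1 : Nat.card Z = p * (p * Nat.card Z) := (congrArg (fun K : Subgroup G => Nat.card K) h).trans hB
    have := hp.out.two_le
    have := Nat.card_pos (α := Z)
    nlinarith
  obtain ⟨W, hZW, hWB, hWc, hWn, hWZ⟩ := exists_step_in hG (Z := Z) (B := B) (M := ⊤) (hZA.trans hAB)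
    le_top (Subgroup.normalizer_eq_top_iff.2 inferInstance).ge
    (Subgroup.normalizer_eq_top_iff.2 inferInstance).ge hne
  haveI : W.Normal := Subgroup.normalizer_eq_top_iff.1 (top_le_iff.1 hWn)
  obtain ⟨x, hxA, hxZ⟩ : ∃ x ∈ A, x ∉ Z := by
    by_contra hcon
    push Not at hcon
    have := Nat.card_le_card_of_injective _ (Subgroup.inclusion_injective (show A ≤ Z from hcon))
    rw [hA] at this
    have := hp.out.two_le
    have := Nat.card_pos (α := Z)
    nlinarith
  have hstep : ∀ g : G, ⁅g, x⁆ ∈ W := fun g =>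
    commutator_mem_of_step hG hWB (by rw [hB, hWc]) (hAB hxA) g
  set q := QuotientGroup.mk' Z with hqdef
  have hcent : ∀ g v : G, v ∈ W → q g * q v = q v * q g := fun g v hv => by
    rw [← commutatorElement_eq_one_iff_mul_comm, ← map_commutatorElement, hqdef,
      QuotientGroup.mk'_apply, QuotientGroup.eq_one_iff]
    exact hWZ g (Subgroup.mem_top g) v hv
  let χ : G →* G ⧸ Z :=
    { toFun := fun g => q ⁅g, x⁆
      map_one' := by simp
      map_mul' := fun g h => by
        rw [show ⁅g * h, x⁆ = g * ⁅h, x⁆ * g⁻¹ * ⁅g, x⁆ by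
          simp only [commutatorElement_def]; group, map_mul, map_mul, map_mul, map_inv,
          hcent g _ (hstep h), mul_inv_cancel_right, ← hcent ⁅g, x⁆ _ (hstep h)] }
  have hker : χ.ker ≤ Subgroup.normalizer (A : Set G) := fun g hg => by
    refine H85.mem_normalizer_of_conj fun y hy => ?_
    have hgx : ⁅g, x⁆ ∈ Z := (QuotientGroup.eq_one_iff _).1 hg
    obtain ⟨k, hk⟩ := exists_pow_mem hZA hA hxA hxZ hy
    have h1 : g * x * g⁻¹ ∈ A := by
      have := A.mul_mem (hZA hgx) hxA
      rwa [commutatorElement_def, inv_mul_cancel_right] at this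
    have h2 := A.mul_mem (A.pow_mem h1 k)
      (hZA (Subgroup.Normal.conj_mem inferInstance _ hk g))
    rw [conj_pow] at h2
    convert h2 using 1
    group
  have hr : Nat.card χ.range ≤ p := by
    have h1 : χ.range ≤ W.map q := by
      rintro _ ⟨g, rfl⟩
      exact ⟨_, hstep g, rfl⟩
    refine (Nat.le_of_dvd Nat.card_pos (Subgroup.card_dvd_of_le h1)).trans ?_
    have h2 := (q.subgroupMap W).ker.card_mul_index
    rw [Subgroup.index_ker, MonoidHom.range_eq_top.2 (q.subgroupMap_surjective W),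
      Subgroup.card_top, hWc] at h2
    have h3 : Nat.card (q.subgroupMap W).ker = Nat.card Z := by
      rw [Subgroup.ker_subgroupMap, hqdef, QuotientGroup.ker_mk', card_subgroupOf_eq hZW]
    rw [h3, mul_comm p] at h2
    exact (Nat.eq_of_mul_eq_mul_left Nat.card_pos h2).le
  have h := χ.ker.card_mul_index
  rw [Subgroup.index_ker] at h
  rw [← h, mul_comm p]
  exact Nat.mul_le_mul (Nat.le_of_dvd Nat.card_pos (Subgroup.card_dvd_of_le hker)) hr

end H62.PFive
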