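import Cfsg.Agent.H62.PFive.Transvection

/-!
When the inner automorphisms of an abelian essential subgroup are the powers of one transvection,
two opposite transvections give a torus.
-/

set_option autoImplicit false
set_option linter.unusedSectionVars false
set_option linter.style.haveILetI false

namespace H62.PFive

universe u

variable {G : Type u} [Group G] [Finite G] {p : ℕ} [hp : Fact p.Prime] {w : World G p}
  {E : Subgroup G}

theorem exists_pow_eq_of_ne {A : Type*} [Group A] [Finite A] {a b : A} (ha : a ^ p = 1) {i : ℕ}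
    (hi : a ^ i ≠ 1) (hb : b ∈ Subgroup.zpowers a) : ∃ n : ℕ, (a ^ i) ^ n = b := by
  rw [← zpowers_eq_of_mem ha hi (pow_mem (Subgroup.mem_zpowers a) i)] at hb
  exact mem_powers_iff_mem_zpowers.2 hb

/-- The torus of two opposite transvections. -/
theorem Ess.torus (hG : IsPGroup p G) (hE : Ess w E) (hc : ∀ a b : E, a * b = b * a) {m : ℕ}
    (hm : Nat.card E = p ^ m) (hexp : ∀ a : E, a ^ p = 1) {t : MulAut E} {c : E} {H : Subgroup E}
    (hT : Tr p t c H) {g₀ : Subgroup.normalizer (E : Set G)} (hg₀ : World.cj E g₀ = t)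
    (hgen : ∀ g, ∃ k : ℕ, World.cj E g = t ^ k) :
    ∃ (x : E) (D : Subgroup E), x ∉ H ∧ (∃ k : ℕ, (t ^ k) x = x * c) ∧ D ≤ H ∧
      (∀ e ∈ H, ∃ k : ℕ, (c ^ k)⁻¹ * e ∈ D) ∧
      ∀ l l' : ℕ, ((l * l' : ℕ) : ZMod p) = 1 → ∃ h ∈ w.aut E, h c = c ^ l ∧ h x = x ^ l' ∧
        (∀ d ∈ D, h d = d) ∧ ∀ g, ∃ g', h * World.cj E g * h⁻¹ = World.cj E g' := by
  letI : CommGroup E := { (inferInstance : Group E) with mul_comm := hc }
  have ht : t ∈ w.aut E := hg₀ ▸ w.cj_mem E g₀
  haveI : Finite (MulAut E) := Finite.of_injective _ DFunLike.coe_injective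
  have hfixc : t c = c := hT.fix c hT.mem
  have hpowT : ∀ (u : MulAut E) (d : E) (e : E) (j : ℕ), u d = d → u e = e * d ^ j →
      ∀ n : ℕ, (u ^ n) e = e * d ^ (j * n) := by
    intro u d e j hd hj n
    induction n with
    | zero => simp
    | succ n ih =>
      rw [pow_succ', MulAut.mul_apply, ih, map_mul, map_pow, hd, hj, mul_assoc, ← pow_add,
        Nat.mul_succ, Nat.add_comm j]
  have htp : t ^ p = 1 := by
    refine MulEquiv.ext fun e => ?_
    obtain ⟨j, hj⟩ := hT.shift e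
    rw [hpowT t c e j hfixc hj, mul_comm j, pow_mul, hT.pow, one_pow, mul_one]
    rfl
  have ht1 : t ≠ 1 := fun h => by
    obtain ⟨e, he⟩ := hT.moves
    exact he (by rw [h]; rfl)
  have hpz : IsPGroup p (Subgroup.zpowers t) := by
    refine IsPGroup.of_card (n := 1) ?_
    rw [Nat.card_zpowers, orderOf_eq_prime htp ht1, pow_one]
  obtain ⟨α, hα, hαt⟩ : ∃ α ∈ w.aut E, α * t * α⁻¹ ∉ Subgroup.zpowers t := by
    by_contra hcon
    push Not at hcon
    refine ht1 (hE.eq_one hc (K := Subgroup.zpowers t) (Subgroup.zpowers_le.2 ht) (fun α hα k hk => ?_)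
      hpz (Subgroup.mem_zpowers t))
    obtain ⟨i, rfl⟩ := Subgroup.mem_zpowers_iff.1 hk
    rw [← conj_zpow]
    exact zpow_mem (hcon α hα) i
  set t' := α * t * α⁻¹ with ht'def
  have ht' : t' ∈ w.aut E := (w.aut E).mul_mem ((w.aut E).mul_mem hα ht) ((w.aut E).inv_mem hα)
  set x := α c with hxdef
  set H' := H.map α.toMonoidHom with hH'
  have hT' : Tr p t' x H' := hT.conj α
  have hopp : ¬ IsPGroup p (Subgroup.closure {t, t'}) := by
    intro hP
    obtain ⟨β, -, hβ⟩ := exists_conj_cj hG hE.fn (K := Subgroup.closure {t, t'})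
      ((Subgroup.closure_le _).2 (by rintro u (rfl | rfl) <;> assumption)) hP
    obtain ⟨g, hg⟩ := hβ t (Subgroup.subset_closure (Or.inl rfl))
    obtain ⟨i, hi⟩ := hgen g
    obtain ⟨g', hg'⟩ := hβ t' (Subgroup.subset_closure (Or.inr rfl))
    obtain ⟨j, hj⟩ := hgen g'
    rw [hi] at hg
    rw [hj] at hg'
    have hi1 : t ^ i ≠ 1 := fun h => ht1 (by
      rw [h, eq_comm, mul_inv_eq_one] at hg
      exact mul_left_cancel (hg.trans (mul_one β).symm))
    obtain ⟨n, hn⟩ := exists_pow_eq_of_ne htp hi1 (pow_mem (Subgroup.mem_zpowers t) j)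
    rw [hg, hg', conj_pow] at hn
    exact hαt (mul_left_cancel (mul_right_cancel hn) ▸ pow_mem (Subgroup.mem_zpowers t) n)
  have hxH : x ∉ H := fun h => hopp (hT.isPGroup_pair hc hm hT' h)
  have hcH' : c ∉ H' := fun h => hopp (by
    rw [Set.pair_comm]
    exact hT'.isPGroup_pair hc hm hT h)
  obtain ⟨i, hi⟩ := hT.shift x
  have hi1 : c ^ i ≠ 1 := fun h => hxH (hT.fixed_mem hc (by rw [hi, h, mul_one]))
  obtain ⟨k, hk⟩ := exists_pow_eq_of_ne hT.pow hi1 (Subgroup.mem_zpowers c)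
  obtain ⟨i', hi'⟩ := hT'.shift c
  have hi1' : x ^ i' ≠ 1 := fun h => hcH' (hT'.fixed_mem hc (by rw [hi', h, mul_one]))
  obtain ⟨k', hk'⟩ := exists_pow_eq_of_ne hT'.pow hi1' (inv_mem (Subgroup.mem_zpowers x))
  set T := t ^ k with hTdef
  set U := t' ^ k' with hUdef
  have hTx : T x = x * c := by rw [hTdef, hpowT t c x i hfixc hi, pow_mul, hk]
  have hfix' : t' x = x := hT'.fix x hT'.mem
  have hUc : U c = c * x⁻¹ := by rw [hUdef, hpowT t' x c i' hfix' hi', pow_mul, hk']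
  have hfixP : ∀ (u : MulAut E) (e : E), u e = e → ∀ n : ℕ, (u ^ n) e = e := by
    intro u e he n
    induction n with
    | zero => simp
    | succ n ih => rw [pow_succ', MulAut.mul_apply, ih, he]
  have hTc : T c = c := hfixP t c hfixc k
  have hUx : U x = x := hfixP t' x hfix' k'
  have hTn : ∀ n : ℕ, (T ^ n) x = x * c ^ n := fun n => by
    rw [hpowT T c x 1 hTc (by rw [hTx, pow_one]), one_mul]
  have hUn : ∀ n : ℕ, (U ^ n) c = c * (x⁻¹) ^ n := fun n => by
    rw [hpowT U x⁻¹ c 1 (by rw [map_inv, hUx]) (by rw [hUc, pow_one]), one_mul]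
  have hTcn := hfixP T c hTc
  have hUxn := hfixP U x hUx
  haveI : H'.Normal := inferInstance
  refine ⟨x, H ⊓ H', hxH, ⟨k, hTx⟩, inf_le_left, fun e he => ?_, fun l l' hll => ?_⟩
  · obtain ⟨n, hn⟩ := exists_pow_mem (A := H') (B := ⊤) le_top (by rw [Subgroup.card_top, hT'.idx])
      (Subgroup.mem_top c) hcH' (Subgroup.mem_top e)
    exact ⟨n, Subgroup.mem_inf.2 ⟨H.mul_mem (H.inv_mem (H.pow_mem hT.mem n)) he, hn⟩⟩
  have hW : ∀ a b : ℕ, ((a * b : ℕ) : ZMod p) = 1 →
      (T ^ a * U ^ b * T ^ a) x = c ^ a ∧ (T ^ a * U ^ b * T ^ a) c = (x ^ b)⁻¹ := by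
    intro a b hab
    have hab' : ∀ y : E, y ^ p = 1 → y ^ (a * b) = y := by
      intro y hy
      by_cases hy1 : y = 1
      · rw [hy1, one_pow]
      conv_rhs => rw [← pow_one y]
      exact (pow_eq_pow_iff hy hy1 _ _).2 (by rw [hab, Nat.cast_one])
    constructor
    · simp only [MulAut.mul_apply, hTn, map_mul, map_pow, hTcn, hUxn, hUn]
      simp only [mul_pow, ← pow_mul, mul_comm b a, map_inv, inv_pow, hTn]
      simp only [hab' x (hexp x)]
      rw [pow_mul c (a * b) a, hab' c (hexp c), mul_left_comm, mul_inv_cancel, mul_one]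
    · simp only [MulAut.mul_apply, hTn, map_mul, map_pow, hTcn, hUn, map_inv]
      simp only [mul_pow, mul_inv, inv_pow, ← pow_mul, hab' c (hexp c)]
      rw [mul_left_comm, mul_inv_cancel, mul_one]
  set a := (p - 1) * l with ha
  set b := (p - 1) * l' with hb
  have hm1 : ((p - 1 : ℕ) : ZMod p) = -1 := by
    rw [Nat.cast_sub hp.out.one_le, ZMod.natCast_self, Nat.cast_one, zero_sub]
  have hab : ((a * b : ℕ) : ZMod p) = 1 := by
    rw [Nat.cast_mul, ha, hb, Nat.cast_mul, Nat.cast_mul, hm1]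
    rw [Nat.cast_mul] at hll
    linear_combination hll
  have hinvpow : ∀ (y : E) (n : ℕ), (y ^ ((p - 1) * n))⁻¹ = y ^ n := fun y n => by
    rw [inv_eq_iff_mul_eq_one, ← pow_add, ← Nat.succ_mul, Nat.succ_eq_add_one,
      Nat.sub_add_cancel hp.out.one_le, pow_mul, hexp, one_pow]
  obtain ⟨hwx, hwc⟩ := hW a b hab
  obtain ⟨hux, huc⟩ := hW 1 1 (by simp)
  set h := (T ^ a * U ^ b * T ^ a) * (T ^ 1 * U ^ 1 * T ^ 1) with hhdef
  have hhc : h c = c ^ l := by
    rw [hhdef, MulAut.mul_apply, huc, map_inv, map_pow, hwx, pow_one, ha, hinvpow]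
  have hhx : h x = x ^ l' := by
    rw [hhdef, MulAut.mul_apply, hux, map_pow, hwc, pow_one, hb, hinvpow]
  have hmem : h ∈ w.aut E := by
    have hTm : T ∈ w.aut E := (w.aut E).pow_mem ht k
    have hUm : U ∈ w.aut E := (w.aut E).pow_mem ht' k'
    exact (w.aut E).mul_mem
      ((w.aut E).mul_mem ((w.aut E).mul_mem ((w.aut E).pow_mem hTm a) ((w.aut E).pow_mem hUm b))
        ((w.aut E).pow_mem hTm a))
      ((w.aut E).mul_mem ((w.aut E).mul_mem ((w.aut E).pow_mem hTm 1) ((w.aut E).pow_mem hUm 1))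
        ((w.aut E).pow_mem hTm 1))
  have hfD : ∀ d ∈ H ⊓ H', h d = d := by
    intro d hd
    obtain ⟨hd1, hd2⟩ := Subgroup.mem_inf.1 hd
    have h1 := hfixP T d (hfixP t d (hT.fix d hd1) k)
    have h2 := hfixP U d (hfixP t' d (hT'.fix d hd2) k')
    simp only [hhdef, MulAut.mul_apply, h1, h2]
  refine ⟨h, hmem, hhc, hhx, hfD, fun g => ?_⟩
  -- `h` normalises the inner automorphisms
  have hmap : ∀ e ∈ H, h e ∈ H := by
    intro e he
    obtain ⟨n, hn⟩ := exists_pow_mem (A := H') (B := ⊤) le_top (by rw [Subgroup.card_top, hT'.idx])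
      (Subgroup.mem_top c) hcH' (Subgroup.mem_top e)
    have hd : (c ^ n)⁻¹ * e ∈ H := H.mul_mem (H.inv_mem (H.pow_mem hT.mem n)) he
    have h1 := hfD _ (Subgroup.mem_inf.2 ⟨hd, hn⟩)
    rw [map_mul, map_inv, map_pow, hhc, inv_mul_eq_iff_eq_mul] at h1
    rw [h1]
    exact H.mul_mem (H.pow_mem (H.pow_mem hT.mem l) n) hd
  have hsurj : H.map h.toMonoidHom = H := Subgroup.eq_of_le_of_card_ge
    (by rintro _ ⟨e, he, rfl⟩; exact hmap e he)
    (by rw [Subgroup.card_map_of_injective h.injective])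
  have hC := hT.conj h
  rw [hsurj, hhc] at hC
  obtain ⟨j, hj⟩ := hC.shift x
  obtain ⟨n, hn⟩ := exists_pow_eq_of_ne hT.pow hi1
    (pow_mem (pow_mem (Subgroup.mem_zpowers c) l) j)
  have heq : h * t * h⁻¹ = t ^ n := by
    refine MulEquiv.ext fun e => ?_
    haveI : H.Normal := inferInstance
    obtain ⟨r, hr⟩ := exists_pow_mem (A := H) (B := ⊤) le_top (by rw [Subgroup.card_top, hT.idx])
      (Subgroup.mem_top x) hxH (Subgroup.mem_top e)
    have h1 := hC.fix _ hr
    have h2 := hfixP t _ (hT.fix _ hr) n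
    rw [map_mul, map_inv, map_pow, hj, inv_mul_eq_iff_eq_mul] at h1
    rw [map_mul, map_inv, map_pow, hpowT t c x i hfixc hi, pow_mul, hn, inv_mul_eq_iff_eq_mul] at h2
    rw [h1, h2]
  obtain ⟨r, hr⟩ := hgen g
  refine ⟨g₀ ^ (n * r), ?_⟩
  rw [hr, ← conj_pow, heq, map_pow, hg₀, pow_mul]

end H62.PFive
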