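import Cfsg.Agent.H62.PFive.Conf
import Cfsg.Agent.H62.PFive.Torus

/-!
From one transvection to the configuration, and general lemmas for the two cases.
-/

set_option autoImplicit false
set_option linter.unusedSectionVars false
set_option linter.style.haveILetI false
set_option linter.deprecated false

open scoped commutatorElement

namespace H62.PFive

universe u

variable {G : Type u} [Group G] [Finite G] {p : ℕ} [hp : Fact p.Prime] {w : World G p}
  {E : Subgroup G}

theorem cj_eq_one (hc : ∀ a b : E, a * b = b * a) (g : Subgroup.normalizer (E : Set G))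
    (hg : (g : G) ∈ E) : World.cj E g = 1 := by
  refine MulEquiv.ext fun x => Subtype.ext ?_
  rw [World.cj_apply]
  have := congrArg Subtype.val (hc ⟨_, hg⟩ x)
  simp only [Subgroup.coe_mul] at this
  rw [this, mul_inv_cancel_right]
  rfl

theorem cj_moves (hcent : Subgroup.centralizer (E : Set G) ≤ E)
    (g : Subgroup.normalizer (E : Set G)) (hg : (g : G) ∉ E) : ∃ x, World.cj E g x ≠ x := by
  by_contra hall
  push Not at hall
  refine hg (hcent (Subgroup.mem_centralizer_iff.2 fun x hx => ?_))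
  have h1 := congrArg Subtype.val (hall ⟨x, hx⟩)
  rw [World.cj_apply] at h1
  exact (mul_inv_eq_iff_eq_mul.1 h1).symm

theorem cj_gen (hc : ∀ a b : E, a * b = b * a)
    (hcardN : Nat.card (Subgroup.normalizer (E : Set G)) = p * Nat.card E)
    (g₀ : Subgroup.normalizer (E : Set G)) (hg₀ : (g₀ : G) ∉ E)
    (g : Subgroup.normalizer (E : Set G)) : ∃ k : ℕ, World.cj E g = World.cj E g₀ ^ k := by
  obtain ⟨k, hk⟩ := exists_pow_mem' Subgroup.le_normalizer le_rfl hcardN g₀.2 hg₀ g.2
  refine ⟨k, ?_⟩
  rw [← map_pow, ← inv_mul_eq_one, ← map_inv, ← map_mul]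
  refine cj_eq_one hc _ ?_
  simpa using E.inv_mem hk

theorem Tr.shift_pow {t : MulAut E} {c : E} {H : Subgroup E} (h : Tr p t c H) (k : ℕ) (e : E) :
    ∃ j : ℕ, (t ^ k) e = e * c ^ j := by
  induction k with
  | zero => exact ⟨0, by simp⟩
  | succ k ih =>
    obtain ⟨j, hj⟩ := ih
    obtain ⟨i, hi⟩ := h.shift e
    exact ⟨i + j, by rw [pow_succ', MulAut.mul_apply, hj, map_mul, map_pow, h.fix c h.mem, hi,
      mul_assoc, pow_add]⟩

/-- The configuration given by one transvection generating the inner automorphisms. -/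
theorem Ess.conf (hG : IsPGroup p G) (hE : Ess w E) (hc : ∀ a b : E, a * b = b * a) {m : ℕ}
    (hm : Nat.card E = p ^ m) (hexp : ∀ a : E, a ^ p = 1) {t : MulAut E} {c : E} {H : Subgroup E}
    (hT : Tr p t c H) {g₀ : Subgroup.normalizer (E : Set G)} (hg₀ : World.cj E g₀ = t)
    (hgen : ∀ g, ∃ k : ℕ, World.cj E g = t ^ k) (hHn : (H.map E.subtype).Normal)
    (hcentral : ∀ n ∈ Subgroup.normalizer (E : Set G), ∀ h ∈ H.map E.subtype, n * h = h * n)
    (hcardH : Nat.card H ≤ p ^ 2)
    (hcardN : Nat.card (Subgroup.normalizer (E : Set G)) = p * Nat.card E)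
    (hcardM : Nat.card (Subgroup.normalizer (Subgroup.normalizer (E : Set G) : Set G)) =
      p * Nat.card (Subgroup.normalizer (E : Set G)))
    (hfnN : w.FN (Subgroup.normalizer (E : Set G))) :
    ∃ (x : G) (D : Subgroup G), Conf w E (H.map E.subtype) D x (c : G) ∧
      ∀ h ∈ H.map E.subtype, ∃ k : ℕ, ((c : G) ^ k)⁻¹ * h ∈ D := by
  obtain ⟨x, D, hxH, -, hDH, hspan, htor⟩ := hE.torus hG hc hm hexp hT hg₀ hgen
  refine ⟨x, D.map E.subtype,
    { hle := Subgroup.map_subtype_le H
      normH := hHn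
      xE := x.2
      xH := fun h => hxH ((Subgroup.mem_map_iff_mem E.subtype_injective).1 h)
      xp := by rw [← Subgroup.coe_pow, hexp, Subgroup.coe_one]
      cH := Subgroup.mem_map_of_mem E.subtype hT.mem
      c1 := fun h => hT.ne (Subtype.ext h)
      cp := by rw [← Subgroup.coe_pow, hT.pow, Subgroup.coe_one]
      dle := Subgroup.map_mono hDH
      idx := by rw [Subgroup.card_map_of_injective E.subtype_injective]; exact hT.idx
      cardH := by rw [Subgroup.card_map_of_injective E.subtype_injective]; exact hcardH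
      cent := hE.cent
      fn := hE.fn
      fnN := hfnN
      cardN := hcardN
      cardM := hcardM
      central := hcentral
      shift := fun n hn => ?_
      torus := fun l l' hll => ?_ }, ?_⟩
  · obtain ⟨k, hk⟩ := hgen ⟨n, hn⟩
    obtain ⟨j, hj⟩ := hT.shift_pow k x
    have h1 : ((World.cj E ⟨n, hn⟩ x : E) : G) = (x : G) * (c : G) ^ j := by
      rw [hk, hj]; rfl
    rw [World.cj_apply] at h1
    rw [commutatorElement_def, show n * (x : G) * n⁻¹ = (x : G) * (c : G) ^ j from h1]
    have hcomm : Commute (x : G) ((c : G) ^ j) := by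
      have := congrArg Subtype.val (hc x (c ^ j))
      simp only [Subgroup.coe_mul, Subgroup.coe_pow] at this
      exact this
    rw [hcomm.eq, mul_inv_cancel_right]
    exact pow_mem (Subgroup.mem_zpowers _) j
  · obtain ⟨α, hα, hαc, hαx, hαd, hαn⟩ := htor l l' hll
    obtain ⟨β, hβ, hβx⟩ := w.extend_aut hE.fn hα hαn
    have hb : ∀ y : E, app β (y : G) = ((α y : E) : G) := fun y => by
      rw [app_eq β (Subgroup.le_normalizer y.2)]
      exact hβx y
    refine ⟨β, hβ, ?_, ?_, ?_, ?_⟩
    · rw [hb, hαc]; rfl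
    · rw [hb, hαx]; rfl
    · rintro _ ⟨d, hd, rfl⟩
      show app β (d : G) = d
      rw [hb, hαd d hd]
    · rintro _ ⟨h, hh, rfl⟩
      obtain ⟨k, hk⟩ := hspan h hh
      refine ⟨α h, ?_, (hb h).symm⟩
      have h1 := hαd _ hk
      rw [map_mul, map_inv, map_pow, hαc, inv_mul_eq_iff_eq_mul] at h1
      rw [h1]
      exact H.mul_mem (H.pow_mem (H.pow_mem hT.mem l) k) (hDH hk)
  · rintro _ ⟨h, hh, rfl⟩
    obtain ⟨k, hk⟩ := hspan h hh
    exact ⟨k, ⟨_, hk, rfl⟩⟩

/-- No subgroup of order `p ^ 4` with a central subgroup of order `p ^ 3`. -/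
theorem false_of_central_big (hno : ∀ A : Subgroup G, Nat.card A = p ^ 4 → ¬ IsMulCommutative A)
    {A B : Subgroup G} (hA : Nat.card A = p ^ 4) (hBA : B ≤ A) (hB : p ^ 3 ≤ Nat.card B)
    (hcen : ∀ a ∈ A, ∀ b ∈ B, a * b = b * a) : False := by
  have hle : B.subgroupOf A ≤ Subgroup.center A := fun b hb => Subgroup.mem_center_iff.2 fun a =>
    Subtype.ext (hcen a a.2 b (Subgroup.mem_subgroupOf.1 hb))
  have hcz : p ^ 3 ≤ Nat.card (Subgroup.center A) := by
    refine hB.trans ?_
    rw [← card_subgroupOf_eq hBA]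
    exact Nat.le_of_dvd Nat.card_pos (Subgroup.card_dvd_of_le hle)
  have hq : IsCyclic (A ⧸ Subgroup.center A) := by
    have h1 := Subgroup.card_eq_card_quotient_mul_card_subgroup (Subgroup.center A)
    rw [hA] at h1
    obtain ⟨k, hk⟩ := IsPGroup.iff_card.1
      ((IsPGroup.of_card hA).to_quotient (Subgroup.center A))
    have hle1 : p ^ k * p ^ 3 ≤ p * p ^ 3 := by
      calc p ^ k * p ^ 3 ≤ p ^ k * Nat.card (Subgroup.center A) := Nat.mul_le_mul_left _ hcz
        _ = p * p ^ 3 := by rw [← hk, ← h1, ← pow_succ']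
    have hk1 : k ≤ 1 := (Nat.pow_le_pow_iff_right hp.out.one_lt).1
      ((Nat.le_of_mul_le_mul_right hle1 (pow_pos hp.out.pos 3)).trans (pow_one p).ge)
    rcases (show k = 0 ∨ k = 1 by omega) with rfl | rfl
    · rw [pow_zero] at hk
      haveI := (Nat.card_eq_one_iff_unique.1 hk).1
      exact isCyclic_of_subsingleton
    · exact isCyclic_of_prime_card (hk.trans (pow_one p))
  exact hno A hA ⟨⟨fun a b => commutative_of_cyclic_center_quotient
    (QuotientGroup.mk' (Subgroup.center A)) (by rw [QuotientGroup.ker_mk']) a b⟩⟩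

theorem index_of_coatom (hG : IsPGroup p G) {M : Subgroup G} (hM : IsCoatom M) [M.Normal] :
    M.index = p := by
  have hnt : Nontrivial (G ⧸ M) := QuotientGroup.nontrivial_iff.2 hM.1
  have hQ := hG.to_quotient M
  obtain ⟨a, ha⟩ := exists_prime_orderOf_dvd_card' (G := G ⧸ M) p (by
    rcases hQ.card_eq_or_dvd with h | h
    · exact absurd h (ne_of_gt Finite.one_lt_card)
    · exact h)
  have htop : (Subgroup.zpowers a).comap (QuotientGroup.mk' M) = ⊤ := by
    refine hM.2 _ (lt_of_le_of_ne (fun m hm => Subgroup.mem_comap.2 ?_) fun h => ?_)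
    · rw [QuotientGroup.mk'_apply, (QuotientGroup.eq_one_iff m).2 hm]
      exact one_mem _
    · obtain ⟨b, rfl⟩ := QuotientGroup.mk'_surjective M a
      have hb : b ∈ M := h ▸ Subgroup.mem_comap.2 (Subgroup.mem_zpowers _)
      rw [QuotientGroup.mk'_apply, (QuotientGroup.eq_one_iff b).2 hb, orderOf_one] at ha
      exact hp.out.one_lt.ne ha
  have htop' : Subgroup.zpowers a = ⊤ := by
    refine eq_top_iff.2 fun y _ => ?_
    obtain ⟨b, rfl⟩ := QuotientGroup.mk'_surjective M y
    exact Subgroup.mem_comap.1 (htop ▸ Subgroup.mem_top b)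
  rw [Subgroup.index_eq_card, ← ha, ← Nat.card_zpowers, htop', Subgroup.card_top]

/-- Cubes of a product in class two. -/
theorem mul_pow_three {A : Type*} [Group A] {a b z : A} (h : b * a = z * a * b) (ha : Commute z a)
    (hb : Commute z b) : (a * b) ^ 3 = z ^ 3 * (a ^ 3 * b ^ 3) := by
  have h0 : b * a = z * a * b := h
  calc (a * b) ^ 3 = a * (b * a) * (b * a) * b := by
        simp only [pow_succ, pow_zero, one_mul, mul_assoc]
    _ = a * (z * a * b) * (z * a * b) * b := by rw [h0]
    _ = (a * z) * a * (b * z) * a * b * b := by simp only [mul_assoc]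
    _ = z * a * a * (z * b) * a * b * b := by rw [← ha.eq, ← hb.eq]
    _ = z * (a * a * z) * (b * a) * b * b := by simp only [mul_assoc]
    _ = z * (z * (a * a)) * (z * a * b) * b * b := by rw [h0, (ha.mul_right ha).eq]
    _ = z * z * (a * a * z) * a * b * b * b := by simp only [mul_assoc]
    _ = z * z * (z * (a * a)) * a * b * b * b := by rw [(ha.mul_right ha).eq]
    _ = z ^ 3 * (a ^ 3 * b ^ 3) := by simp only [pow_succ, pow_zero, one_mul, mul_assoc]

/-- An automorphism of `⊤` as one of the group. -/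
def topAut (β : MulAut (⊤ : Subgroup G)) : MulAut G :=
  (Subgroup.topEquiv.symm.trans β).trans Subgroup.topEquiv

theorem topAut_apply (β : MulAut (⊤ : Subgroup G)) (x : G) : topAut β x = app β x := by
  rw [app_eq β (Subgroup.mem_top x)]
  rfl

end H62.PFive
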