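import Cfsg.Agent.H62.PFive.Setup
import Cfsg.Agent.H62.PFive.Step

/-!
The configuration for a non-normal essential subgroup of order `p ^ 3`.
-/

set_option autoImplicit false
set_option linter.unusedSectionVars false
set_option linter.style.haveILetI false

open scoped commutatorElement

namespace H62.PFive

universe u

variable {G : Type u} [Group G] [Finite G] {p : ℕ} [hp : Fact p.Prime] {w : World G p}
  {E : Subgroup G}

theorem Ess.top_setup (hG : IsPGroup p G) (hE : Ess w E) (hc : ∀ a b : E, a * b = b * a)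
    (hexp : ∀ a : E, a ^ p = 1) (h5 : Nat.card G = p ^ 5) (h3 : Nat.card E = p ^ 3)
    (hn : ¬ E.Normal) :
    ∃ (H D : Subgroup G) (x c d : G), Conf w E H D x c ∧ Nat.card H = p ^ 2 ∧ d ∈ D ∧
      d ∉ Subgroup.zpowers c ∧
      Subgroup.normalizer (Subgroup.normalizer (E : Set G) : Set G) = ⊤ := by
  haveI := hG.isNilpotent
  have hp1 := hp.out.one_lt
  set N := Subgroup.normalizer (E : Set G) with hN
  have hEN : E ≤ N := Subgroup.le_normalizer
  have hEtop : E < ⊤ := lt_top_iff_ne_top.2 fun h => hn (h ▸ inferInstance)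
  have hEltN : E < N := Group.normalizerCondition_of_isNilpotent E hEtop
  have hNtop : N ≠ ⊤ := fun h => hn (Subgroup.normalizer_eq_top_iff.1 h)
  have hcN : Nat.card N = p ^ 4 := by
    obtain ⟨k, hk5, hk⟩ := (Nat.dvd_prime_pow hp.out).1 (h5 ▸ Subgroup.card_subgroup_dvd_card N)
    have h3k : 3 < k := by
      by_contra h
      refine hEltN.ne (Subgroup.eq_of_le_of_card_ge hEN ?_)
      rw [hk, h3]
      exact Nat.pow_le_pow_right hp.out.pos (by omega)
    have : k ≠ 5 := fun h => hNtop (Subgroup.eq_top_of_card_eq N (by rw [hk, h, h5]))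
    rw [hk, show k = 4 by omega]
  have hcardN : Nat.card N = p * Nat.card E := by rw [hcN, h3]; ring
  have hMtop : Subgroup.normalizer (N : Set G) = ⊤ := by
    have hlt := Group.normalizerCondition_of_isNilpotent N (lt_top_iff_ne_top.2 hNtop)
    obtain ⟨k, hk5, hk⟩ := (Nat.dvd_prime_pow hp.out).1
      (h5 ▸ Subgroup.card_subgroup_dvd_card (Subgroup.normalizer (N : Set G)))
    refine Subgroup.eq_top_of_card_eq _ ?_
    have : 4 < k := by
      by_contra h
      refine hlt.ne (Subgroup.eq_of_le_of_card_ge Subgroup.le_normalizer ?_)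
      rw [hk, hcN]
      exact Nat.pow_le_pow_right hp.out.pos (by omega)
    rw [hk, h5, show k = 5 by omega]
  haveI hNn : N.Normal := Subgroup.normalizer_eq_top_iff.1 hMtop
  have hcM : Nat.card (Subgroup.normalizer (N : Set G)) = p * Nat.card N := by
    rw [hMtop, Subgroup.card_top, h5, hcN]; ring
  obtain ⟨s, hs⟩ : ∃ s, s ∉ N := by
    by_contra h
    push Not at h
    exact hNtop (eq_top_iff.2 fun g _ => h g)
  -- the conjugate `E'`
  set E' : Subgroup G := E.map (MulAut.conj s).toMonoidHom with hE'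
  have hE'N : E' ≤ N := by
    rintro _ ⟨e, he, rfl⟩
    exact hNn.conj_mem e (hEN he) s
  have hE'c : Nat.card E' = p ^ 3 := by
    rw [hE', Subgroup.card_map_of_injective (MulAut.conj s).injective, h3]
  have hne : ¬ E' ≤ E := by
    intro h
    refine hs (H85.mem_normalizer_of_conj fun y hy => ?_)
    exact h ⟨y, hy, rfl⟩
  set H : Subgroup G := E ⊓ E' with hH
  have hH2 : Nat.card H = p ^ 2 := by
    have h1 : Nat.card (H.subgroupOf E') * H.relIndex E' = Nat.card E' :=
      (H.subgroupOf E').card_mul_index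
    rw [card_subgroupOf_eq (inf_le_right : H ≤ E'), hE'c] at h1
    have h2 : H.relIndex E' ≤ p := by
      rw [hH, Subgroup.inf_relIndex_right]
      have h4 : E.relIndex N = p := by
        have h5 : Nat.card (E.subgroupOf N) * E.relIndex N = Nat.card N :=
          (E.subgroupOf N).card_mul_index
        rw [card_subgroupOf_eq hEN, hcardN, mul_comm p] at h5
        exact Nat.eq_of_mul_eq_mul_left Nat.card_pos h5
      rw [← h4]
      exact Subgroup.relIndex_le_of_le_right hE'N (by rw [h4]; exact hp.out.ne_zero)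
    obtain ⟨k, hk3, hk⟩ := (Nat.dvd_prime_pow hp.out).1 (hE'c ▸
      Subgroup.card_dvd_of_le (inf_le_right : H ≤ E'))
    have hk' : k ≠ 3 := fun h => hne fun y hy => by
      have : H = E' := Subgroup.eq_of_le_of_card_ge inf_le_right (by rw [hk, hE'c, h])
      exact (this.symm ▸ hy : y ∈ H).1
    have : 2 ≤ k := by
      by_contra h
      have h6 : p ^ 3 ≤ p ^ k * p := by rw [← h1, hk]; exact Nat.mul_le_mul_left _ h2
      rw [← pow_succ] at h6
      exact absurd ((Nat.pow_le_pow_iff_right hp1).1 h6) (by omega)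
    rw [hk, show k = 2 by omega]
  have hHE : H ≤ E := inf_le_left
  have hE'c' : ∀ a ∈ E', ∀ b ∈ E', a * b = b * a := by
    rintro _ ⟨a, ha, rfl⟩ _ ⟨b, hb, rfl⟩
    have h := congrArg Subtype.val (hc ⟨a, ha⟩ ⟨b, hb⟩)
    simp only [Subgroup.coe_mul] at h
    rw [← map_mul, ← map_mul, h]
  have hgenN : E ⊔ E' = N := by
    refine Subgroup.eq_of_le_of_card_ge (sup_le hEN hE'N) ?_
    obtain ⟨k, hk5, hk⟩ := (Nat.dvd_prime_pow hp.out).1 (h5 ▸ Subgroup.card_subgroup_dvd_card (E ⊔ E'))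
    have : 3 < k := by
      by_contra h
      refine hne ?_
      have h7 : E = E ⊔ E' := Subgroup.eq_of_le_of_card_ge le_sup_left (by
        rw [hk, h3]; exact Nat.pow_le_pow_right hp.out.pos (by omega))
      exact h7 ▸ le_sup_right
    rw [hk, hcN]
    exact Nat.pow_le_pow_right hp.out.pos (by omega)
  have hcentral : ∀ n ∈ N, ∀ h ∈ H, n * h = h * n := by
    intro n hn h hh
    have : N ≤ Subgroup.centralizer ({h} : Set G) := by
      rw [← hgenN]
      refine sup_le (fun e he => Subgroup.mem_centralizer_singleton_iff.2 ?_)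
        fun e he => Subgroup.mem_centralizer_singleton_iff.2 (hE'c' e he h hh.2)
      exact congrArg Subtype.val (hc ⟨e, he⟩ ⟨h, hh.1⟩)
    exact Subgroup.mem_centralizer_singleton_iff.1 (this hn)
  haveI hHn : H.Normal := by
    refine ⟨fun h hh g => ?_⟩
    have hcomm : ∀ y ∈ N, y * (g * h * g⁻¹) = g * h * g⁻¹ * y := by
      intro y hy
      have h1 := hcentral _ (hNn.conj_mem y hy g⁻¹) h hh
      rw [inv_inv] at h1
      calc y * (g * h * g⁻¹) = g * ((g⁻¹ * y * g) * h) * g⁻¹ := by group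
        _ = g * (h * (g⁻¹ * y * g)) * g⁻¹ := by rw [h1]
        _ = g * h * g⁻¹ * y := by group
    refine ⟨hE.cent (Subgroup.mem_centralizer_iff.2 fun y hy => hcomm y (hEN hy)), ?_⟩
    refine ⟨s⁻¹ * (g * h * g⁻¹) * s, hE.cent (Subgroup.mem_centralizer_iff.2 fun y hy => ?_), ?_⟩
    · have h1 := hcomm _ (hE'N ⟨y, hy, rfl⟩)
      simp only [MulEquiv.toMonoidHom_eq_coe, MonoidHom.coe_coe, MulAut.conj_apply] at h1
      calc y * (s⁻¹ * (g * h * g⁻¹) * s) = s⁻¹ * ((s * y * s⁻¹) * (g * h * g⁻¹)) * s := by group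
        _ = s⁻¹ * (g * h * g⁻¹ * (s * y * s⁻¹)) * s := by rw [h1]
        _ = s⁻¹ * (g * h * g⁻¹) * s * y := by group
    · show s * (s⁻¹ * (g * h * g⁻¹) * s) * s⁻¹ = _
      group
  -- the transvection
  obtain ⟨g₁, hg₁E', hg₁E⟩ := SetLike.not_le_iff_exists.1 hne
  set g₀ : N := ⟨g₁, hE'N hg₁E'⟩ with hg₀
  set t : MulAut E := World.cj E g₀ with ht
  set HE : Subgroup E := H.subgroupOf E with hHE'
  have hmap : HE.map E.subtype = H := Subgroup.map_subgroupOf_eq_of_le hHE
  have hHEc : Nat.card HE = p ^ 2 := by rw [hHE', card_subgroupOf_eq hHE, hH2]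
  have hfix : ∀ h ∈ HE, t h = h := fun h hh => Subtype.ext (by
    rw [ht, World.cj_apply, hcentral _ g₀.2 (h : G) (Subgroup.mem_subgroupOf.1 hh), mul_inv_cancel_right])
  have hidx : Nat.card E = p * Nat.card HE := by rw [h3, hHEc]; ring
  haveI : HE.Normal := ⟨fun a ha b => by rwa [hc b a, mul_inv_cancel_right]⟩
  obtain ⟨x₀, hx₀⟩ := cj_moves hE.cent g₀ hg₁E
  have hx₀H : x₀ ∉ HE := fun h => hx₀ (hfix x₀ h)
  set c : E := t x₀ * x₀⁻¹ with hcdef
  have hstepH : ∀ e : E, t e * e⁻¹ ∈ HE := by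
    intro e
    rw [Subgroup.mem_subgroupOf, Subgroup.coe_mul, Subgroup.coe_inv, ht, World.cj_apply]
    refine ⟨E.mul_mem ((World.cj E g₀ e).2) (E.inv_mem e.2), ?_⟩
    have hk : ∀ n ∈ N, n * g₁ * n⁻¹ ∈ E' := by
      intro n hn
      obtain ⟨e', he', hee⟩ := hg₁E'
      have h2 : s⁻¹ * n * s ∈ N := by simpa using hNn.conj_mem n hn s⁻¹
      refine ⟨(s⁻¹ * n * s) * e' * (s⁻¹ * n * s)⁻¹, H85.conj_mem_of_mem_normalizer h2 he', ?_⟩
      rw [← hee]
      show s * _ * s⁻¹ = n * (s * e' * s⁻¹) * n⁻¹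
      group
    have h1 := E'.mul_mem hg₁E' (E'.inv_mem (hk _ (hEN e.2)))
    show g₁ * (e : G) * g₁⁻¹ * (e : G)⁻¹ ∈ E'
    rw [show g₁ * (e : G) * g₁⁻¹ * (e : G)⁻¹ = g₁ * ((e : G) * g₁ * (e : G)⁻¹)⁻¹ by group]
    exact h1
  have hcH : c ∈ HE := hstepH x₀
  have hc1 : c ≠ 1 := fun h => hx₀ (mul_inv_eq_one.1 h)
  have hT : Tr p t c HE :=
    { fix := hfix
      shift := fun e => by
        obtain ⟨k, hk⟩ := exists_pow_mem (A := HE) (B := ⊤) le_top
          (by rw [Subgroup.card_top]; exact hidx) (Subgroup.mem_top x₀) hx₀H (Subgroup.mem_top e)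
        refine ⟨k, ?_⟩
        have h1 := hfix _ hk
        have htx : t x₀ = x₀ * c := by rw [hc x₀ c, hcdef, inv_mul_cancel_right]
        rw [map_mul, map_inv, map_pow, htx, Commute.mul_pow (hc x₀ c), inv_mul_eq_iff_eq_mul] at h1
        rw [h1, hc (x₀ ^ k) (c ^ k), mul_assoc, mul_inv_cancel_left, hc]
      mem := hcH
      ne := hc1
      pow := hexp c
      idx := hidx
      moves := ⟨x₀, hx₀⟩ }
  obtain ⟨x, D, hC, hspan⟩ := hE.conf hG hc h3 hexp hT (g₀ := g₀) rfl
    (cj_gen hc hcardN g₀ hg₁E) (by rw [hmap]; exact hHn) (by rw [hmap]; exact hcentral)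
    (by rw [hHEc]) hcardN hcM (w.fn_of_normal hNn)
  rw [hmap] at hC hspan
  obtain ⟨h, hh, hhc⟩ : ∃ h ∈ H, h ∉ Subgroup.zpowers (c : G) := by
    by_contra hall
    push Not at hall
    have := Nat.le_of_dvd Nat.card_pos (Subgroup.card_dvd_of_le (show H ≤ Subgroup.zpowers (c : G) from hall))
    rw [hH2, Nat.card_zpowers, orderOf_eq_prime hC.cp hC.c1, sq] at this
    have := hp.out.two_le
    nlinarith
  obtain ⟨k, hk⟩ := hspan h hh
  refine ⟨H, D, x, c, _, hC, hH2, hk, fun h1 => hhc ?_, hMtop⟩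
  simpa using (Subgroup.zpowers (c : G)).mul_mem (pow_mem (Subgroup.mem_zpowers (c : G)) k) h1

end H62.PFive
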